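import Cfsg.Agent.Lib.Walter.RankFour.BigCycle

/-!
# The linear lemma, the field step

In the situation of `BigCommutator`, written additively: the subring generated by an abelian normal
subgroup has no zero divisors on `W`, and `g` centralizes it.
-/

set_option autoImplicit false

namespace CfsgLib.Walter.RankFour.Big

universe u

variable {W : Type u} [AddCommGroup W] [Finite W] {G : Type u} [Group G] [Finite G]

theorem mulE (x y : AddMonoid.End W) (w : W) : (x * y) w = x (y w) := rfl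
theorem oneE (w : W) : (1 : AddMonoid.End W) w = w := rfl
theorem subE (x y : AddMonoid.End W) (w : W) : (x - y) w = x w - y w := rfl
theorem addE (x y : AddMonoid.End W) (w : W) : (x + y) w = x w + y w := rfl
theorem zeroE (w : W) : (0 : AddMonoid.End W) w = 0 := rfl

theorem powE (x : AddMonoid.End W) (n : ℕ) (w : W) : (x ^ (n + 1)) w = x ((x ^ n) w) := by
  rw [pow_succ', mulE]

instance finiteEnd : Finite (AddMonoid.End W) :=
  Finite.of_injective (fun f : AddMonoid.End W => (f : W → W)) fun _ _ h => DFunLike.coe_injective h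

/-- The data of `BigCommutator` in additive form. -/
structure Datum (ρ : G →* AddMonoid.End W) (g : G) (U T : AddSubgroup W) : Prop where
  inj : Function.Injective ρ
  odd : Odd (Nat.card G)
  two : ∀ w : W, w + w = 0
  card_W : 16 ≤ Nat.card W
  irr : ∀ X : AddSubgroup W, (∀ a, ∀ x ∈ X, ρ a x ∈ X) → X = ⊥ ∨ X = ⊤
  mem_U : ∀ w, w ∈ U ↔ ρ g w = w
  mem_T : ∀ w ∈ T, ρ g w ∈ T
  compl : IsCompl U T
  four : 4 ≤ Nat.card T
  ord : orderOf g = Nat.card T - 1
  ne_bot : U ≠ ⊥
  le : Nat.card U ≤ Nat.card T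

/-- The subring generated by the image of `N`. -/
def hull (ρ : G →* AddMonoid.End W) (N : Subgroup G) : Subring (AddMonoid.End W) :=
  Subring.closure (ρ '' (N : Set G))

variable {ρ : G →* AddMonoid.End W} {g : G} {U T : AddSubgroup W}

theorem inv_apply (x : G) (w : W) : ρ x⁻¹ (ρ x w) = w := by
  rw [← mulE, ← map_mul, inv_mul_cancel, map_one, oneE]

theorem apply_inv (x : G) (w : W) : ρ x (ρ x⁻¹ w) = w := by
  rw [← mulE, ← map_mul, mul_inv_cancel, map_one, oneE]

theorem injective_apply (x : G) : Function.Injective (ρ x) := fun v w h => by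
  simpa only [inv_apply] using congrArg (ρ x⁻¹) h

theorem mem_hull {N : Subgroup G} {x : G} (hx : x ∈ N) : ρ x ∈ hull ρ N :=
  Subring.subset_closure ⟨x, hx, rfl⟩

theorem commute_hull {N : Subgroup G} {a : AddMonoid.End W} (h : ∀ x ∈ N, a * ρ x = ρ x * a)
    {r : AddMonoid.End W} (hr : r ∈ hull ρ N) : a * r = r * a := by
  induction hr using Subring.closure_induction with
  | mem x hx => obtain ⟨y, hy, rfl⟩ := hx; exact h y hy
  | zero => simp
  | one => simp
  | add x y _ _ hx hy => rw [mul_add, add_mul, hx, hy]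
  | neg x _ hx => rw [mul_neg, neg_mul, hx]
  | mul x y _ _ hx hy => rw [← mul_assoc, hx, mul_assoc, hy, ← mul_assoc]

theorem hull_comm {N : Subgroup G} (hab : ∀ x ∈ N, ∀ y ∈ N, x * y = y * x) {r s : AddMonoid.End W}
    (hr : r ∈ hull ρ N) (hs : s ∈ hull ρ N) : r * s = s * r :=
  (commute_hull (fun x hx => (commute_hull (fun y hy => by rw [← map_mul, ← map_mul, hab x hx y hy])
    hr).symm) hs)

theorem conj_hull {N : Subgroup G} [hN : N.Normal] (x : G) {r : AddMonoid.End W} (hr : r ∈ hull ρ N) :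
    ρ x * r * ρ x⁻¹ ∈ hull ρ N := by
  induction hr using Subring.closure_induction with
  | mem s hs =>
    obtain ⟨y, hy, rfl⟩ := hs
    rw [← map_mul, ← map_mul]
    exact mem_hull (hN.conj_mem y hy x)
  | zero => simp
  | one => rw [mul_one, ← map_mul, mul_inv_cancel, map_one]; exact Subring.one_mem _
  | add a b _ _ ha hb => rw [mul_add, add_mul]; exact add_mem ha hb
  | neg a _ ha => rw [mul_neg, neg_mul]; exact neg_mem ha
  | mul a b _ _ ha hb =>
    have e : ρ x * (a * b) * ρ x⁻¹ = (ρ x * a * ρ x⁻¹) * (ρ x * b * ρ x⁻¹) := by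
      have h : ρ x⁻¹ * ρ x = 1 := by rw [← map_mul, inv_mul_cancel, map_one]
      calc ρ x * (a * b) * ρ x⁻¹ = ρ x * a * 1 * b * ρ x⁻¹ := by simp [mul_assoc]
        _ = _ := by rw [← h]; simp [mul_assoc]
    rw [e]; exact mul_mem ha hb

namespace Datum

theorem neg_eq (d : Datum ρ g U T) (w : W) : -w = w :=
  neg_eq_of_add_eq_zero_left (d.two w)

theorem exists_decomp (d : Datum ρ g U T) (w : W) : ∃ v ∈ U, ∃ t ∈ T, v + t = w :=
  AddSubgroup.mem_sup.mp (d.compl.sup_eq_top ▸ AddSubgroup.mem_top w)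

theorem eq_zero (d : Datum ρ g U T) {w : W} (hU : w ∈ U) (hT : w ∈ T) : w = 0 :=
  AddSubgroup.disjoint_def.mp d.compl.disjoint hU hT

theorem decomp_unique (d : Datum ρ g U T) {v v' t t' : W} (hv : v ∈ U) (hv' : v' ∈ U) (ht : t ∈ T)
    (ht' : t' ∈ T) (h : v + t = v' + t') : v = v' ∧ t = t' := by
  have h' : v - v' = t' - t := by rw [sub_eq_sub_iff_add_eq_add, h, add_comm t' v']
  have := d.eq_zero (sub_mem hv hv') (h' ▸ sub_mem ht' ht)
  refine ⟨sub_eq_zero.mp this, ?_⟩
  rw [this] at h'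
  exact (sub_eq_zero.mp h'.symm).symm

theorem card_eq (d : Datum ρ g U T) : Nat.card W = Nat.card U * Nat.card T := by
  rw [← Nat.card_prod]
  refine (Nat.card_congr (Equiv.ofBijective (fun p : U × T => (p.1 : W) + p.2) ⟨?_, ?_⟩)).symm
  · rintro ⟨a, b⟩ ⟨a', b'⟩ h
    obtain ⟨h1, h2⟩ := d.decomp_unique a.2 a'.2 b.2 b'.2 h
    exact Prod.ext (Subtype.ext h1) (Subtype.ext h2)
  · intro w
    obtain ⟨v, hv, t, ht, h⟩ := d.exists_decomp w
    exact ⟨(⟨v, hv⟩, ⟨t, ht⟩), h⟩

theorem card_W_le (d : Datum ρ g U T) : Nat.card W ≤ Nat.card T * Nat.card T :=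
  d.card_eq ▸ Nat.mul_le_mul_right _ d.le

theorem pow_mem_T (d : Datum ρ g U T) (j : ℕ) : ∀ w ∈ T, ρ (g ^ j) w ∈ T := by
  induction j with
  | zero => intro w hw; rw [pow_zero, map_one, oneE]; exact hw
  | succ j ih => intro w hw; rw [pow_succ', map_mul, mulE]; exact d.mem_T _ (ih w hw)

theorem pow_fix (d : Datum ρ g U T) (j : ℕ) : ∀ w ∈ U, ρ (g ^ j) w = w := by
  induction j with
  | zero => intro w _; rw [pow_zero, map_one, oneE]
  | succ j ih => intro w hw; rw [pow_succ, map_mul, mulE, (d.mem_U w).mp hw, ih w hw]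

theorem ne_one (d : Datum ρ g U T) : g ≠ 1 := fun h => by
  have := d.ord
  have := d.four
  rw [h, orderOf_one] at *
  omega

/-- A power of `g` fixing `T` pointwise is trivial. -/
theorem pow_eq_one (d : Datum ρ g U T) {j : ℕ} (h : ∀ t ∈ T, ρ (g ^ j) t = t) : g ^ j = 1 := by
  refine d.inj (DFunLike.ext _ _ fun w => ?_)
  obtain ⟨v, hv, t, ht, rfl⟩ := d.exists_decomp w
  rw [map_add, d.pow_fix j v hv, h t ht, map_one, oneE]

theorem exists_zmod (d : Datum ρ g U T) : ∃ m, Nat.card T = 2 ^ m := by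
  letI : Module (ZMod 2) T := AddCommGroup.zmodModule fun t => by
    rw [two_nsmul]; exact Subtype.ext (d.two t)
  exact ⟨Module.finrank (ZMod 2) T, by rw [Module.natCard_eq_pow_finrank (K := ZMod 2), Nat.card_zmod]⟩

theorem trans (d : Datum ρ g U T) {x y : W} (hx : x ∈ T) (hx0 : x ≠ 0) (hy : y ∈ T) (hy0 : y ≠ 0) :
    ∃ j, ρ (g ^ j) x = y := by
  letI : Module (ZMod 2) T := AddCommGroup.zmodModule fun t => by
    rw [two_nsmul]; exact Subtype.ext (d.two t)
  let f₀ : T →+ T := (((ρ g : AddMonoid.End W) : W →+ W).comp T.subtype).codRestrict T fun t => d.mem_T t t.2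
  let f : Module.End (ZMod 2) T := f₀.toZModLinearMap 2
  have hf : ∀ (j : ℕ) (t : T), (((f ^ j) t : T) : W) = ρ (g ^ j) t := by
    intro j
    induction j with
    | zero => intro t; simp [oneE]
    | succ j ih =>
      intro t
      rw [pow_succ', Module.End.mul_apply, pow_succ', map_mul, mulE, ← ih t]
      rfl
  have hN : orderOf g = Nat.card T - 1 := d.ord
  have hone : f ^ (Nat.card T - 1) = 1 := by
    refine LinearMap.ext fun t => Subtype.ext ?_
    rw [hf, ← hN, pow_orderOf_eq_one, map_one, oneE]; rfl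
  have hne : ∀ j, 0 < j → j < Nat.card T - 1 → f ^ j ≠ 1 := by
    intro j hj hjN h
    have h1 : g ^ j = 1 := d.pow_eq_one fun t ht => by
      have := hf j ⟨t, ht⟩
      rw [h] at this
      exact this.symm
    have := Nat.le_of_dvd hj (orderOf_dvd_of_pow_eq_one h1)
    omega
  obtain ⟨j, hj⟩ := Cycle.exists_pow_apply f hone hne (x := (⟨x, hx⟩ : T)) (y := ⟨y, hy⟩)
    (fun h => hx0 (congrArg Subtype.val h)) (fun h => hy0 (congrArg Subtype.val h))
  have h := congrArg Subtype.val hj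
  rw [hf] at h
  exact ⟨j, h⟩

/-- Something commuting with `g` that agrees with a power of `g` at one non-zero point of `T` does so on
all of `T`. -/
theorem eq_on_T (d : Datum ρ g U T) {k : AddMonoid.End W} (hk : ρ g * k = k * ρ g) {j : ℕ} {t : W}
    (ht : t ∈ T) (ht0 : t ≠ 0) (h : k t = ρ (g ^ j) t) : ∀ y ∈ T, k y = ρ (g ^ j) y := by
  intro y hy
  rcases eq_or_ne y 0 with rfl | hy0
  · simp
  obtain ⟨i, rfl⟩ := d.trans ht ht0 hy hy0
  have hki : ρ (g ^ i) * k = k * ρ (g ^ i) := by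
    rw [map_pow]; exact (Commute.pow_left hk i)
  rw [← mulE k, ← hki, mulE, h, ← mulE, ← map_mul, ← mulE, ← map_mul, ← pow_add, ← pow_add, add_comm]

/-- A non-trivial power of `g` fixes exactly `U`. -/
theorem fix_pow (d : Datum ρ g U T) {j : ℕ} (hj : g ^ j ≠ 1) {w : W} (h : ρ (g ^ j) w = w) : w ∈ U := by
  obtain ⟨v, hv, t, ht, rfl⟩ := d.exists_decomp w
  rw [map_add, d.pow_fix j v hv, add_right_inj] at h
  rcases eq_or_ne t 0 with rfl | ht0
  · rwa [add_zero]
  exfalso
  refine hj (d.pow_eq_one fun y hy => ?_)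
  have := d.eq_on_T (k := 1) (by simp) ht ht0 (j := j) (by rw [oneE, h]) y hy
  rw [oneE] at this
  exact this.symm

theorem mem_T_iff (d : Datum ρ g U T) (w : W) : w ∈ T ↔ ∃ v, ρ g v + v = w := by
  constructor
  · intro hw
    let f : T → T := fun t => ⟨ρ g t + t, add_mem (d.mem_T t t.2) t.2⟩
    have hf : Function.Injective f := by
      intro a b h
      have h' : ρ g (a : W) + a = ρ g (b : W) + b := congrArg Subtype.val h
      have hz : ρ g ((a : W) - b) + ((a : W) - b) = 0 := by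
        rw [map_sub]
        calc ρ g (a : W) - ρ g (b : W) + ((a : W) - b)
            = (ρ g (a : W) + a) - (ρ g (b : W) + b) := by abel
          _ = 0 := by rw [h', sub_self]
      have hU : (a : W) - b ∈ U := (d.mem_U _).mpr ((eq_neg_of_add_eq_zero_left hz).trans (d.neg_eq _))
      exact Subtype.ext (sub_eq_zero.mp (d.eq_zero hU (sub_mem a.2 b.2)))
    obtain ⟨t, ht⟩ := Finite.surjective_of_injective hf ⟨w, hw⟩
    exact ⟨t, congrArg Subtype.val ht⟩
  · rintro ⟨v, rfl⟩
    obtain ⟨v₀, hv, t, ht, rfl⟩ := d.exists_decomp v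
    rw [map_add, (d.mem_U v₀).mp hv, add_add_add_comm, d.two, zero_add]
    exact add_mem (d.mem_T t ht) ht

theorem map_U (d : Datum ρ g U T) {k : AddMonoid.End W} (hk : ρ g * k = k * ρ g) {v : W} (hv : v ∈ U) :
    k v ∈ U := (d.mem_U _).mpr (by rw [← mulE, hk, mulE, (d.mem_U v).mp hv])

theorem map_T (d : Datum ρ g U T) {k : AddMonoid.End W} (hk : ρ g * k = k * ρ g) {w : W} (hw : w ∈ T) :
    k w ∈ T := by
  obtain ⟨v, rfl⟩ := (d.mem_T_iff w).mp hw
  exact (d.mem_T_iff _).mpr ⟨k v, by rw [map_add, ← mulE, hk, mulE]⟩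

/-- A finite-order trick: a map preserving a subgroup and injective on it has a power that is trivial
there. -/
theorem exists_pow_fix {r : AddMonoid.End W} {C : AddSubgroup W} (hC : ∀ v ∈ C, r v ∈ C)
    (hr : ∀ v ∈ C, r v = 0 → v = 0) : ∃ k, ∀ v ∈ C, (r ^ (k + 1)) v = v := by
  let f₀ : C → C := fun v => ⟨r v, hC v v.2⟩
  have hi : Function.Injective f₀ := by
    intro a b h
    have h' : r (a : W) = r (b : W) := congrArg Subtype.val h
    exact Subtype.ext (sub_eq_zero.mp (hr _ (sub_mem a.2 b.2) (by rw [map_sub, h', sub_self])))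
  let e : Equiv.Perm C := Equiv.ofBijective f₀ (Finite.injective_iff_bijective.mp hi)
  have he : ∀ (n : ℕ) (v : C), (((e ^ n) v : C) : W) = (r ^ n) v := by
    intro n
    induction n with
    | zero => intro v; simp [oneE]
    | succ n ih => intro v; rw [pow_succ', Equiv.Perm.mul_apply, powE, ← ih v]; rfl
  refine ⟨orderOf e - 1, fun v hv => ?_⟩
  rw [Nat.sub_add_cancel (orderOf_pos e), ← he _ ⟨v, hv⟩, pow_orderOf_eq_one]
  rfl

set_option maxHeartbeats 1000000 in
/-- The homogeneous components: the subring acts without zero divisors on `W`. -/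
theorem hull_injective (d : Datum ρ g U T) (N : Subgroup G) [N.Normal]
    (hab : ∀ x ∈ N, ∀ y ∈ N, x * y = y * x) :
    ∀ r ∈ hull ρ N, r ≠ 0 → ∀ w, r w = 0 → w = 0 := by
  classical
  set R := hull ρ N with hRdef
  -- the kind of subgroup considered
  let IsComp : AddSubgroup W → Prop := fun C => C ≠ ⊥ ∧
    (∀ r ∈ R, (∀ v ∈ C, r v = 0) ∨ (∀ v ∈ C, r v = 0 → v = 0)) ∧
    ∀ w, (∀ r ∈ R, (∀ v ∈ C, r v = 0) → r w = 0) → w ∈ C
  -- existence
  obtain ⟨C₀, hC₀⟩ : ∃ C, IsComp C := by
    have : Nontrivial W := Finite.one_lt_card_iff_nontrivial.mp (by have := d.card_W; omega)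
    obtain ⟨v₁, hv₁⟩ := exists_ne (0 : W)
    let ann : W → Set (AddMonoid.End W) := fun w => {r | r ∈ R ∧ r w = 0}
    obtain ⟨v, hv0, hmax⟩ := Set.exists_max_image {w : W | w ≠ 0} (fun w => (ann w).ncard)
      (Set.toFinite _) ⟨v₁, hv₁⟩
    let C : AddSubgroup W :=
      { carrier := {w | ∀ r ∈ R, r v = 0 → r w = 0}
        zero_mem' := fun r _ _ => map_zero r
        add_mem' := fun {a b} ha hb r hr h => by rw [map_add, ha r hr h, hb r hr h, add_zero]
        neg_mem' := fun {a} ha r hr h => by rw [map_neg, ha r hr h, neg_zero] }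
    have hvC : v ∈ C := fun r _ h => h
    refine ⟨C, fun h => hv0 ((AddSubgroup.eq_bot_iff_forall C).mp h v hvC), fun r hr => ?_, fun w hw r hr h =>
      hw r hr fun x hx => hx r hr h⟩
    by_cases hrv : r v = 0
    · exact Or.inl fun x hx => hx r hr hrv
    · refine Or.inr fun x hx hrx => by_contra fun hx0 => hrv ?_
      have hsub : ann v ⊆ ann x := fun s hs => ⟨hs.1, hx s hs.1 hs.2⟩
      have heq := Set.eq_of_subset_of_ncard_le hsub (hmax x hx0) (Set.toFinite _)
      have : r ∈ ann x := ⟨hr, hrx⟩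
      rw [← heq] at this
      exact this.2
  -- the subring preserves components
  have hRC : ∀ C, IsComp C → ∀ r ∈ R, ∀ v ∈ C, r v ∈ C := by
    intro C hC r hr v hv
    refine hC.2.2 _ fun s hs h => ?_
    rw [← mulE, hull_comm hab hs hr, mulE, h v hv, map_zero]
  -- separation
  have hsep : ∀ C C', IsComp C → IsComp C' → C ≠ C' →
      ∃ p ∈ R, (∀ v ∈ C, p v = 0) ∧ ∀ v ∈ C', p v = v := by
    intro C C' hC hC' hne
    have key : ∀ C C' : AddSubgroup W, IsComp C' → ∀ r ∈ R, (∀ v ∈ C, r v = 0) → (¬ ∀ v ∈ C', r v = 0) →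
        ∃ p ∈ R, (∀ v ∈ C, p v = 0) ∧ ∀ v ∈ C', p v = v := by
      intro C C' hC' r hr h0 hn
      obtain ⟨k, hk⟩ := exists_pow_fix (fun v hv => hRC C' hC' r hr v hv) ((hC'.2.1 r hr).resolve_left hn)
      refine ⟨r ^ (k + 1), pow_mem hr _, fun v hv => ?_, hk⟩
      rw [pow_succ, mulE, h0 v hv, map_zero]
    by_cases h : ∀ r ∈ R, (∀ v ∈ C, r v = 0) → ∀ v ∈ C', r v = 0
    · have hle : C' ≤ C := fun x hx => hC.2.2 x fun r hr h' => h r hr h' x hx
      have hnle : ¬ ∀ r ∈ R, (∀ v ∈ C', r v = 0) → ∀ v ∈ C, r v = 0 := fun h' =>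
        hne (le_antisymm (fun x hx => hC'.2.2 x fun r hr h'' => h' r hr h'' x hx) hle)
      push Not at hnle
      obtain ⟨r, hr, h0, hn⟩ := hnle
      obtain ⟨p, hp, hp0, hp1⟩ := key C' C hC r hr h0 (by simpa using hn)
      refine ⟨1 - p, sub_mem (one_mem R) hp, fun v hv => ?_, fun v hv => ?_⟩
      · rw [subE, oneE, hp1 v hv, sub_self]
      · rw [subE, oneE, hp0 v hv, sub_zero]
    · push Not at h
      obtain ⟨r, hr, h0, hn⟩ := h
      exact key C C' hC' r hr h0 (by simpa using hn)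
  -- the group permutes components
  letI act : MulAction G (AddSubgroup W) :=
    { smul := fun x C => C.map (ρ x : W →+ W)
      one_smul := fun C => by
        ext w
        show (∃ a ∈ C, ρ 1 a = w) ↔ w ∈ C
        simp [oneE]
      mul_smul := fun x y C => by
        ext w
        show (∃ a ∈ C, ρ (x * y) a = w) ↔ ∃ b, (∃ a ∈ C, ρ y a = b) ∧ ρ x b = w
        simp [mulE] }
  have hsmul : ∀ (x : G) (C : AddSubgroup W) (w : W), w ∈ x • C ↔ ∃ v ∈ C, ρ x v = w := fun x C w => Iff.rfl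
  have hcard : ∀ (x : G) (C : AddSubgroup W), Nat.card ↥(x • C) = Nat.card C := fun x C =>
    (Nat.card_congr (C.equivMapOfInjective (ρ x : W →+ W) (injective_apply x)).toEquiv).symm
  have hconj : ∀ (x : G) (r : AddMonoid.End W) (v : W), r (ρ x v) = ρ x ((ρ x⁻¹ * r * ρ x) v) := by
    intro x r v
    rw [mulE, mulE, apply_inv]
  have hmapC : ∀ (x : G) C, IsComp C → IsComp (x • C) := by
    intro x C hC
    have hc : ∀ r ∈ R, ρ x⁻¹ * r * ρ x ∈ R := fun r hr => by simpa using conj_hull x⁻¹ hr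
    refine ⟨fun h => hC.1 ?_, fun r hr => ?_, fun w hw => ?_⟩
    · refine (AddSubgroup.eq_bot_iff_forall C).mpr fun v hv => injective_apply (ρ := ρ) x ?_
      rw [map_zero]
      exact (AddSubgroup.eq_bot_iff_forall _).mp h _ ⟨v, hv, rfl⟩
    · rcases hC.2.1 _ (hc r hr) with h | h
      · refine Or.inl ?_
        rintro _ ⟨v, hv, rfl⟩
        show r (ρ x v) = 0
        rw [hconj, h v hv, map_zero]
      · refine Or.inr ?_
        rintro _ ⟨v, hv, rfl⟩ h0
        show ρ x v = 0
        change r (ρ x v) = 0 at h0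
        rw [hconj] at h0
        rw [h v hv (injective_apply (ρ := ρ) x (by rw [h0, map_zero])), map_zero]
    · refine (hsmul x C w).mpr ⟨ρ x⁻¹ w, hC.2.2 _ fun s hs h => ?_, apply_inv x w⟩
      have hs' : ρ x * s * ρ x⁻¹ ∈ R := conj_hull x hs
      have h1 := hw _ hs' (by
        rintro _ ⟨v, hv, rfl⟩
        show (ρ x * s * ρ x⁻¹) (ρ x v) = 0
        rw [mulE, mulE, inv_apply, h v hv, map_zero])
      rw [mulE, mulE] at h1
      exact injective_apply x (by rw [h1, map_zero])
  -- the orbit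
  let O := MulAction.orbit G C₀
  have hO : ∀ C ∈ O, IsComp C := by rintro _ ⟨x, rfl⟩; exact hmapC x C₀ hC₀
  have hOcard : ∀ C ∈ O, Nat.card C = Nat.card C₀ := by rintro _ ⟨x, rfl⟩; exact hcard x C₀
  have hOodd : Odd (O.ncard) := by
    rw [← MulAction.index_stabilizer G C₀]
    exact d.odd.of_dvd_nat (Subgroup.index_dvd_card _)
  have hsum : (⨆ C : O, (C : AddSubgroup W)) = ⊤ := by
    refine (d.irr _ fun a x hx => ?_).resolve_left fun h => hC₀.1 ?_
    · induction hx using AddSubgroup.iSup_induction' with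
      | hp C y hy =>
        exact AddSubgroup.mem_iSup_of_mem (⟨a • (C : AddSubgroup W), MulAction.mem_orbit_of_mem_orbit a C.2⟩ : O)
          ⟨y, hy, rfl⟩
      | h1 => rw [map_zero]; exact zero_mem _
      | hadd y z _ _ hy hz => rw [map_add]; exact add_mem hy hz
    · exact le_bot_iff.mp (h ▸ le_iSup (fun C : O => (C : AddSubgroup W)) ⟨C₀, MulAction.mem_orbit_self _⟩)
  -- projections
  have hproj : ∀ D ∈ O, ∃ e ∈ R, (∀ v ∈ D, e v = v) ∧ ∀ C ∈ O, C ≠ D → ∀ v ∈ C, e v = 0 := by
    intro D hD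
    have main : ∀ F : Finset (AddSubgroup W), (∀ C ∈ F, C ∈ O ∧ C ≠ D) →
        ∃ e ∈ R, (∀ v ∈ D, e v = v) ∧ ∀ C ∈ F, ∀ v ∈ C, e v = 0 := by
      intro F
      induction F using Finset.induction_on with
      | empty => intro _; exact ⟨1, one_mem R, fun v _ => oneE v, by simp⟩
      | insert C F hCF ih =>
        intro hF
        obtain ⟨e, he, he1, he0⟩ := ih fun C' h => hF C' (Finset.mem_insert_of_mem h)
        obtain ⟨hCO, hCD⟩ := hF C (Finset.mem_insert_self C F)
        obtain ⟨p, hp, hp0, hp1⟩ := hsep C D (hO C hCO) (hO D hD) hCD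
        refine ⟨e * p, mul_mem he hp, fun v hv => by rw [mulE, hp1 v hv, he1 v hv], fun C' hC' v hv => ?_⟩
        rcases Finset.mem_insert.mp hC' with rfl | h
        · rw [mulE, hp0 v hv, map_zero]
        · rw [hull_comm hab he hp, mulE, he0 C' h v hv, map_zero]
    obtain ⟨e, he, he1, he0⟩ := main ((Set.toFinite (O \ {D})).toFinset) fun C hC => by simpa using hC
    exact ⟨e, he, he1, fun C hC hCD v hv => he0 C (by simp [hC, hCD]) v hv⟩
  choose! e heR he1 he0 using hproj
  -- extensionality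
  have hext : ∀ a b : AddMonoid.End W, (∀ C ∈ O, ∀ v ∈ C, a v = b v) → a = b := by
    intro a b h
    refine DFunLike.ext _ _ fun w => ?_
    have hw : w ∈ ⨆ C : O, (C : AddSubgroup W) := hsum ▸ AddSubgroup.mem_top w
    induction hw using AddSubgroup.iSup_induction' with
    | hp C y hy => exact h C C.2 y hy
    | h1 => simp
    | hadd y z _ _ hy hz => rw [map_add, map_add, hy, hz]
  have hdet : ∀ w : W, (∀ D ∈ O, e D w = 0) → w = 0 := by
    intro w hw
    have h1 : (∑ D ∈ (Set.toFinite O).toFinset, e D) = 1 := by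
      refine hext _ _ fun C hC v hv => ?_
      rw [show (∑ D ∈ (Set.toFinite O).toFinset, e D) v = ∑ D ∈ (Set.toFinite O).toFinset, e D v from
        AddMonoidHom.finsetSum_apply (fun D => (e D : W →+ W)) _ v,
        Finset.sum_eq_single C (fun D hD hDC => he0 D (by simpa using hD) C hC (Ne.symm hDC) v hv)
          (fun h => absurd (by simpa using hC) h), he1 C hC v hv, oneE]
    have h2 := congrArg (fun a : AddMonoid.End W => a w) h1
    simp only [oneE] at h2
    rw [← h2, show (∑ D ∈ (Set.toFinite O).toFinset, e D) w = ∑ D ∈ (Set.toFinite O).toFinset, e D w from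
        AddMonoidHom.finsetSum_apply (fun D => (e D : W →+ W)) _ w]
    exact Finset.sum_eq_zero fun D hD => hw D (by simpa using hD)
  -- case: one component
  by_cases hone : ∀ C ∈ O, C = C₀
  · have htop : ∀ w : W, w ∈ C₀ := fun w => by
      have hw : w ∈ ⨆ C : O, (C : AddSubgroup W) := hsum ▸ AddSubgroup.mem_top w
      exact (iSup_le (fun C : O => (hone C C.2).le) : (⨆ C : O, (C : AddSubgroup W)) ≤ C₀) hw
    intro r hr hr0 w hrw
    rcases hC₀.2.1 r hr with h | h
    · exact absurd (DFunLike.ext r 0 fun x => by rw [h x (htop x), zeroE]) hr0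
    · exact h w (htop w) hrw
  push Not at hone
  obtain ⟨C₁, hC₁, hC₁ne⟩ := hone
  have hC₀O : C₀ ∈ O := MulAction.mem_orbit_self _
  have hbig : 2 ≤ Nat.card C₀ := by
    have : Nontrivial C₀ := (AddSubgroup.nontrivial_iff_ne_bot _).mpr hC₀.1
    exact Finite.one_lt_card_iff_nontrivial.mpr this
  have hN : ∀ x ∈ N, ∀ C ∈ O, ∀ v ∈ C, ρ x v ∈ C := fun x hx C hC v hv => hRC C (hO C hC) _ (mem_hull hx) v hv
  -- components of order two
  by_cases htwo : Nat.card C₀ = 2
  · have hN1 : ∀ x ∈ N, x = 1 := by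
      intro x hx
      refine d.inj ((hext _ _ fun C hC v hv => ?_).trans (map_one ρ).symm)
      rw [oneE]
      rcases eq_or_ne v 0 with rfl | hv0
      · rw [map_zero]
      have h0 : (⟨v, hv⟩ : C) ≠ 0 := fun h => hv0 (congrArg Subtype.val h)
      have h1 : (⟨ρ x v, hN x hx C hC v hv⟩ : C) ≠ 0 := fun h => hv0
        (injective_apply x ((congrArg Subtype.val h).trans (map_zero (ρ x)).symm))
      exact congrArg Subtype.val (((Nat.card_eq_two_iff' (0 : C)).mp ((hOcard C hC).trans htwo)).unique h1 h0)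
    have h01 : ∀ r ∈ R, r = 0 ∨ r = 1 := by
      intro r hr
      induction hr using Subring.closure_induction with
      | mem s hs => obtain ⟨y, hy, rfl⟩ := hs; exact Or.inr (by rw [hN1 y hy, map_one])
      | zero => exact Or.inl rfl
      | one => exact Or.inr rfl
      | add a b _ _ ha hb =>
        have h11 : (1 : AddMonoid.End W) + 1 = 0 := DFunLike.ext _ _ fun w => by rw [addE, oneE, d.two, zeroE]
        rcases ha with rfl | rfl <;> rcases hb with rfl | rfl <;> simp [h11]
      | neg a _ ha =>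
        have hm : -(1 : AddMonoid.End W) = 1 := DFunLike.ext _ _ fun w => d.neg_eq w
        rcases ha with rfl | rfl <;> simp [hm]
      | mul a b _ _ ha hb => rcases ha with rfl | rfl <;> rcases hb with rfl | rfl <;> simp
    intro r hr hr0 w hrw
    rcases h01 r hr with rfl | rfl
    · exact absurd rfl hr0
    · rwa [oneE] at hrw
  exfalso
  -- `g` fixes every component
  have hfix : ∀ C ∈ O, g • C = C := by
    intro C hC
    by_contra hne
    have hgC : g • C ∈ O := MulAction.mem_orbit_of_mem_orbit g hC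
    have hggC : g • g • C ∈ O := MulAction.mem_orbit_of_mem_orbit g hgC
    have hgg : g • g • C ≠ C := by
      intro h
      apply hne
      obtain ⟨n, hn⟩ := d.odd.of_dvd_nat (orderOf_dvd_natCard g)
      have h2 : g ^ 2 ∈ MulAction.stabilizer G C := by rw [MulAction.mem_stabilizer_iff, sq, mul_smul, h]
      have : (g ^ 2) ^ (n + 1) = g := by
        rw [← pow_mul, show 2 * (n + 1) = orderOf g + 1 by omega, pow_succ, pow_orderOf_eq_one, one_mul]
      exact MulAction.mem_stabilizer_iff.mp (this ▸ pow_mem h2 (n + 1))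
    have hg1 : g • g • C ≠ g • C := fun h => hne (MulAction.injective g h)
    obtain ⟨v, hv, hv0⟩ : ∃ v ∈ C, v ≠ 0 := by
      by_contra hcon
      push Not at hcon
      exact (hO C hC).1 ((AddSubgroup.eq_bot_iff_forall C).mpr hcon)
    obtain ⟨w, hw, hw0, hwv⟩ : ∃ w ∈ C, w ≠ 0 ∧ w ≠ v := by
      by_contra hcon
      push Not at hcon
      have hsub : (C : Set W) ⊆ {0, v} := fun x hx => by
        by_cases h : x = 0
        · exact Or.inl h
        · exact Or.inr (hcon x hx h)
      have hle := Set.ncard_le_ncard hsub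
      have h2 : ({0, v} : Set W).ncard = 2 := Set.ncard_pair (Ne.symm hv0)
      have h3 : (C : Set W).ncard = Nat.card C := (Nat.card_coe_set_eq _).symm
      have := hOcard C hC
      omega
    let x₁ := ρ g v + v
    let x₂ := ρ g (v + ρ g w) + (v + ρ g w)
    have hx₁ : x₁ ∈ T := (d.mem_T_iff _).mpr ⟨v, rfl⟩
    have hx₂ : x₂ ∈ T := (d.mem_T_iff _).mpr ⟨_, rfl⟩
    have hgv : ρ g v ∈ g • C := ⟨v, hv, rfl⟩
    have hx₁C : e C x₁ = v := by
      show e C (ρ g v + v) = v
      rw [map_add, he0 C hC _ hgC hne _ hgv, he1 C hC v hv, zero_add]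
    have hx₂e : x₂ = ρ g (v + w) + ρ g (ρ g w) + v := by
      show ρ g (v + ρ g w) + (v + ρ g w) = _
      rw [map_add, map_add]; abel
    have hm1 : ρ g (v + w) ∈ g • C := ⟨v + w, add_mem hv hw, rfl⟩
    have hm2 : ρ g (ρ g w) ∈ g • g • C := ⟨ρ g w, ⟨w, hw, rfl⟩, rfl⟩
    have p0 : e C x₂ = v := by
      rw [hx₂e, map_add, map_add, he0 C hC _ hgC hne _ hm1, he0 C hC _ hggC hgg _ hm2, he1 C hC v hv]
      simp
    have p1 : e (g • C) x₂ = ρ g (v + w) := by
      rw [hx₂e, map_add, map_add, he1 _ hgC _ hm1, he0 _ hgC _ hggC hg1 _ hm2, he0 _ hgC C hC (Ne.symm hne) v hv]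
      simp
    have p2 : e (g • g • C) x₂ = ρ g (ρ g w) := by
      rw [hx₂e, map_add, map_add, he0 _ hggC _ hgC (Ne.symm hg1) _ hm1, he1 _ hggC _ hm2,
        he0 _ hggC C hC (Ne.symm hgg) v hv]
      simp
    have hx₁0 : x₁ ≠ 0 := fun h => hv0 (by rw [← hx₁C, h, map_zero])
    have hx₂0 : x₂ ≠ 0 := fun h => hv0 (by rw [← p0, h, map_zero])
    obtain ⟨j, hj⟩ := d.trans hx₁ hx₁0 hx₂ hx₂0
    have hd : ∀ D ∈ O, D ≠ g ^ j • C → D ≠ g ^ j • (g • C) → e D x₂ = 0 := by
      intro D hD hD1 hD2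
      rw [← hj]
      show e D (ρ (g ^ j) (ρ g v + v)) = 0
      have m1 : ρ (g ^ j) (ρ g v) ∈ g ^ j • (g • C) := ⟨_, hgv, rfl⟩
      have m2 : ρ (g ^ j) v ∈ g ^ j • C := ⟨v, hv, rfl⟩
      rw [map_add, map_add, he0 D hD _ (MulAction.mem_orbit_of_mem_orbit _ hgC) (Ne.symm hD2) _ m1,
        he0 D hD _ (MulAction.mem_orbit_of_mem_orbit _ hC) (Ne.symm hD1) _ m2, add_zero]
    have hvw : ρ g (v + w) ≠ 0 := fun h => hwv (by
      have h' := injective_apply g (h.trans (map_zero (ρ g)).symm)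
      exact ((eq_neg_of_add_eq_zero_right h').trans (d.neg_eq v)))
    have hgw : ρ g (ρ g w) ≠ 0 := fun h => hw0 (injective_apply g
      ((injective_apply g (h.trans (map_zero (ρ g)).symm)).trans (map_zero (ρ g)).symm))
    have q0 := fun a b => hv0 (p0.symm.trans (hd C hC a b))
    have q1 := fun a b => hvw (p1.symm.trans (hd _ hgC a b))
    have q2 := fun a b => hgw (p2.symm.trans (hd _ hggC a b))
    by_cases a0 : C = g ^ j • C
    · by_cases b1 : g • C = g ^ j • (g • C)
      · exact q2 (fun h => hgg (h.trans a0.symm)) (fun h => hg1 (h.trans b1.symm))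
      · exact q1 (fun h => hne (h.trans a0.symm)) b1
    · by_cases b0 : C = g ^ j • (g • C)
      · by_cases a1 : g • C = g ^ j • C
        · exact q2 (fun h => hg1 (h.trans a1.symm)) (fun h => hgg (h.trans b0.symm))
        · exact q1 a1 (fun h => hne (h.trans b0.symm))
      · exact q0 a0 b0
  -- hence `T` lies in one component
  obtain ⟨D, hD, hTD⟩ : ∃ D ∈ O, ∀ t ∈ T, t ∈ D := by
    have : Nontrivial T := Finite.one_lt_card_iff_nontrivial.mp (by have := d.four; omega)
    obtain ⟨⟨t, ht⟩, ht0⟩ := exists_ne (0 : T)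
    obtain ⟨D, hD, hDt⟩ : ∃ D ∈ O, e D t ≠ 0 := by
      by_contra h
      push Not at h
      exact ht0 (Subtype.ext (hdet t h))
    have hcom : ρ g * e D = e D * ρ g := by
      refine hext _ _ fun C hC v hv => ?_
      have hgvC : ρ g v ∈ C := by rw [← hfix C hC]; exact ⟨v, hv, rfl⟩
      rw [mulE, mulE]
      rcases eq_or_ne C D with rfl | hne
      · rw [he1 C hC v hv, he1 C hC _ hgvC]
      · rw [he0 D hD C hC hne v hv, he0 D hD C hC hne _ hgvC, map_zero]
    refine ⟨D, hD, fun y hy => ?_⟩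
    rcases eq_or_ne y 0 with rfl | hy0
    · exact zero_mem D
    have hmemD : e D t ∈ D := by
      have hw : t ∈ ⨆ C : O, (C : AddSubgroup W) := hsum ▸ AddSubgroup.mem_top t
      clear hDt ht0 ht
      induction hw using AddSubgroup.iSup_induction' with
      | hp C y hy =>
        rcases eq_or_ne (C : AddSubgroup W) D with h | h
        · rw [h] at hy; rw [he1 D hD y hy]; exact hy
        · rw [he0 D hD C C.2 h y hy]; exact zero_mem D
      | h1 => rw [map_zero]; exact zero_mem D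
      | hadd a b _ _ ha hb => rw [map_add]; exact add_mem ha hb
    obtain ⟨j, rfl⟩ := d.trans (d.map_T hcom ht) hDt hy hy0
    have : g ^ j ∈ MulAction.stabilizer G D := pow_mem (MulAction.mem_stabilizer_iff.mpr (hfix D hD)) j
    have h' : ρ (g ^ j) (e D t) ∈ g ^ j • D := ⟨_, hmemD, rfl⟩
    rwa [MulAction.mem_stabilizer_iff.mp this] at h'
  have hTle : Nat.card T ≤ Nat.card C₀ := hOcard D hD ▸ AddSubgroup.card_le_of_le hTD
  -- three components
  obtain ⟨A, B, C, hA, hB, hC, hAB, hAC, hBC⟩ : ∃ A B C, A ∈ O ∧ B ∈ O ∧ C ∈ O ∧ A ≠ B ∧ A ≠ C ∧ B ≠ C := by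
    have h2 : 2 < O.ncard := by
      have h1 : 1 < O.ncard := (Set.one_lt_ncard (Set.toFinite O)).mpr ⟨C₁, hC₁, C₀, hC₀O, hC₁ne⟩
      obtain ⟨k, hk⟩ := hOodd
      omega
    obtain ⟨A, hA, B, hB, C, hC, h⟩ := (Set.two_lt_ncard (Set.toFinite O)).mp h2
    exact ⟨A, B, C, hA, hB, hC, h⟩
  let sm : A × B × C → W := fun p => p.1 + p.2.1 + p.2.2
  have hsm : Function.Injective sm := by
    rintro ⟨a, b, c⟩ ⟨a', b', c'⟩ h
    change (a : W) + b + c = a' + b' + c' at h
    have k : ∀ D ∈ O, ∀ (x : A) (y : B) (z : C), e D ((x : W) + y + z) = e D x + e D y + e D z := fun _ _ _ _ _ => by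
      rw [map_add, map_add]
    have ea : (a : W) = a' := by
      have := congrArg (e A) h
      rwa [k A hA, k A hA, he1 A hA _ a.2, he1 A hA _ a'.2, he0 A hA B hB (Ne.symm hAB) _ b.2,
        he0 A hA B hB (Ne.symm hAB) _ b'.2, he0 A hA C hC (Ne.symm hAC) _ c.2,
        he0 A hA C hC (Ne.symm hAC) _ c'.2, add_zero, add_zero, add_zero, add_zero] at this
    have eb : (b : W) = b' := by
      have := congrArg (e B) h
      rwa [k B hB, k B hB, he1 B hB _ b.2, he1 B hB _ b'.2, he0 B hB A hA hAB _ a.2,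
        he0 B hB A hA hAB _ a'.2, he0 B hB C hC (Ne.symm hBC) _ c.2,
        he0 B hB C hC (Ne.symm hBC) _ c'.2, add_zero, add_zero, zero_add, zero_add] at this
    have ec : (c : W) = c' := by rw [ea, eb] at h; exact add_left_cancel h
    exact Prod.ext (Subtype.ext ea) (Prod.ext (Subtype.ext eb) (Subtype.ext ec))
  have h3 := Nat.card_le_card_of_injective sm hsm
  rw [Nat.card_prod, Nat.card_prod, hOcard A hA, hOcard B hB, hOcard C hC] at h3
  have h4 := d.card_W_le
  have h5 : Nat.card T * (Nat.card T * Nat.card T) ≤ Nat.card W :=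
    (Nat.mul_le_mul hTle (Nat.mul_le_mul hTle hTle)).trans h3
  have h6 : 2 * (Nat.card T * Nat.card T) ≤ Nat.card T * (Nat.card T * Nat.card T) :=
    Nat.mul_le_mul_right _ (le_trans (by norm_num) d.four)
  have h7 : 0 < Nat.card T * Nat.card T := Nat.mul_pos Nat.card_pos Nat.card_pos
  omega

end Datum

end CfsgLib.Walter.RankFour.Big
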