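import Cfsg.Agent.Lib.Walter.RankFour.Defs
import Cfsg.Agent.Lib.Walter.RankFour.BigField
import Cfsg.Agent.S0205

/-!
# The linear lemma of the rank `≥ 4` argument

Proof of `BigCommutator`: `g` centralizes every abelian normal subgroup (the subring they generate is a
field), hence, descending along the derived series, its normal closure is abelian, so `g` lies in such a
field and fixes a non-zero vector.
-/

set_option autoImplicit false

namespace CfsgLib.Walter.RankFour.Big

universe u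

variable {W : Type u} [AddCommGroup W] [Finite W] {G : Type u} [Group G] [Finite G]
variable {ρ : G →* AddMonoid.End W} {g : G} {U T : AddSubgroup W}

/-- The field generated by an abelian normal subgroup. -/
noncomputable abbrev hullField (d : Datum ρ g U T) (N : Subgroup G) [N.Normal]
    (hab : ∀ x ∈ N, ∀ y ∈ N, x * y = y * x) : Field (hull ρ N) :=
  letI cr : CommRing (hull ρ N) :=
    { (inferInstance : Ring (hull ρ N)) with
      mul_comm := fun a b => Subtype.ext (hull_comm hab a.2 b.2) }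
  haveI nt : Nontrivial (hull ρ N) := by
    have : Nontrivial T := Finite.one_lt_card_iff_nontrivial.mp (by have := d.four; omega)
    obtain ⟨v, hv⟩ := exists_ne (0 : T)
    refine ⟨⟨0, 1, fun h => hv ?_⟩⟩
    have := congrArg (fun r : hull ρ N => (r : AddMonoid.End W) (v : W)) h
    exact Subtype.ext this.symm
  haveI nz : NoZeroDivisors (hull ρ N) := ⟨fun {a b} h => by
    by_contra hc
    rw [not_or] at hc
    refine hc.2 (Subtype.ext (DFunLike.ext _ _ fun w => ?_))
    exact d.hull_injective N hab a a.2 (fun h' => hc.1 (Subtype.ext h')) _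
      (congrArg (fun r : hull ρ N => (r : AddMonoid.End W) w) h)⟩
  haveI : IsDomain (hull ρ N) := NoZeroDivisors.to_isDomain _
  (Finite.isField_of_domain (hull ρ N)).toField

namespace Datum

theorem card_hull_le (d : Datum ρ g U T) (N : Subgroup G) [N.Normal]
    (hab : ∀ x ∈ N, ∀ y ∈ N, x * y = y * x) : Nat.card (hull ρ N) ≤ Nat.card W := by
  have : Nontrivial W := Finite.one_lt_card_iff_nontrivial.mp (by have := d.card_W; omega)
  obtain ⟨v, hv⟩ := exists_ne (0 : W)
  refine Nat.card_le_card_of_injective (fun r : hull ρ N => (r : AddMonoid.End W) v) fun r s h => Subtype.ext ?_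
  by_contra hne
  exact hv (d.hull_injective N hab _ (sub_mem r.2 s.2) (sub_ne_zero.mpr hne) v
    (by rw [subE]; exact sub_eq_zero.mpr h))

theorem pow_hull_commute (d : Datum ρ g U T) (N : Subgroup G) [N.Normal]
    (hab : ∀ x ∈ N, ∀ y ∈ N, x * y = y * x) {j : ℕ} (hj : g ^ j ≠ 1)
    (hcom : ∀ r ∈ hull ρ N, ρ (g ^ j) * r = r * ρ (g ^ j)) :
    ∀ r ∈ hull ρ N, ρ g * r = r * ρ g := by
  intro r hr
  obtain ⟨v, hv, hv0⟩ : ∃ v ∈ U, v ≠ 0 := by
    by_contra hcon
    push Not at hcon
    exact d.ne_bot ((AddSubgroup.eq_bot_iff_forall U).mpr hcon)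
  have hrv : r v ∈ U := d.fix_pow hj (by rw [← mulE, hcom r hr, mulE, d.pow_fix j v hv])
  have hs : ρ g * r * ρ g⁻¹ ∈ hull ρ N := conj_hull g hr
  have heq : ρ g * r * ρ g⁻¹ = r := by
    by_contra hne
    refine hv0 (d.hull_injective N hab _ (sub_mem hs hr) (sub_ne_zero.mpr hne) v ?_)
    have hgi : ρ g⁻¹ v = v := by
      have := inv_apply (ρ := ρ) g v
      rwa [(d.mem_U v).mp hv] at this
    rw [subE, mulE, mulE, hgi, (d.mem_U _).mp hrv, sub_self]
  calc ρ g * r = ρ g * r * (ρ g⁻¹ * ρ g) := by rw [← map_mul, inv_mul_cancel, map_one, mul_one]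
    _ = r * ρ g := by rw [← mul_assoc, heq]

/-- `g` centralizes the subring generated by an abelian normal subgroup. -/
theorem hull_commute (d : Datum ρ g U T) (N : Subgroup G) [N.Normal]
    (hab : ∀ x ∈ N, ∀ y ∈ N, x * y = y * x) : ∀ r ∈ hull ρ N, ρ g * r = r * ρ g := by
  letI := hullField d N hab
  by_contra hcon
  have hfree : ∀ j, g ^ j ≠ 1 → ¬ ∀ r ∈ hull ρ N, ρ (g ^ j) * r = r * ρ (g ^ j) := fun j hj h =>
    hcon (d.pow_hull_commute N hab hj h)
  have : Fact (Nat.Prime 2) := ⟨Nat.prime_two⟩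
  have h1 : (1 : hull ρ N) + 1 = 0 := Subtype.ext (DFunLike.ext _ _ fun w => d.two w)
  have : CharP (hull ρ N) 2 := CharTwo.of_one_ne_zero_of_two_eq_zero one_ne_zero (by rw [← one_add_one_eq_two]; exact h1)
  letI : Algebra (ZMod 2) (hull ρ N) := ZMod.algebra (hull ρ N) 2
  let σ : hull ρ N ≃+* hull ρ N :=
    { toFun := fun r => ⟨ρ g * r * ρ g⁻¹, conj_hull g r.2⟩
      invFun := fun r => ⟨ρ g⁻¹ * r * ρ g, by simpa using conj_hull g⁻¹ r.2⟩
      left_inv := fun r => Subtype.ext (DFunLike.ext _ _ fun w => by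
        show ρ g⁻¹ (ρ g ((r : AddMonoid.End W) (ρ g⁻¹ (ρ g w)))) = _
        rw [inv_apply, inv_apply])
      right_inv := fun r => Subtype.ext (DFunLike.ext _ _ fun w => by
        show ρ g (ρ g⁻¹ ((r : AddMonoid.End W) (ρ g (ρ g⁻¹ w)))) = _
        rw [apply_inv, apply_inv])
      map_mul' := fun r s => Subtype.ext (DFunLike.ext _ _ fun w => by
        show ρ g ((r : AddMonoid.End W) ((s : AddMonoid.End W) (ρ g⁻¹ w))) =
          ρ g ((r : AddMonoid.End W) (ρ g⁻¹ (ρ g ((s : AddMonoid.End W) (ρ g⁻¹ w)))))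
        rw [inv_apply])
      map_add' := fun r s => Subtype.ext (by
        show ρ g * ((r : AddMonoid.End W) + s) * ρ g⁻¹ = _
        rw [mul_add, add_mul]; rfl) }
  let α : hull ρ N ≃ₐ[ZMod 2] hull ρ N := AlgEquiv.ofRingEquiv (f := σ) fun x =>
    RingHom.congr_fun (RingHom.ext_zmod (σ.toRingHom.comp (algebraMap (ZMod 2) (hull ρ N))) (algebraMap _ _)) x
  have hpow : ∀ (j : ℕ) (r : hull ρ N),
      (((α ^ j) r : hull ρ N) : AddMonoid.End W) = ρ (g ^ j) * r * ρ (g ^ j)⁻¹ := by
    intro j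
    induction j with
    | zero => intro r; simp
    | succ j ih =>
      intro r
      rw [pow_succ', pow_succ', mul_inv_rev, map_mul, map_mul, AlgEquiv.mul_apply]
      show ρ g * (((α ^ j) r : hull ρ N) : AddMonoid.End W) * ρ g⁻¹ = _
      rw [ih]; simp only [mul_assoc]
  have hαdvd : orderOf g ∣ orderOf α := by
    refine orderOf_dvd_of_pow_eq_one (by_contra fun hne => hfree _ hne fun r hr => ?_)
    have := hpow (orderOf α) ⟨r, hr⟩
    rw [pow_orderOf_eq_one] at this
    change r = ρ (g ^ orderOf α) * r * ρ (g ^ orderOf α)⁻¹ at this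
    conv_rhs => rw [this]
    rw [mul_assoc _ (ρ (g ^ orderOf α)⁻¹), ← map_mul, inv_mul_cancel, map_one, mul_one]
  have hdvd : Nat.card T - 1 ∣ Module.finrank (ZMod 2) (hull ρ N) := by
    rw [← d.ord, ← IsGalois.card_aut_eq_finrank]
    exact hαdvd.trans (orderOf_dvd_natCard α)
  set m := Module.finrank (ZMod 2) (hull ρ N) with hm
  have hcard : Nat.card (hull ρ N) = 2 ^ m := by
    rw [Module.natCard_eq_pow_finrank (K := ZMod 2), Nat.card_zmod]
  have hm0 : 0 < m := Module.finrank_pos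
  obtain ⟨a, ha⟩ := d.exists_zmod
  have hle := d.card_hull_le N hab
  have hW := d.card_W_le
  have h16 := d.card_W
  have h4 := d.four
  rw [hcard] at hle
  rw [ha] at hdvd hW h4
  have hm2a : m ≤ 2 * a := by
    refine (Nat.pow_le_pow_iff_right (le_refl 2)).mp (hle.trans (hW.trans ?_))
    rw [two_mul, pow_add]
  have hNm := Nat.le_of_dvd hm0 hdvd
  have hgrow : ∀ n, 3 ≤ n → 2 * n + 1 < 2 ^ n := by
    intro n hn
    induction n, hn using Nat.le_induction with
    | base => norm_num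
    | succ n hn ih => rw [pow_succ]; omega
  have ha2 : a = 2 := by
    rcases Nat.lt_or_ge a 3 with h | h
    · interval_cases a <;> simp_all
    · have := hgrow a h; omega
  subst ha2
  norm_num at hdvd hm2a hW
  have hm3 : m = 3 := by
    obtain ⟨c, hc⟩ := hdvd
    omega
  have hV : Nat.card W = Nat.card (hull ρ N) ^ Module.finrank (hull ρ N) W := Module.natCard_eq_pow_finrank
  rw [hcard, hm3] at hV
  have h16' : Nat.card W = 16 := le_antisymm hW h16
  rw [h16'] at hV
  rw [← pow_mul, show (16 : ℕ) = 2 ^ 4 by norm_num] at hV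
  have := Nat.pow_right_injective (le_refl 2) hV
  omega

/-- `g` centralizes every abelian normal subgroup. -/
theorem abelian_normal_commute (d : Datum ρ g U T) (N : Subgroup G) [N.Normal]
    (hab : ∀ x ∈ N, ∀ y ∈ N, x * y = y * x) : ∀ x ∈ N, g * x = x * g := fun x hx =>
  d.inj (by rw [map_mul, map_mul]; exact d.hull_commute N hab _ (mem_hull hx))

set_option maxHeartbeats 800000 in
/-- A normal subgroup with central commutators is centralized by `g`. -/
theorem class_two_commute (d : Datum ρ g U T) (Y : Subgroup G) [hY : Y.Normal]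
    (hcl : ∀ x ∈ Y, ∀ y ∈ Y, ∀ z ∈ Y, z * (x * y * x⁻¹ * y⁻¹) = (x * y * x⁻¹ * y⁻¹) * z) :
    ∀ y ∈ Y, g * y = y * g := by
  classical
  set Z : Subgroup G := Y ⊓ Subgroup.centralizer (Y : Set G) with hZdef
  have hmemZ : ∀ {z : G}, z ∈ Z ↔ z ∈ Y ∧ ∀ y ∈ Y, y * z = z * y := fun {z} => by
    rw [hZdef, Subgroup.mem_inf, Subgroup.mem_centralizer_iff]; rfl
  have : Z.Normal := inferInstanceAs (Y ⊓ Subgroup.centralizer (Y : Set G)).Normal
  have hab : ∀ x ∈ Z, ∀ y ∈ Z, x * y = y * x := fun x hx y hy => (hmemZ.mp hy).2 x (hmemZ.mp hx).1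
  have hgR : ∀ r ∈ hull ρ Z, ρ g * r = r * ρ g := d.hull_commute Z hab
  have hgZ : ∀ z ∈ Z, g * z = z * g := d.abelian_normal_commute Z hab
  have hYR : ∀ y ∈ Y, ∀ r ∈ hull ρ Z, ρ y * r = r * ρ y := fun y hy r hr =>
    commute_hull (fun z hz => by rw [← map_mul, ← map_mul, (hmemZ.mp hz).2 y hy]) hr
  have hcomZ : ∀ x ∈ Y, ∀ y ∈ Y, x * y * x⁻¹ * y⁻¹ ∈ Z := fun x hx y hy =>
    hmemZ.mpr ⟨Y.mul_mem (Y.mul_mem (Y.mul_mem hx hy) (Y.inv_mem hx)) (Y.inv_mem hy),
      fun z hz => hcl x hx y hy z hz⟩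
  obtain ⟨v₁, hv₁, hv₁0⟩ : ∃ v ∈ U, v ≠ 0 := by
    by_contra hcon
    push Not at hcon
    exact d.ne_bot ((AddSubgroup.eq_bot_iff_forall U).mpr hcon)
  -- an element of `Z` fixing a non-zero vector is trivial
  have hfixZ : ∀ z ∈ Z, ∀ w : W, ρ z w = w → w ≠ 0 → z = 1 := by
    intro z hz w hw hw0
    refine d.inj ?_
    by_contra hne
    rw [map_one] at hne
    exact hw0 (d.hull_injective Z hab _ (sub_mem (mem_hull hz) (one_mem _)) (sub_ne_zero.mpr hne) w
      (by rw [subE, oneE, hw, sub_self]))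
  have hgzU : ∀ z ∈ Z, ∀ v ∈ U, ρ z v ∈ U := fun z hz v hv => d.map_U (hgR _ (mem_hull hz)) hv
  have hgzT : ∀ z ∈ Z, ∀ w ∈ T, ρ z w ∈ T := fun z hz w hw => d.map_T (hgR _ (mem_hull hz)) hw
  have hsq : ∀ z ∈ Z, z * z = 1 → z = 1 := by
    intro z _ h
    obtain ⟨n, hn⟩ := d.odd.of_dvd_nat (orderOf_dvd_natCard z)
    have h2 : orderOf z ∣ 2 := orderOf_dvd_of_pow_eq_one (by rw [sq, h])
    have hle2 := Nat.le_of_dvd two_pos h2
    exact orderOf_eq_one_iff.mp (by omega)
  -- a power of `g` moving `y` inside `Z y` fixes it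
  have hkey : ∀ y ∈ Y, ∀ j, g ^ j ≠ 1 → ∀ z ∈ Z, g ^ j * y * (g ^ j)⁻¹ = z * y → z = 1 := by
    intro y hy j hj z hz he
    by_contra hz1
    have hzi : z⁻¹ ∈ Z := Z.inv_mem hz
    have hcy : y⁻¹ * z⁻¹ = z⁻¹ * y⁻¹ := (hmemZ.mp hzi).2 _ (Y.inv_mem hy)
    have hinv : g ^ j * y⁻¹ = z⁻¹ * y⁻¹ * g ^ j := by
      have h1 : g ^ j * y⁻¹ * (g ^ j)⁻¹ = y⁻¹ * z⁻¹ := by
        rw [← mul_inv_rev, ← he]; group
      calc g ^ j * y⁻¹ = g ^ j * y⁻¹ * (g ^ j)⁻¹ * g ^ j := by group
        _ = _ := by rw [h1, hcy]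
    have happ : ∀ w, ρ (g ^ j) (ρ y⁻¹ w) = ρ z⁻¹ (ρ y⁻¹ (ρ (g ^ j) w)) := fun w => by
      rw [← mulE, ← map_mul, hinv, map_mul, map_mul, mulE, mulE]
    have hzne : z⁻¹ ≠ 1 := inv_ne_one.mpr hz1
    have hx : ∀ v ∈ U, ρ y⁻¹ v ∈ T ∧ ρ (g ^ j) (ρ y⁻¹ v) = ρ z⁻¹ (ρ y⁻¹ v) := by
      intro v hv
      have h2 : ρ (g ^ j) (ρ y⁻¹ v) = ρ z⁻¹ (ρ y⁻¹ v) := by rw [happ, d.pow_fix j v hv]
      refine ⟨?_, h2⟩
      obtain ⟨p, hp, q, hq, hpq⟩ := d.exists_decomp (ρ y⁻¹ v)
      rw [← hpq, map_add, map_add, d.pow_fix j p hp] at h2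
      obtain ⟨e1, -⟩ := d.decomp_unique hp (hgzU _ hzi p hp) (d.pow_mem_T j q hq) (hgzT _ hzi q hq) h2
      have hp0 : p = 0 := by_contra fun h => hzne (hfixZ _ hzi p e1.symm h)
      rw [← hpq, hp0, zero_add]; exact hq
    obtain ⟨ht, hgt⟩ := hx v₁ hv₁
    have ht0 : ρ y⁻¹ v₁ ≠ 0 := fun h => hv₁0 (injective_apply y⁻¹ (h.trans (map_zero (ρ y⁻¹)).symm))
    have hscal := d.eq_on_T (hgR _ (mem_hull hzi)) ht ht0 hgt.symm
    have : Nontrivial T := Finite.one_lt_card_iff_nontrivial.mp (by have := d.four; omega)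
    obtain ⟨⟨t, htT⟩, htn⟩ := exists_ne (0 : T)
    apply htn
    have h3 : ρ (g ^ j) (ρ y⁻¹ t) = ρ (z⁻¹ * z⁻¹) (ρ y⁻¹ t) := by
      rw [happ, ← hscal t htT, map_mul (ρ) z⁻¹ z⁻¹, mulE, ← mulE (ρ y⁻¹) (ρ z⁻¹), hYR _ (Y.inv_mem hy) _ (mem_hull hzi), mulE]
    have hzz : z⁻¹ * z⁻¹ ∈ Z := Z.mul_mem hzi hzi
    obtain ⟨p, hp, q, hq, hpq⟩ := d.exists_decomp (ρ y⁻¹ t)
    rw [← hpq, map_add, map_add, d.pow_fix j p hp] at h3
    obtain ⟨e1, e2⟩ := d.decomp_unique hp (hgzU _ hzz p hp) (d.pow_mem_T j q hq) (hgzT _ hzz q hq) h3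
    have hp0 : p = 0 := by_contra fun h => hzne (hsq _ hzi (hfixZ _ hzz p e1.symm h))
    rw [← hscal q hq, map_mul, mulE] at e2
    have hq0 : q = 0 := by_contra fun h => hzne (hfixZ _ hzi q (injective_apply (ρ := ρ) z⁻¹ e2.symm) h)
    rw [hp0, hq0, add_zero] at hpq
    exact Subtype.ext (injective_apply y⁻¹ (hpq.symm.trans (map_zero (ρ y⁻¹)).symm))
  by_cases hall : ∀ y ∈ Y, ∀ v ∈ U, ρ y v ∈ U
  · intro y hy
    have hgy : g * y * g⁻¹ ∈ Y := hY.conj_mem y hy g
    set h := g * y * g⁻¹ * y⁻¹ with hh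
    have hhY : h ∈ Y := Y.mul_mem hgy (Y.inv_mem hy)
    have hgi : ∀ v ∈ U, ρ g⁻¹ v = v := fun v hv => by
      have := inv_apply (ρ := ρ) g v
      rwa [(d.mem_U v).mp hv] at this
    have hhU : ∀ v ∈ U, ρ h v = v := by
      intro v hv
      have h1 := hall _ (Y.inv_mem hy) v hv
      rw [hh, map_mul, map_mul, map_mul, mulE, mulE, mulE, hgi _ h1, apply_inv, (d.mem_U v).mp hv]
    have hhi : ∀ v ∈ U, ρ h⁻¹ v = v := fun v hv => by
      have := inv_apply (ρ := ρ) h v
      rwa [hhU v hv] at this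
    have hhZ : h ∈ Z := by
      refine hmemZ.mpr ⟨hhY, fun x hx => ?_⟩
      have hfix : ρ (h * x * h⁻¹ * x⁻¹) v₁ = v₁ := by
        rw [map_mul, map_mul, map_mul, mulE, mulE, mulE, hhi _ (hall _ (Y.inv_mem hx) v₁ hv₁), apply_inv,
          hhU v₁ hv₁]
      have h1 := hfixZ _ (hcomZ h hhY x hx) v₁ hfix hv₁0
      calc x * h = (h * x * h⁻¹ * x⁻¹) * x * h := by rw [h1, one_mul]
        _ = h * x := by group
    have h1 : h = 1 := hfixZ h hhZ v₁ (hhU v₁ hv₁) hv₁0
    calc g * y = h * y * g := by rw [hh]; group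
      _ = y * g := by rw [h1, one_mul]
  exfalso
  push Not at hall
  obtain ⟨y₀, hy₀, v₀, hv₀, hy₀U⟩ := hall
  -- conjugates of `y₀` are distinct modulo `Z`
  have hpres : ∀ j, g ^ j ≠ 1 → g ^ j * y₀ * (g ^ j)⁻¹ * y₀⁻¹ ∈ Z → False := by
    intro j hj hz
    have h1 := hkey y₀ hy₀ j hj _ hz (by group)
    refine hy₀U (d.fix_pow hj ?_)
    have h2 : g ^ j * y₀ = y₀ * g ^ j := by
      calc g ^ j * y₀ = (g ^ j * y₀ * (g ^ j)⁻¹ * y₀⁻¹) * (y₀ * g ^ j) := by group
        _ = _ := by rw [h1, one_mul]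
    rw [← mulE, ← map_mul, h2, map_mul, mulE, d.pow_fix j v₀ hv₀]
  let Q := Y ⧸ Z.subgroupOf Y
  let φ : Option (Fin (Nat.card T - 1)) → Q := fun o => o.elim (QuotientGroup.mk 1)
    fun i => QuotientGroup.mk ⟨g ^ (i : ℕ) * y₀ * (g ^ (i : ℕ))⁻¹, hY.conj_mem y₀ hy₀ _⟩
  have hφ : Function.Injective φ := by
    have h0 : ∀ i : Fin (Nat.card T - 1), φ (some i) ≠ φ none := by
      intro i h
      have h1 : g ^ (i : ℕ) * y₀ * (g ^ (i : ℕ))⁻¹ ∈ Z := by
        have := (QuotientGroup.eq (s := Z.subgroupOf Y)).mp h.symm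
        simpa [Subgroup.mem_subgroupOf] using this
      have hn : Z.Normal := inferInstance
      have h2 : y₀ ∈ Z := by simpa [mul_assoc] using hn.conj_mem _ h1 (g ^ (i : ℕ))⁻¹
      exact hy₀U (hgzU y₀ h2 v₀ hv₀)
    have hlt : ∀ i k : Fin (Nat.card T - 1), (i : ℕ) < k → φ (some i) ≠ φ (some k) := by
      intro i k hik h
      have h1 := (QuotientGroup.eq (s := Z.subgroupOf Y)).mp h
      rw [Subgroup.mem_subgroupOf] at h1
      refine hpres ((k : ℕ) - i) (fun hp => ?_) ?_
      · have := Nat.le_of_dvd (by omega) (orderOf_dvd_of_pow_eq_one hp)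
        rw [d.ord] at this
        omega
      · have hn : Z.Normal := inferInstance
        have h2 := hn.conj_mem _ h1 (y₀ * (g ^ (i : ℕ))⁻¹)
        have hk : g ^ (k : ℕ) = g ^ (i : ℕ) * g ^ ((k : ℕ) - i) := by
          rw [← pow_add, Nat.add_sub_cancel' hik.le]
        rw [Subgroup.coe_mul, Subgroup.coe_inv] at h2
        simp only [hk] at h2
        convert h2 using 1
        group
    intro o o' h
    rcases o with _ | i <;> rcases o' with _ | k
    · rfl
    · exact absurd h.symm (h0 k)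
    · exact absurd h (h0 i)
    · rcases lt_trichotomy (i : ℕ) (k : ℕ) with h' | h' | h'
      · exact absurd h (hlt i k h')
      · exact congrArg some (Fin.ext h')
      · exact absurd h.symm (hlt k i h')
  set w := Nat.card Q with hwdef
  have hTw : Nat.card T ≤ w := by
    have := Nat.card_le_card_of_injective φ hφ
    rw [Nat.card_eq_fintype_card, Fintype.card_option, Fintype.card_fin] at this
    have := d.four
    omega
  obtain ⟨a, ha⟩ := d.exists_zmod
  have ha2 : 2 ≤ a := by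
    have h4 := d.four; rw [ha] at h4
    exact (Nat.pow_le_pow_iff_right (le_refl 2)).mp (le_trans (by norm_num) h4)
  have hwodd : Odd w := d.odd.of_dvd_nat ((Subgroup.card_quotient_dvd_card _).trans (Subgroup.card_subgroup_dvd_card Y))
  have hw : 2 ^ a < w := by
    rcases (ha ▸ hTw).lt_or_eq with h | h
    · exact h
    · obtain ⟨k, hk⟩ := hwodd
      obtain ⟨b, rfl⟩ : ∃ b, a = b + 1 := ⟨a - 1, by omega⟩
      rw [pow_succ] at h
      omega
  -- linear independence of coset representatives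
  let s : Q → G := fun q => ((Quotient.out q : Y) : G)
  have hs : ∀ q, s q ∈ Y := fun q => (Quotient.out q : Y).2
  have hsep : ∀ q q' : Q, q ≠ q' → ∃ x ∈ Y, x * s q * x⁻¹ * (s q)⁻¹ ≠ x * s q' * x⁻¹ * (s q')⁻¹ := by
    intro q q' hne
    by_contra hcon
    push Not at hcon
    apply hne
    rw [← QuotientGroup.out_eq' q, ← QuotientGroup.out_eq' q', QuotientGroup.eq, Subgroup.mem_subgroupOf,
      Subgroup.coe_mul, Subgroup.coe_inv]
    show (s q)⁻¹ * s q' ∈ Z
    refine hmemZ.mpr ⟨Y.mul_mem (Y.inv_mem (hs q)) (hs q'), fun x hx => ?_⟩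
    have h := hcon x⁻¹ (Y.inv_mem hx)
    rw [inv_inv, mul_assoc x⁻¹, mul_assoc x⁻¹ (s q'), mul_assoc x⁻¹, mul_assoc x⁻¹ (s q' * x), mul_right_inj] at h
    calc x * ((s q)⁻¹ * s q') = (s q)⁻¹ * (s q * x * (s q)⁻¹) * s q' := by group
      _ = (s q)⁻¹ * (s q' * x * (s q')⁻¹) * s q' := by rw [h]
      _ = _ := by group
  have hli : ∀ F : Finset Q, ∀ c : Q → hull ρ Z,
      (∑ q ∈ F, (c q : AddMonoid.End W) * ρ (s q)) = 0 → ∀ q ∈ F, c q = 0 := by
    intro F
    induction F using Finset.induction_on with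
    | empty => intro c _ q hq; simp at hq
    | insert q₀ F hq₀ ih =>
      intro c hc
      have hrest : ∀ q₁ ∈ F, c q₁ = 0 := by
        intro q₁ hq₁
        obtain ⟨x, hx, hxne⟩ := hsep q₁ q₀ (fun h => hq₀ (h ▸ hq₁))
        let χ : Q → hull ρ Z := fun q => ⟨ρ (x * s q * x⁻¹ * (s q)⁻¹), mem_hull (hcomZ x hx _ (hs q))⟩
        have hχ : (∑ q ∈ insert q₀ F, ((c q * χ q : hull ρ Z) : AddMonoid.End W) * ρ (s q)) = 0 := by
          have h0 : ρ x * (∑ q ∈ insert q₀ F, (c q : AddMonoid.End W) * ρ (s q)) * ρ x⁻¹ = 0 := by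
            rw [hc, mul_zero, zero_mul]
          rw [Finset.mul_sum, Finset.sum_mul] at h0
          refine Eq.trans (Finset.sum_congr rfl fun q _ => ?_) h0
          show (c q : AddMonoid.End W) * ρ (x * s q * x⁻¹ * (s q)⁻¹) * ρ (s q) = _
          rw [← mul_assoc (ρ x), hYR x hx _ (c q).2]
          simp only [mul_assoc, ← map_mul]
          congr 2; group
        have h1 : (∑ q ∈ insert q₀ F, ((c q * χ q - c q * χ q₀ : hull ρ Z) : AddMonoid.End W) * ρ (s q)) = 0 := by
          have hx0 : (∑ q ∈ insert q₀ F, ((c q * χ q₀ : hull ρ Z) : AddMonoid.End W) * ρ (s q)) = 0 := by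
            have h0 : (χ q₀ : AddMonoid.End W) * (∑ q ∈ insert q₀ F, (c q : AddMonoid.End W) * ρ (s q)) = 0 := by
              rw [hc, mul_zero]
            rw [Finset.mul_sum] at h0
            refine Eq.trans (Finset.sum_congr rfl fun q _ => ?_) h0
            rw [Subring.coe_mul, hull_comm hab (c q).2 (χ q₀).2, mul_assoc]
          simp only [AddSubgroupClass.coe_sub, sub_mul, Finset.sum_sub_distrib, hχ, hx0, sub_zero]
        rw [Finset.sum_insert hq₀, sub_self, ZeroMemClass.coe_zero, zero_mul, zero_add] at h1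
        have h2 := ih _ h1 q₁ hq₁
        by_contra hne
        apply hxne
        apply d.inj
        have h3 : ((χ q₁ - χ q₀ : hull ρ Z) : AddMonoid.End W) = 0 := by
          by_contra h4
          apply hne
          refine Subtype.ext (DFunLike.ext _ _ fun u => ?_)
          refine d.hull_injective Z hab _ (χ q₁ - χ q₀).2 h4 _ ?_
          rw [← mulE, hull_comm hab (χ q₁ - χ q₀).2 (c q₁).2, ← Subring.coe_mul, mul_sub, h2]
          rfl
        rw [AddSubgroupClass.coe_sub, sub_eq_zero] at h3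
        exact h3
      intro q hq
      rcases Finset.mem_insert.mp hq with rfl | h
      · rw [Finset.sum_insert hq₀, Finset.sum_eq_zero (fun q' hq' => by rw [hrest q' hq', ZeroMemClass.coe_zero,
          zero_mul]), add_zero] at hc
        refine Subtype.ext ?_
        calc (c q : AddMonoid.End W) = (c q : AddMonoid.End W) * (ρ (s q) * ρ (s q)⁻¹) := by
              rw [← map_mul, mul_inv_cancel, map_one, mul_one]
          _ = 0 := by rw [← mul_assoc, hc, zero_mul]
      · exact hrest q h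
  letI := hullField d Z hab
  let e := Module.finrank (hull ρ Z) W
  let b := Module.finBasis (hull ρ Z) W
  have hWe : Nat.card W = Nat.card (hull ρ Z) ^ e := Module.natCard_eq_pow_finrank
  have : Fintype Q := Fintype.ofFinite Q
  have hcount : Nat.card (Q → hull ρ Z) ≤ Nat.card (Fin e → W) := by
    let op : (Q → hull ρ Z) → AddMonoid.End W := fun c => ∑ q, (c q : AddMonoid.End W) * ρ (s q)
    refine Nat.card_le_card_of_injective (fun c i => op c (b i)) fun c c' h => funext fun q => ?_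
    have h0 : op (c - c') = 0 := by
      have hsub : op (c - c') = op c - op c' := by
        simp only [op, Pi.sub_apply, AddSubgroupClass.coe_sub, sub_mul, Finset.sum_sub_distrib]
      refine DFunLike.ext _ _ fun u => ?_
      rw [zeroE]
      let D : W →ₗ[hull ρ Z] W :=
        { toFun := op (c - c')
          map_add' := map_add _
          map_smul' := fun r x => by
            show op (c - c') ((r : AddMonoid.End W) x) = (r : AddMonoid.End W) (op (c - c') x)
            rw [← mulE, ← mulE, Finset.sum_mul, Finset.mul_sum]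
            refine congrArg (fun a : AddMonoid.End W => a x) (Finset.sum_congr rfl fun q _ => ?_)
            rw [mul_assoc, hYR _ (hs q) _ r.2, ← mul_assoc, hull_comm hab ((c - c') q).2 r.2, mul_assoc] }
      have hD : D = 0 := b.ext fun i => by
        show op (c - c') (b i) = 0
        rw [hsub, subE, sub_eq_zero]
        exact congrFun h i
      exact LinearMap.congr_fun hD u
    exact sub_eq_zero.mp (hli Finset.univ (c - c') h0 q (Finset.mem_univ q))
  rw [Nat.card_fun, Nat.card_fun, Nat.card_fin, hWe, ← pow_mul, ← hwdef] at hcount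
  -- the field has at least four elements
  obtain ⟨z₁, hz₁, hz₁1⟩ : ∃ z ∈ Z, z ≠ 1 := by
    by_contra hcon
    push Not at hcon
    have : Subsingleton Q := by
      refine ⟨fun q q' => ?_⟩
      by_contra hne
      obtain ⟨x, hx, hxne⟩ := hsep q q' hne
      exact hxne ((hcon _ (hcomZ x hx _ (hs q))).trans (hcon _ (hcomZ x hx _ (hs q'))).symm)
    have hw1 : w ≤ 1 := Finite.card_le_one_iff_subsingleton.mpr this
    have : 1 ≤ 2 ^ a := Nat.one_le_two_pow
    omega
  have hR3 : 3 ≤ Nat.card (hull ρ Z) := by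
    have hi : Function.Injective (![0, 1, ⟨ρ z₁, mem_hull hz₁⟩] : Fin 3 → hull ρ Z) := by
      have h01 : (0 : hull ρ Z) ≠ 1 := zero_ne_one
      have h1z : (1 : hull ρ Z) ≠ ⟨ρ z₁, mem_hull hz₁⟩ := fun h =>
        hz₁1 (d.inj ((congrArg Subtype.val h).symm.trans (map_one ρ).symm))
      have h0z : (0 : hull ρ Z) ≠ ⟨ρ z₁, mem_hull hz₁⟩ := fun h => hv₁0 (injective_apply z₁ (by
        rw [map_zero]
        exact (DFunLike.congr_fun (congrArg Subtype.val h) v₁).symm))
      intro i k h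
      fin_cases i <;> fin_cases k <;> first | rfl | exact absurd h h01 | exact absurd h.symm h01 | exact absurd h h1z | exact absurd h.symm h1z | exact absurd h h0z | exact absurd h.symm h0z
    simpa using Nat.card_le_card_of_injective _ hi
  have : Fact (Nat.Prime 2) := ⟨Nat.prime_two⟩
  have hchar : CharP (hull ρ Z) 2 := CharTwo.of_one_ne_zero_of_two_eq_zero one_ne_zero
    (Subtype.ext (DFunLike.ext _ _ fun w => by
      rw [← one_add_one_eq_two]; exact d.two w))
  letI : Algebra (ZMod 2) (hull ρ Z) := ZMod.algebra (hull ρ Z) 2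
  set m := Module.finrank (ZMod 2) (hull ρ Z) with hm
  have hRm : Nat.card (hull ρ Z) = 2 ^ m := by
    rw [Module.natCard_eq_pow_finrank (K := ZMod 2), Nat.card_zmod]
  have hm2 : 2 ≤ m := by
    by_contra hlt
    have : Nat.card (hull ρ Z) ≤ 2 := hRm ▸ Nat.pow_le_pow_right two_pos (show m ≤ 1 by omega)
    omega
  have hWle := d.card_W_le
  rw [hWe, hRm, ← pow_mul, ha, ← pow_add] at hWle
  have hme : m * e ≤ a + a := (Nat.pow_le_pow_iff_right (le_refl 2)).mp hWle
  have he : e ≤ a := by nlinarith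
  rw [hRm] at hcount
  rw [← pow_mul, ← pow_mul] at hcount
  have hwe : w ≤ e * e := by
    have h := (Nat.pow_le_pow_iff_right (le_refl 2)).mp hcount
    exact Nat.le_of_mul_le_mul_left (by linarith [h]) (show 0 < m by omega)
  have hee : e * e ≤ a * a := Nat.mul_le_mul he he
  rcases Nat.lt_or_ge a 4 with h4 | h4
  · interval_cases a
    · norm_num at hw; omega
    · -- `|T| = 8` is not a power of four
      norm_num at hw
      have he3 : e = 3 := by interval_cases e <;> omega
      have hm' : m = 2 := by rw [he3] at hme; omega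
      let T' : Submodule (hull ρ Z) W :=
        { toAddSubmonoid := T.toAddSubmonoid
          smul_mem' := fun r x hx => d.map_T (hgR _ r.2) hx }
      have hT' : Nat.card T = Nat.card (hull ρ Z) ^ Module.finrank (hull ρ Z) T' :=
        (Nat.card_congr (Equiv.refl _)).trans (Module.natCard_eq_pow_finrank (V := T'))
      rw [ha, hRm, hm', ← pow_mul] at hT'
      have := Nat.pow_right_injective (le_refl 2) hT'
      omega
  · have hgrow : ∀ n, 4 ≤ n → n * n ≤ 2 ^ n := by
      intro n hn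
      induction n, hn using Nat.le_induction with
      | base => norm_num
      | succ n hn ih => rw [pow_succ]; nlinarith
    have := hgrow a h4
    omega

end Datum

/-- The additive form of `BigCommutator`. -/
theorem false_of_datum (d : Datum ρ g U T) : False := by
  set B := Subgroup.normalClosure ({g} : Set G) with hB
  have hgB : g ∈ B := Subgroup.subset_normalClosure rfl
  obtain ⟨n, hn⟩ := (Cfsg.Agent.S0205.result d.odd).solvable
  have hcent : ∀ (N : Subgroup G) [N.Normal], (∀ x ∈ N, g * x = x * g) →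
      ∀ y ∈ B, ∀ x ∈ N, y * x = x * y := by
    intro N hN h y hy x hx
    have hle : B ≤ Subgroup.centralizer (N : Set G) := Subgroup.normalClosure_le_normal (by
      rw [Set.singleton_subset_iff]
      exact Subgroup.mem_centralizer_iff.mpr fun z hz => (h z hz).symm)
    exact (Subgroup.mem_centralizer_iff.mp (hle hy) x hx).symm
  have key : ∀ k, k ≤ n → ∀ x ∈ derivedSeries G (n - k) ⊓ B, ∀ y ∈ derivedSeries G (n - k) ⊓ B,
      x * y = y * x := by
    intro k
    induction k with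
    | zero =>
      intro _ x hx y _
      rw [Nat.sub_zero, hn, bot_inf_eq, Subgroup.mem_bot] at hx
      rw [hx, one_mul, mul_one]
    | succ k ih =>
      intro hk
      set r := n - (k + 1) with hr
      have hr1 : n - k = r + 1 := by omega
      have ih' := ih (by omega)
      rw [hr1] at ih'
      have : (derivedSeries G r).Normal := derivedSeries_normal G r
      have : (derivedSeries G (r + 1)).Normal := derivedSeries_normal G (r + 1)
      have : B.Normal := Subgroup.normalClosure_normal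
      have hg1 := d.abelian_normal_commute (derivedSeries G (r + 1) ⊓ B) ih'
      have hc1 := hcent (derivedSeries G (r + 1) ⊓ B) hg1
      have hg2 := d.class_two_commute (derivedSeries G r ⊓ B) (fun x hx y hy z hz => by
        refine hc1 z hz.2 _ ⟨?_, B.mul_mem (B.mul_mem (B.mul_mem hx.2 hy.2) (B.inv_mem hx.2)) (B.inv_mem hy.2)⟩
        rw [derivedSeries_succ]
        exact Subgroup.commutator_mem_commutator hx.1 hy.1)
      exact fun x hx y hy => hcent (derivedSeries G r ⊓ B) hg2 x hx.2 y hy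
  have hab : ∀ x ∈ B, ∀ y ∈ B, x * y = y * x := fun x hx y hy => key n le_rfl x
    ⟨by rw [Nat.sub_self, derivedSeries_zero]; exact Subgroup.mem_top x, hx⟩ y
    ⟨by rw [Nat.sub_self, derivedSeries_zero]; exact Subgroup.mem_top y, hy⟩
  have : B.Normal := Subgroup.normalClosure_normal
  obtain ⟨v, hv, hv0⟩ : ∃ v ∈ U, v ≠ 0 := by
    by_contra hcon
    push Not at hcon
    exact d.ne_bot ((AddSubgroup.eq_bot_iff_forall U).mpr hcon)
  refine d.ne_one (d.inj (by_contra fun hne => hv0 (d.hull_injective B hab (ρ g - 1)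
    (sub_mem (mem_hull hgB) (one_mem _)) (sub_ne_zero.mpr fun h => hne (h.trans (map_one ρ).symm)) v ?_)))
  rw [subE, oneE, (d.mem_U v).mp hv, sub_self]

end CfsgLib.Walter.RankFour.Big

namespace CfsgLib.Walter.RankFour

universe u

/-- The linear lemma. -/
theorem bigCommutator : BigCommutator.{u} := by
  intro V _ _ hexp hcard A hodd hirr g hg U T hU hT hc hT4 hord hU0 hle
  let ρ : A →* AddMonoid.End (Additive V) :=
    { toFun := fun a => MonoidHom.toAdditive ((a : MulAut V).toMonoidHom)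
      map_one' := rfl
      map_mul' := fun _ _ => rfl }
  refine Big.false_of_datum (ρ := ρ) (g := ⟨g, hg⟩) (U := Subgroup.toAddSubgroup U)
    (T := Subgroup.toAddSubgroup T) ⟨?_, hodd, ?_, ?_, ?_, ?_, ?_, ?_, ?_, ?_, ?_, ?_⟩
  · intro a b h
    exact Subtype.ext (MulEquiv.ext fun v => congrArg Additive.toMul (DFunLike.congr_fun h (Additive.ofMul v)))
  · intro w
    show Additive.ofMul (w.toMul * w.toMul) = 0
    rw [← sq, hexp]; rfl
  · exact hcard
  · intro X hX
    rcases hirr (AddSubgroup.toSubgroup' X) fun f hf w hw => hX ⟨f, hf⟩ (Additive.ofMul w) hw with h | h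
    · exact Or.inl (AddSubgroup.toSubgroup'.injective (h.trans (by ext; rfl)))
    · exact Or.inr (AddSubgroup.toSubgroup'.injective (h.trans (by ext; rfl)))
  · exact fun w => hU w.toMul
  · exact fun w hw => hT w.toMul hw
  · exact (Subgroup.toAddSubgroup (G := V)).isCompl_iff.mp hc
  · exact hT4
  · rw [Subgroup.orderOf_mk]; exact hord
  · exact fun h => hU0 (Subgroup.toAddSubgroup.injective (h.trans (map_bot Subgroup.toAddSubgroup).symm))
  · exact hle

end CfsgLib.Walter.RankFour
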