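import Cfsg.Agent.Lib.Walter.RankFour.Interface
import Cfsg.Agent.Lib.Components.Balance
import Cfsg.Agent.Lib.Components.FStar
import Cfsg.Agent.Lib.Tech46.BalanceAut
import Cfsg.Agent.Lib.PF.OddOrder

/-!
# Walter's theorem, rank at least four: groups with trivial core and good components

`H` has trivial core, an elementary abelian Sylow 2-subgroup `S` and good components. Then perfect
subgroups lie in the layer, the layer and `N(S)` generate `H`, the signalisers `Δ(E)` of subgroups of
order at least 8 are trivial and a cycle inside the layer moves the involutions of one component only.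
-/

set_option autoImplicit false
set_option linter.unusedSectionVars false
set_option linter.style.haveILetI false
set_option linter.unusedVariables false

namespace CfsgLib.Walter.RankFour

open Subgroup

universe u

variable {H : Type u} [Group H] [Finite H]

local instance : Fact (Nat.Prime 2) := ⟨Nat.prime_two⟩

/-- A perfect subgroup lies in every normal subgroup over which a solvable normal subgroup contains it. -/
theorem perfect_le_of_sup {P N R : Subgroup H} [N.Normal] (hP : ⁅P, P⁆ = P)
    (hR : Group.IsSolvable R) (hle : P ≤ N ⊔ R) : P ≤ N := by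
  haveI : Group.IsPerfect P := isPerfect_iff.2 hP
  haveI : Group.IsPerfect (P.map (QuotientGroup.mk' N)) := Group.IsPerfect.map _
  have hle' : P.map (QuotientGroup.mk' N) ≤ R.map (QuotientGroup.mk' N) := by
    refine (map_mono hle).trans ?_
    rw [Subgroup.map_sup, QuotientGroup.map_mk'_self, bot_sup_eq]
  haveI := hR
  haveI : Group.IsSolvable (R.map (QuotientGroup.mk' N)) :=
    Group.isSolvable_of_surjective ((QuotientGroup.mk' N).subgroupMap_surjective R)
  have hs : Group.IsSolvable (P.map (QuotientGroup.mk' N)) :=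
    Group.isSolvable_of_isSolvable_injective (inclusion_injective hle')
  have hb : P.map (QuotientGroup.mk' N) = ⊥ := by
    by_contra h
    haveI := (Subgroup.nontrivial_iff_ne_bot _).2 h
    exact Group.IsPerfect.not_isSolvable _ hs
  intro x hx
  have := mem_map_of_mem (QuotientGroup.mk' N) hx
  rw [hb, mem_bot] at this
  exact (QuotientGroup.eq_one_iff x).1 this

/-- A perfect subgroup lies in every normal subgroup of odd index. -/
theorem perfect_le_of_odd_index {P M : Subgroup H} [M.Normal] (hP : ⁅P, P⁆ = P) (hM : Odd M.index) :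
    P ≤ M := by
  haveI : Group.IsSolvable (H ⧸ M) := CfsgLib.PF.oddSolvable _ (by rwa [← index_eq_card])
  haveI : Group.IsPerfect P := isPerfect_iff.2 hP
  haveI : Group.IsPerfect (P.map (QuotientGroup.mk' M)) := Group.IsPerfect.map _
  have hb : P.map (QuotientGroup.mk' M) = ⊥ := by
    by_contra h
    haveI := (Subgroup.nontrivial_iff_ne_bot _).2 h
    exact Group.IsPerfect.not_isSolvable (P.map (QuotientGroup.mk' M)) inferInstance
  intro x hx
  have := mem_map_of_mem (QuotientGroup.mk' M) hx
  rw [hb, mem_bot] at this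
  exact (QuotientGroup.eq_one_iff x).1 this

variable {S : Sylow 2 H}

theorem comm_of_elementary (hel : ∀ s ∈ (S : Subgroup H), s ^ 2 = 1) {a b : H}
    (ha : a ∈ (S : Subgroup H)) (hb : b ∈ (S : Subgroup H)) : a * b = b * a := by
  have h : ∀ c ∈ (S : Subgroup H), c⁻¹ = c := fun c hc =>
    inv_eq_of_mul_eq_one_right (by rw [← pow_two, hel c hc])
  calc a * b = (a * b)⁻¹ := (h _ (mul_mem ha hb)).symm
    _ = b⁻¹ * a⁻¹ := mul_inv_rev a b
    _ = b * a := by rw [h a ha, h b hb]

/-- An element of `S` is a product of elements of components and of an element centralising the layer. -/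
theorem exists_layer_part (hel : ∀ s ∈ (S : Subgroup H), s ^ 2 = 1) (hsf : SplitFacts (S : Subgroup H))
    {s : H} (hs : s ∈ (S : Subgroup H)) :
    ∃ e ∈ (⨆ L : {L : Subgroup H // Cfsg.IsComponent L}, (S : Subgroup H) ⊓ (L : Subgroup H)),
      e⁻¹ * s ∈ (S : Subgroup H) ⊓ centralizer (Cfsg.layer H : Set H) := by
  classical
  haveI : Fintype (Subgroup H) := Fintype.ofFinite _
  set U := ⨆ L : {L : Subgroup H // Cfsg.IsComponent L}, (S : Subgroup H) ⊓ (L : Subgroup H) with hU
  have hUS : U ≤ (S : Subgroup H) := iSup_le fun L => inf_le_left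
  suffices h : ∀ F : Finset (Subgroup H), (∀ L ∈ F, Cfsg.IsComponent L) →
      ∃ e ∈ U, ∀ L ∈ F, e⁻¹ * s ∈ centralizer (L : Set H) by
    obtain ⟨e, he, hc⟩ := h (Finset.univ.filter fun L : Subgroup H => Cfsg.IsComponent L)
      (fun L hL => (Finset.mem_filter.1 hL).2)
    refine ⟨e, he, Subgroup.mem_inf.2 ⟨mul_mem (inv_mem (hUS he)) hs, ?_⟩⟩
    rw [← zpowers_le, le_centralizer_iff]
    refine sSup_le fun L hL => ?_
    rw [← le_centralizer_iff, zpowers_le]
    exact hc L (Finset.mem_filter.2 ⟨Finset.mem_univ _, hL⟩)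
  intro F
  induction F using Finset.induction_on with
  | empty => exact fun _ => ⟨1, one_mem _, fun L hL => absurd hL (Finset.notMem_empty L)⟩
  | insert L F hLF ih =>
    intro hF
    obtain ⟨e, he, hc⟩ := ih fun K hK => hF K (Finset.mem_insert_of_mem hK)
    have hL := hF L (Finset.mem_insert_self L F)
    have hes : e⁻¹ * s ∈ (S : Subgroup H) := mul_mem (inv_mem (hUS he)) hs
    obtain ⟨t, ht, htc⟩ := hsf.centralizes hel L hL _ hes
    have htU : t ∈ U := le_iSup
      (fun L : {L : Subgroup H // Cfsg.IsComponent L} => (S : Subgroup H) ⊓ (L : Subgroup H))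
      ⟨L, hL⟩ ht
    refine ⟨e * t⁻¹, mul_mem he (inv_mem htU), fun K hK => ?_⟩
    have heq : (e * t⁻¹)⁻¹ * s = e⁻¹ * s * t := by
      rw [mul_inv_rev, inv_inv, mul_assoc]
      exact comm_of_elementary hel ht.1 hes
    rw [heq]
    rcases Finset.mem_insert.1 hK with rfl | hK
    · exact htc
    · have hne : L ≠ K := fun h => hLF (h ▸ hK)
      exact mul_mem (hc K hK) (Components.le_centralizer_of_commutator_eq_bot
        (Components.commutator_components_eq_bot hL (hF K (Finset.mem_insert_of_mem hK)) hne) ht.2)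

theorem pCore_le (S : Sylow 2 H) : Cfsg.pCore 2 H ≤ (S : Subgroup H) :=
  CfsgLib.PCore.pCore_le_sylow S

/-- What centralises the layer in `S` lies in `O₂(H)`. -/
theorem inf_centralizer_layer_le (hO : Cfsg.pPrimeCore 2 H = ⊥)
    (hel : ∀ s ∈ (S : Subgroup H), s ^ 2 = 1) :
    (S : Subgroup H) ⊓ centralizer (Cfsg.layer H : Set H) ≤ Cfsg.pCore 2 H := by
  rintro x ⟨hxS, hxE⟩
  rw [← Components.fitting_eq_pCore_of_pPrimeCore_eq_bot hO]
  refine Components.centralizer_generalizedFitting_le_fitting ?_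
  rw [← zpowers_le, le_centralizer_iff]
  refine sup_le ?_ ?_
  · rwa [← le_centralizer_iff, zpowers_le]
  · rw [Components.fitting_eq_pCore_of_pPrimeCore_eq_bot hO, ← le_centralizer_iff, zpowers_le,
      Subgroup.mem_centralizer_iff]
    exact fun y hy => comm_of_elementary hel (pCore_le S hy) hxS

/-- The Sylow subgroup lies in `E(H) O₂(H)`. -/
theorem sylow_le_layer_sup (hO : Cfsg.pPrimeCore 2 H = ⊥) (hel : ∀ s ∈ (S : Subgroup H), s ^ 2 = 1)
    (hsf : SplitFacts (S : Subgroup H)) :
    (S : Subgroup H) ≤ Cfsg.layer H ⊔ Cfsg.pCore 2 H := by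
  intro s hs
  obtain ⟨e, he, hc⟩ := exists_layer_part hel hsf hs
  rw [show s = e * (e⁻¹ * s) by group]
  have hle : (⨆ L : {L : Subgroup H // Cfsg.IsComponent L}, (S : Subgroup H) ⊓ (L : Subgroup H)) ≤
      Cfsg.layer H := iSup_le fun L => inf_le_right.trans (Components.component_le_layer L.2)
  exact mul_mem (mem_sup_left (hle he)) (mem_sup_right (inf_centralizer_layer_le hO hel hc))

/-- Perfect subgroups lie in the layer. -/
theorem perfect_le_layer (hO : Cfsg.pPrimeCore 2 H = ⊥) (hel : ∀ s ∈ (S : Subgroup H), s ^ 2 = 1)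
    (hsf : SplitFacts (S : Subgroup H)) {P : Subgroup H} (hP : ⁅P, P⁆ = P) :
    P ≤ Cfsg.layer H := by
  have hodd : Odd (Cfsg.layer H ⊔ Cfsg.pCore 2 H).index := by
    rw [← Nat.not_even_iff_odd, even_iff_two_dvd]
    exact fun h => S.not_dvd_index (h.trans (index_dvd_of_le (sylow_le_layer_sup hO hel hsf)))
  haveI := (CfsgLib.PCore.pCore_isPGroup (p := 2) (G := H)).isNilpotent
  exact perfect_le_of_sup hP inferInstance (perfect_le_of_odd_index hP hodd)

/-- The layer and the normaliser of `S` generate `H`. -/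
theorem layer_sup_normalizer (hO : Cfsg.pPrimeCore 2 H = ⊥) (hel : ∀ s ∈ (S : Subgroup H), s ^ 2 = 1)
    (hsf : SplitFacts (S : Subgroup H)) :
    Cfsg.layer H ⊔ normalizer ((S : Subgroup H) : Set H) = ⊤ := by
  have hle := sylow_le_layer_sup hO hel hsf
  have hF := Sylow.normalizer_sup_eq_top' (N := Cfsg.layer H ⊔ Cfsg.pCore 2 H) S hle
  rw [eq_top_iff, ← hF]
  refine sup_le le_sup_right (sup_le le_sup_left ?_)
  exact (pCore_le S).trans (le_normalizer.trans le_sup_right)

/-- The signalisers of the subgroups of order at least eight are trivial. -/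
theorem local_delta_eq_bot (hO : Cfsg.pPrimeCore 2 H = ⊥) (hel : ∀ s ∈ (S : Subgroup H), s ^ 2 = 1)
    (hgood : GoodComps H) (hsf : SplitFacts (S : Subgroup H)) {E : Subgroup H}
    (hES : E ≤ (S : Subgroup H)) (h8 : 8 ≤ Nat.card E) : Cfsg.signalizerDelta 2 E = ⊥ := by
  classical
  set Y := Cfsg.signalizerDelta 2 E with hY
  obtain ⟨e₀, he₀, he₀1⟩ := (Subgroup.bot_or_exists_ne_one E).resolve_left (fun h => by
    rw [h, Subgroup.card_bot] at h8; omega)
  have hord : ∀ e ∈ E, e ≠ 1 → orderOf e = 2 := fun e he he1 =>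
    orderOf_eq_prime (hel e (hES he)) he1
  have hYle : ∀ e ∈ E, e ≠ 1 → Y ≤ Cfsg.centralizerPPrimeCore 2 e := fun e he he1 =>
    CfsgLib.Tech46.signalizerDelta_le he he1
  have hYc : (Nat.card Y).Coprime 2 :=
    (CfsgLib.Tech46.centralizerPPrimeCore_coprime e₀).coprime_dvd_left
      (card_dvd_of_le (hYle e₀ he₀ he₀1))
  refine Components.eq_bot_of_centralizes hO hYc
    ((hYle e₀ he₀ he₀1).trans (Components.centralizerPPrimeCore_le_centralizer_pCore (hord e₀ he₀ he₀1)))
    fun L hL => ?_
  by_cases hex : ∃ e ∈ E, e ≠ 1 ∧ e ∈ centralizer (L : Set H)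
  · obtain ⟨e, he, he1, hec⟩ := hex
    refine le_bot_iff.1 ((commutator_mono le_rfl (hYle e he he1)).trans (le_of_eq ?_))
    refine Components.commutator_centralizerPPrimeCore_eq_bot hO (hord e he he1) hL ?_
    intro h
    refine Components.component_ne_bot hL ?_
    rw [← h, commutator_comm, commutator_eq_bot_iff_le_centralizer, zpowers_le]
    exact hec
  push Not at hex
  -- the projection of `E` into `L`
  have hproj : ∀ e : E, ∃ d : L, (d : H) ∈ (S : Subgroup H) ∧ (e : H) * d ∈ centralizer (L : Set H) := by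
    intro e
    obtain ⟨d, hd, hdc⟩ := hsf.centralizes hel L hL e (hES e.2)
    exact ⟨⟨d, hd.2⟩, hd.1, hdc⟩
  choose f hfS hfc using hproj
  have huniq : ∀ (e : E) (d : L), (d : H) ∈ (S : Subgroup H) →
      (e : H) * d ∈ centralizer (L : Set H) → d = f e := by
    intro e d hdS hdc
    have h1 : (f e : H)⁻¹ * d ∈ L ⊓ centralizer (L : Set H) := by
      refine Subgroup.mem_inf.2 ⟨mul_mem (inv_mem (f e).2) d.2, ?_⟩
      have := mul_mem (inv_mem (hfc e)) hdc
      rwa [mul_inv_rev, mul_assoc, inv_mul_cancel_left] at this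
    rw [hsf.center L hL, mem_bot, inv_mul_eq_one] at h1
    exact Subtype.ext h1.symm
  let φ : E →* L := MonoidHom.mk' f fun a b => by
    refine (huniq _ _ (mul_mem (hfS a) (hfS b)) ?_).symm
    have hc : ((a * b : E) : H) * ((f a * f b : L) : H) = ((a : H) * f a) * ((b : H) * f b) := by
      rw [Subgroup.coe_mul, Subgroup.coe_mul, mul_assoc, mul_assoc (a : H), ← mul_assoc (b : H),
        comm_of_elementary hel (hES b.2) (hfS a), mul_assoc]
    rw [hc]
    exact mul_mem (hfc a) (hfc b)
  have hφ : Function.Injective φ := by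
    rw [injective_iff_map_eq_one]
    intro e he
    by_contra he1
    refine hex e e.2 (fun h => he1 (Subtype.ext h)) ?_
    have := hfc e
    rwa [show f e = 1 from he, OneMemClass.coe_one, mul_one] at this
  have hD : IsPGroup 2 φ.range := by
    rintro ⟨_, e, rfl⟩
    exact ⟨1, Subtype.ext (Subtype.ext (hel _ (hfS e)))⟩
  obtain ⟨T, hT⟩ := hD.exists_le_sylow
  have h8D : 8 ≤ Nat.card φ.range := by rwa [← Nat.card_congr (MonoidHom.ofInjective hφ).toEquiv]
  have h8T : 8 ≤ Nat.card (T : Subgroup L) := h8D.trans (card_le_of_le hT)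
  rw [commutator_comm, commutator_eq_bot_iff_le_centralizer]
  intro y hy
  have hyn : y ∈ normalizer (L : Set H) :=
    Components.centralizerPPrimeCore_le_normalizer_component hO (hord e₀ he₀ he₀1) hL
      (hYle e₀ he₀ he₀1 hy)
  let c : MulAut L := L.normalizerMonoidHom ⟨y, hyn⟩
  have hcv : ∀ x : L, (c x : H) = y * x * y⁻¹ := fun x => rfl
  have hcodd : Odd (orderOf c) := by
    refine Odd.of_dvd_nat ?_ ((orderOf_map_dvd _ _).trans (dvd_of_eq (Subgroup.orderOf_mk _ _)))
    refine Odd.of_dvd_nat (Nat.coprime_two_right.1 hYc) ?_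
    rw [← Subgroup.orderOf_mk y hy]
    exact orderOf_dvd_natCard _
  have hc1 : c = 1 := by
    refine (hgood L hL).rigid T φ.range hT h8D c hcodd ?_
    rintro _ ⟨e, rfl⟩ hd1 x hxd
    have he1 : (e : H) ≠ 1 := fun h => hd1 (by rw [show e = 1 from Subtype.ext h, map_one])
    set d : L := f e with hd
    have hd2 : (d : H) * d = 1 := by rw [← pow_two]; exact hel _ (hfS e)
    -- `C_L(d)` centralises `e`
    have hcent : ∀ z : L, z * d = d * z → (z : H) * e = (e : H) * z := by
      intro z hz
      have hz' : (z : H) * d = (d : H) * z := congrArg Subtype.val hz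
      have hzed : (z : H) * ((e : H) * d) = (e : H) * d * z :=
        Subgroup.mem_centralizer_iff.1 (hfc e) z z.2
      calc (z : H) * e = (z : H) * ((e : H) * d) * d := by rw [mul_assoc, mul_assoc (e : H), hd2, mul_one]
        _ = (e : H) * d * z * d := by rw [hzed]
        _ = (e : H) * d * ((d : H) * z) := by rw [mul_assoc, hz']
        _ = (e : H) * z := by rw [← mul_assoc, mul_assoc (e : H), hd2, mul_one]
    set O := Cfsg.centralizerPPrimeCore 2 (e : H) with hOdef
    have hOn : ∀ z : H, z * (e : H) = (e : H) * z → ∀ w ∈ O, z * w * z⁻¹ ∈ O := by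
      rintro z hz _ ⟨w, hw, rfl⟩
      exact ⟨⟨z, mem_centralizer_singleton_iff.2 hz⟩ * w * ⟨z, mem_centralizer_singleton_iff.2 hz⟩⁻¹,
        (inferInstance : (Cfsg.pPrimeCore 2 (centralizer ({(e : H)} : Set H))).Normal).conj_mem w hw _, rfl⟩
    -- the commutator is in the core of `C_L(d)`
    set W : Subgroup (centralizer ({d} : Set L)) := (O.subgroupOf L).subgroupOf _ with hW
    have hWn : W.Normal := ⟨fun w hw z => by
      rw [hW, mem_subgroupOf, mem_subgroupOf] at hw ⊢
      exact hOn _ (hcent z.1 (mem_centralizer_singleton_iff.1 z.2)) _ hw⟩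
    have hWc : (Nat.card W).Coprime 2 := by
      refine (CfsgLib.Tech46.centralizerPPrimeCore_coprime (e : H)).coprime_dvd_left ?_
      exact (Subgroup.card_comap_dvd_of_injective _ (centralizer ({d} : Set L)).subtype
        (Subtype.val_injective)).trans
        (Subgroup.card_comap_dvd_of_injective O L.subtype L.subtype_injective)
    have hyO : y ∈ O := hYle e e.2 he1 hy
    have hxe : (x : H) * e = (e : H) * x := hcent x hxd
    have hm : y * x * y⁻¹ * (x : H)⁻¹ ∈ O := by
      rw [mul_assoc, mul_assoc, ← mul_assoc (x : H)]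
      exact mul_mem hyO (hOn x hxe _ (inv_mem hyO))
    have hye : y * (e : H) = (e : H) * y := by
      obtain ⟨w, -, rfl⟩ := hyO
      exact mem_centralizer_singleton_iff.1 w.2
    have hw : c x * x⁻¹ ∈ centralizer ({d} : Set L) := by
      refine mem_centralizer_singleton_iff.2 (Subtype.ext ?_)
      show (c x : H) * (x : H)⁻¹ * (d : H) = (d : H) * ((c x : H) * (x : H)⁻¹)
      have hk : (c x : H) * (x : H)⁻¹ * e = (e : H) * ((c x : H) * (x : H)⁻¹) := by
        rw [hcv]
        exact (((show Commute y (e : H) from hye).mul_left hxe).mul_left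
          (show Commute y (e : H) from hye).inv_left).mul_left (show Commute (x : H) e from hxe).inv_left
      have hked : (c x : H) * (x : H)⁻¹ * ((e : H) * d) = (e : H) * d * ((c x : H) * (x : H)⁻¹) :=
        Subgroup.mem_centralizer_iff.1 (hfc e) _ (mul_mem (c x).2 (inv_mem x.2))
      rw [← mul_assoc, hk, mul_assoc, mul_assoc (e : H) (d : H)] at hked
      exact mul_left_cancel hked
    have hmem : (⟨c x * x⁻¹, hw⟩ : centralizer ({d} : Set L)) ∈ W := by
      rw [hW, mem_subgroupOf, mem_subgroupOf]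
      show (c x : H) * (x : H)⁻¹ ∈ O
      rw [hcv]; exact hm
    have hcore : c x * x⁻¹ ∈ Cfsg.centralizerPPrimeCore 2 d :=
      ⟨_, CfsgLib.PCore.le_pPrimeCore hWn hWc hmem, rfl⟩
    rw [(hgood L hL).coreFree T h8T d (hT ⟨e, rfl⟩) (fun h => hd1 h), mem_bot, mul_inv_eq_one] at hcore
    exact hcore
  rw [Subgroup.mem_centralizer_iff]
  intro x hx
  have := congrArg Subtype.val (DFunLike.congr_fun hc1 ⟨x, hx⟩)
  rw [hcv] at this
  exact (mul_inv_eq_iff_eq_mul.1 this).symm

/-- A cycle in the layer moves the involutions of one component only. -/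
theorem exists_component_of_cycle (hO : Cfsg.pPrimeCore 2 H = ⊥)
    (hel : ∀ s ∈ (S : Subgroup H), s ^ 2 = 1) (hsf : SplitFacts (S : Subgroup H)) {W : Subgroup H}
    {g : H} (hg : g ∈ Cfsg.layer H) (hc : Cycle (S : Subgroup H) W g) :
    ∃ L, Cfsg.IsComponent L ∧ W ≤ L := by
  classical
  by_cases hex : ∃ L, Cfsg.IsComponent L ∧ ∃ t ∈ (S : Subgroup H) ⊓ L, g * t * g⁻¹ ≠ t
  · obtain ⟨L, hL, t, ht, htg⟩ := hex
    have hgL : g ∈ normalizer (L : Set H) := Components.layer_le_normalizer_component hL hg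
    set w := g * t * g⁻¹ * t⁻¹ with hw
    have hwW : w ∈ W := hc.move t ht.1
    have hwL : w ∈ L := mul_mem ((mem_normalizer_iff.1 hgL t).1 ht.2) (inv_mem ht.2)
    have hw1 : w ≠ 1 := fun h => htg (mul_inv_eq_one.1 h)
    refine ⟨L, hL, fun x hx => ?_⟩
    by_cases hx1 : x = 1
    · rw [hx1]; exact one_mem L
    · obtain ⟨i, hi⟩ := hc.trans w hwW hw1 x hx hx1
      rw [← hi]
      exact (mem_normalizer_iff.1 (pow_mem hgL i) w).1 hwL
  push Not at hex
  exfalso
  have hfix : ∀ s ∈ (S : Subgroup H), g * s = s * g := by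
    intro s hs
    obtain ⟨e, he, hec⟩ := exists_layer_part hel hsf hs
    have hce : g * e = e * g := by
      have hle : (⨆ L : {L : Subgroup H // Cfsg.IsComponent L}, (S : Subgroup H) ⊓ (L : Subgroup H)) ≤
          centralizer ({g} : Set H) := iSup_le fun L t ht =>
        mem_centralizer_singleton_iff.2 (mul_inv_eq_iff_eq_mul.1 (hex L L.2 t ht)).symm
      exact (mem_centralizer_singleton_iff.1 (hle he)).symm
    have hcc : g * (e⁻¹ * s) = e⁻¹ * s * g := Subgroup.mem_centralizer_iff.1 hec.2 g hg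
    have := (show Commute g e from hce).mul_right (show Commute g (e⁻¹ * s) from hcc)
    rwa [mul_inv_cancel_left] at this
  have hW := hc.four_le
  obtain ⟨x, hx, hx1⟩ := (Subgroup.bot_or_exists_ne_one W).resolve_left (fun h => by
    rw [h, Subgroup.card_bot] at hW; omega)
  obtain ⟨y, hy, hy1, hxy⟩ : ∃ y ∈ W, y ≠ 1 ∧ y ≠ x := by
    by_contra hno
    push Not at hno
    have hsub : (W : Set H) ⊆ {1, x} := fun z hz => by
      by_cases hz1 : z = 1
      · exact Or.inl hz1
      · exact Or.inr (hno z hz hz1)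
    have h := Set.ncard_le_ncard hsub
    rw [← Nat.card_coe_set_eq, Set.ncard_pair hx1.symm] at h
    change Nat.card W ≤ 2 at h
    omega
  obtain ⟨i, hi⟩ := hc.trans x hx hx1 y hy hy1
  refine hxy (hi.symm.trans ?_)
  rw [((show Commute g x from hfix x (hc.le hx)).pow_left i).eq, mul_inv_cancel_right]

end CfsgLib.Walter.RankFour
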