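import Cfsg.Agent.Lib.Walter.RankFour.Lift
import Cfsg.Agent.Lib.Walter.RankFour.Reduced

/-!
# The blocks of a Sylow 2-subgroup

A piece is a subgroup `W` of `S` moved by a cycle inside a perfect `S`-invariant subgroup of the centralizer
of an involution of `S`; these are the Sylow pieces of components and their subgroups. The maximal pieces are
the blocks.
-/

set_option autoImplicit false
set_option linter.unusedSectionVars false

namespace CfsgLib.Walter.RankFour

open Subgroup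

universe u

variable {G : Type u} [Group G] [Finite G]

local instance : Fact (Nat.Prime 2) := ⟨Nat.prime_two⟩

/-- `W` is moved by a cycle inside a perfect `S`-invariant subgroup of an involution centralizer. -/
def IsPiece (S W : Subgroup G) : Prop :=
  ∃ u ∈ S, u ≠ 1 ∧ ∃ P : Subgroup G, ⁅P, P⁆ = P ∧ P ≤ cen u ∧ S ≤ normalizer (P : Set G) ∧
    ∃ g ∈ P, Cycle S W g

/-- A piece contained in no larger one. -/
def IsMaxPiece (S V : Subgroup G) : Prop := IsPiece S V ∧ ∀ X, IsPiece S X → V ≤ X → X = V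

/-- The elements of `S` fixed by `g`. -/
abbrev fixSub (S : Subgroup G) (g : G) : Subgroup G := S ⊓ centralizer ({g} : Set G)

theorem mem_fixSub {S : Subgroup G} {g s : G} : s ∈ fixSub S g ↔ s ∈ S ∧ g * s * g⁻¹ = s := by
  rw [mem_inf, mem_centralizer_singleton_iff, mul_inv_eq_iff_eq_mul, eq_comm (a := g * s)]

theorem isPiece_conj {S W : Subgroup G} {n : G} (hn : n ∈ normalizer (S : Set G)) (h : IsPiece S W) :
    IsPiece S (W.map (MulAut.conj n).toMonoidHom) := by
  obtain ⟨u, hu, hu1, P, hP, hPu, hSP, g, hg, hc⟩ := h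
  set c := (MulAut.conj n).toMonoidHom with hc'
  have hcapp : ∀ x, c x = n * x * n⁻¹ := fun x => rfl
  have hinj : Function.Injective c := (MulAut.conj n).injective
  have hSmap : S.map c = S := (mem_normalizer_iff_map_conj_eq).1 hn
  have hmemS : ∀ x ∈ S, c x ∈ S := fun x hx => hSmap.le (mem_map_of_mem c hx)
  refine ⟨c u, hmemS u hu, fun h => hu1 (hinj (h.trans (map_one c).symm)), P.map c, ?_, ?_, ?_,
    c g, mem_map_of_mem c hg, ?_, map_le_iff_le_comap.2 fun x hx => hmemS x (hc.le hx), ?_, ?_, ?_⟩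
  · rw [← map_commutator, hP]
  · rintro _ ⟨x, hx, rfl⟩
    rw [mem_centralizer_singleton_iff, ← map_mul, ← map_mul, mem_centralizer_singleton_iff.1 (hPu hx)]
  · rw [← hSmap]
    exact (Subgroup.map_mono hSP).trans (le_normalizer_map c)
  · rw [← hSmap]
    exact le_normalizer_map c (mem_map_of_mem c hc.mem_normalizer)
  · rw [card_map_of_injective hinj]
    exact hc.four_le
  · intro s hs
    rw [← hSmap] at hs
    obtain ⟨t, ht, rfl⟩ := hs
    exact ⟨g * t * g⁻¹ * t⁻¹, hc.move t ht, by simp only [map_mul, map_inv]⟩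
  · rintro _ ⟨x, hx, rfl⟩ hx1 _ ⟨y, hy, rfl⟩ hy1
    obtain ⟨i, hi⟩ := hc.trans x hx (fun h => hx1 (by rw [h, map_one])) y hy
      (fun h => hy1 (by rw [h, map_one]))
    exact ⟨i, by rw [← map_pow, ← map_inv, ← map_mul, ← map_mul, hi]⟩

theorem exists_maxPiece_ge {S W : Subgroup G} (h : IsPiece S W) : ∃ V, IsMaxPiece S V ∧ W ≤ V := by
  obtain ⟨V, hWV, hV⟩ := (Set.toFinite {X : Subgroup G | IsPiece S X}).exists_le_maximal h
  exact ⟨V, ⟨hV.prop, fun X hX hle => le_antisymm (hV.le_of_ge hX hle) hle⟩, hWV⟩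

theorem isMaxPiece_conj {S V : Subgroup G} {n : G} (hn : n ∈ normalizer (S : Set G))
    (h : IsMaxPiece S V) : IsMaxPiece S (V.map (MulAut.conj n).toMonoidHom) := by
  refine ⟨isPiece_conj hn h.1, fun X hX hle => ?_⟩
  have h2 := h.2 _ (isPiece_conj (inv_mem hn) hX) (by
    intro v hv
    refine ⟨n * v * n⁻¹, hle ⟨v, hv, rfl⟩, ?_⟩
    show n⁻¹ * (n * v * n⁻¹) * n⁻¹⁻¹ = v
    group)
  rw [← h2]
  ext x
  simp only [Subgroup.mem_map]
  constructor
  · intro hx
    exact ⟨n⁻¹ * x * n⁻¹⁻¹, ⟨x, hx, rfl⟩, by show n * (n⁻¹ * x * n⁻¹⁻¹) * n⁻¹ = x; group⟩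
  · rintro ⟨_, ⟨y, hy, rfl⟩, rfl⟩
    show n * (n⁻¹ * y * n⁻¹⁻¹) * n⁻¹ ∈ X
    rwa [show n * (n⁻¹ * y * n⁻¹⁻¹) * n⁻¹ = y by group]

variable (S : Sylow 2 G) (hab : ∀ x ∈ (S : Subgroup G), ∀ y ∈ (S : Subgroup G), x * y = y * x)
  (hel : ∀ s ∈ (S : Subgroup G), s ^ 2 = 1)

theorem fixSub_inf {W : Subgroup G} {g : G} (hc : Cycle (S : Subgroup G) W g) :
    fixSub (S : Subgroup G) g ⊓ W = ⊥ := by
  rw [eq_bot_iff]
  rintro x ⟨hxf, hxW⟩
  rw [mem_bot]
  by_contra hx1
  have hg : Commute g x := mul_inv_eq_iff_eq_mul.1 (mem_fixSub.1 hxf).2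
  have hsub : (W : Set G) ⊆ {1, x} := fun y hy => by
    by_cases hy1 : y = 1
    · exact Or.inl hy1
    · obtain ⟨i, hi⟩ := hc.trans x hxW hx1 y hy hy1
      rw [(hg.pow_left i).eq, mul_inv_cancel_right] at hi
      exact Or.inr hi.symm
  have h := Set.ncard_le_ncard hsub
  rw [← Nat.card_coe_set_eq, Set.ncard_pair (Ne.symm hx1)] at h
  have h4 := hc.four_le
  change Nat.card W ≤ 2 at h
  omega

include hab

theorem card_le_fix_mul {W : Subgroup G} {g : G} (hc : Cycle (S : Subgroup G) W g) :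
    Nat.card (S : Subgroup G) ≤ Nat.card (fixSub (S : Subgroup G) g) * Nat.card W := by
  have hcS : ∀ s : (S : Subgroup G), g * (s : G) * g⁻¹ ∈ (S : Subgroup G) := fun s =>
    (mem_normalizer_iff.1 hc.mem_normalizer s).1 s.2
  let f : ↥(S : Subgroup G) →* ↥W :=
    { toFun := fun s => ⟨g * s * g⁻¹ * (s : G)⁻¹, hc.move s s.2⟩
      map_one' := Subtype.ext (by simp)
      map_mul' := fun a b => Subtype.ext (by
        have hba : g * (b : G) * g⁻¹ * (b : G)⁻¹ * (a : G)⁻¹ = (a : G)⁻¹ * (g * b * g⁻¹ * (b : G)⁻¹) :=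
          hab _ (mul_mem (hcS b) (inv_mem b.2)) _ (inv_mem a.2)
        calc g * ((a : G) * b) * g⁻¹ * ((a : G) * b)⁻¹
            = g * a * g⁻¹ * (g * b * g⁻¹ * (b : G)⁻¹ * (a : G)⁻¹) := by group
          _ = g * a * g⁻¹ * (a : G)⁻¹ * (g * b * g⁻¹ * (b : G)⁻¹) := by rw [hba]; group) }
  have hker : Nat.card f.ker ≤ Nat.card (fixSub (S : Subgroup G) g) := by
    refine Nat.card_le_card_of_injective
      (fun s => ⟨((s : (S : Subgroup G)) : G), mem_fixSub.2 ⟨(s : (S : Subgroup G)).2,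
        mul_inv_eq_one.1 (congrArg Subtype.val s.2)⟩⟩) ?_
    intro a b h
    exact Subtype.ext (Subtype.ext (congrArg Subtype.val h :))
  rw [card_eq_card_quotient_mul_card_subgroup f.ker,
    Nat.card_congr (QuotientGroup.quotientKerEquivRange f).toEquiv, mul_comm]
  exact Nat.mul_le_mul hker (card_le_card_group _)

include hel

theorem fixSub_le {W : Subgroup G} {g h : G} (hcg : Cycle (S : Subgroup G) W g)
    (hch : Cycle (S : Subgroup G) W h) : fixSub (S : Subgroup G) g ≤ fixSub (S : Subgroup G) h := by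
  classical
  letI : CommGroup ↥(S : Subgroup G) :=
    { (inferInstance : Group ↥(S : Subgroup G)) with
      mul_comm := fun a b => Subtype.ext (hab a a.2 b b.2) }
  set φ := (S : Subgroup G).normalizerMonoidHom with hφ
  have hφapp : ∀ (n : ↥(normalizer ((S : Subgroup G) : Set G))) (s : ↥(S : Subgroup G)),
      ((φ n s : ↥(S : Subgroup G)) : G) = n * s * (n : G)⁻¹ := fun n s => rfl
  set A : Subgroup (MulAut ↥(S : Subgroup G)) :=
    closure {φ ⟨g, hcg.mem_normalizer⟩, φ ⟨h, hch.mem_normalizer⟩} with hA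
  have hAr : A ≤ φ.range := closure_le _ |>.2 (by rintro _ (rfl | rfl) <;> exact ⟨_, rfl⟩)
  have hodd : Odd (Nat.card A) := by
    refine Odd.of_dvd_nat ?_ (card_dvd_of_le hAr)
    have h1 : Nat.card φ.range ∣ ((S : Subgroup G).subgroupOf (normalizer ((S : Subgroup G) : Set G))).index := by
      rw [← index_ker]
      refine index_dvd_of_le ?_
      rw [hφ, normalizerMonoidHom_ker]
      exact comap_mono (fun a ha => mem_centralizer_iff.2 fun b hb => hab b hb a ha)
    have h2 : ((S : Subgroup G).subgroupOf (normalizer ((S : Subgroup G) : Set G))).index ∣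
        (S : Subgroup G).index :=
      (dvd_mul_right _ _).trans (relIndex_mul_index le_normalizer).dvd
    refine Odd.of_dvd_nat ?_ (h1.trans h2)
    rw [← Nat.not_even_iff_odd, even_iff_two_dvd]
    exact S.not_dvd_index
  have hmove : ∀ f ∈ A, ∀ s : ↥(S : Subgroup G), ((f s * s⁻¹ : ↥(S : Subgroup G)) : G) ∈ W := by
    intro f hf
    induction hf using closure_induction with
    | mem x hx =>
      intro s
      rcases hx with rfl | rfl
      · exact hcg.move s s.2
      · exact hch.move s s.2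
    | one => intro s; simpa using W.one_mem
    | mul a b _ _ iha ihb =>
      intro s
      have he : (a * b) s * s⁻¹ = (a (b s) * (b s)⁻¹) * (b s * s⁻¹) := by
        show a (b s) * s⁻¹ = _
        group
      rw [he]
      exact W.mul_mem (iha (b s)) (ihb s)
    | inv a _ iha =>
      intro s
      have he : a⁻¹ s * s⁻¹ = (a (a⁻¹ s) * (a⁻¹ s)⁻¹)⁻¹ := by
        rw [MulAut.apply_inv_self]; group
      rw [he]
      exact W.inv_mem (iha (a⁻¹ s))
  intro s hs
  obtain ⟨hsS, hsg⟩ := mem_fixSub.1 hs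
  haveI : Fintype A := Fintype.ofFinite A
  set x : ↥(S : Subgroup G) := ⟨s, hsS⟩
  set F : ↥(S : Subgroup G) := ∏ a : A, (a : MulAut ↥(S : Subgroup G)) x with hF
  have hfix : ∀ b ∈ A, b F = F := by
    intro b hb
    rw [hF, map_prod]
    exact Fintype.prod_equiv (Equiv.mulLeft (⟨b, hb⟩ : A)) _ _ fun a => rfl
  have hFx : ((F * x⁻¹ : ↥(S : Subgroup G)) : G) ∈ W := by
    have hx2 : x ^ Fintype.card A = x := by
      rw [← Nat.card_eq_fintype_card]
      obtain ⟨k, hk⟩ := hodd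
      have : x ^ 2 = 1 := Subtype.ext (hel s hsS)
      rw [hk, pow_succ, pow_mul, this, one_pow, one_mul]
    have hprod : F * x⁻¹ = ∏ a : A, ((a : MulAut ↥(S : Subgroup G)) x * x⁻¹) := by
      rw [Finset.prod_mul_distrib, Finset.prod_const, Finset.card_univ, inv_pow, hx2]
    have hmem : F * x⁻¹ ∈ W.subgroupOf (S : Subgroup G) := by
      rw [hprod]
      exact Subgroup.prod_mem _ fun a _ => hmove a a.2 x
    exact hmem
  have hgF : g * (F : G) * g⁻¹ = F :=
    congrArg Subtype.val (hfix _ (subset_closure (Set.mem_insert _ _)))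
  have hhF : h * (F : G) * h⁻¹ = F :=
    congrArg Subtype.val (hfix _ (subset_closure (Set.mem_insert_of_mem _ rfl)))
  have heq : (F : G) * s⁻¹ = 1 := by
    rw [← mem_bot, ← fixSub_inf S hcg]
    exact ⟨(fixSub (S : Subgroup G) g).mul_mem (mem_fixSub.2 ⟨F.2, hgF⟩)
      ((fixSub (S : Subgroup G) g).inv_mem hs), hFx⟩
  rw [mul_inv_eq_one] at heq
  exact mem_fixSub.2 ⟨hsS, by rw [← heq]; exact hhF⟩

variable (hsf : ∀ u ∈ (S : Subgroup G), u ≠ 1 → SplitFacts (img u (S : Subgroup G)))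

include hsf

theorem exists_piece_cycle {u : G} (hu : u ∈ (S : Subgroup G)) (hu1 : u ≠ 1) {L : Subgroup (CenBar u)}
    (hL : Cfsg.IsComponent L) :
    IsPiece (S : Subgroup G) (piece (S : Subgroup G) u L) ∧
      ∃ g ∈ cen u, Cycle (S : Subgroup G) (piece (S : Subgroup G) u L) g ∧
        fixSub (S : Subgroup G) g ≤ ((centralizer (L : Set (CenBar u))).comap (bar u)).map (cen u).subtype ∧
        ∀ s ∈ (S : Subgroup G), ∀ hs : s ∈ cen u,
          bar u ⟨s, hs⟩ ∈ centralizer (L : Set (CenBar u)) → s ∈ fixSub (S : Subgroup G) g := by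
  have hSC := sylow_le_cen S hab hu
  obtain ⟨P, hP, hPu, -, hSP, hPL, g, hgP, hc⟩ := exists_perfect_cycle S hab hu hu (hsf u hu hu1) hL
    (by
      rw [mem_centralizer_iff]
      intro l _
      obtain ⟨x, rfl⟩ := QuotientGroup.mk'_surjective _ l
      have he : x * ⟨u, hSC hu⟩ = ⟨u, hSC hu⟩ * x :=
        Subtype.ext (mem_centralizer_singleton_iff.1 x.2)
      show bar u x * bar u ⟨u, hSC hu⟩ = bar u ⟨u, hSC hu⟩ * bar u x
      rw [← map_mul, ← map_mul, he])
  have hgL : bar u ⟨g, hPu hgP⟩ ∈ L := hPL.le (mem_map_of_mem (bar u) hgP)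
  have hback : ∀ s ∈ (S : Subgroup G), ∀ hs : s ∈ cen u,
      bar u ⟨s, hs⟩ ∈ centralizer (L : Set (CenBar u)) → s ∈ fixSub (S : Subgroup G) g := by
    intro s hs hsC hcen
    refine mem_fixSub.2 ⟨hs, ?_⟩
    have hconj : g * s * g⁻¹ ∈ (S : Subgroup G) := (mem_normalizer_iff.1 hc.mem_normalizer s).1 hs
    refine congrArg Subtype.val (bar_injOn S
      (x := (⟨g, hPu hgP⟩ : ↥(cen u)) * ⟨s, hsC⟩ * (⟨g, hPu hgP⟩)⁻¹) (y := ⟨s, hsC⟩) hconj hs ?_)
    rw [map_mul, map_mul, map_inv, mem_centralizer_iff.1 hcen _ hgL, mul_inv_cancel_right]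
  refine ⟨⟨u, hu, hu1, P, hP, hPu, hSP, g, hgP, hc⟩, g, hPu hgP, hc, ?_, hback⟩
  intro s hs
  obtain ⟨hsS, -⟩ := mem_fixSub.1 hs
  have himel : ∀ t ∈ img u (S : Subgroup G), t ^ 2 = 1 := by
    rintro _ ⟨y, hy, rfl⟩
    rw [← map_pow, show y ^ 2 = 1 from Subtype.ext (by simpa using hel _ hy), map_one]
  obtain ⟨_, ⟨⟨t, htS, rfl⟩, htL⟩, hcen⟩ := (hsf u hu hu1).centralizes himel L hL
    (bar u ⟨s, hSC hsS⟩) (mem_map_of_mem _ (show (⟨s, hSC hsS⟩ : ↥(cen u)) ∈
      (S : Subgroup G).subgroupOf (cen u) from hsS))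
  rw [← map_mul] at hcen
  have hst : s * (t : G) ∈ fixSub (S : Subgroup G) g :=
    hback _ (mul_mem hsS htS) (mul_mem (hSC hsS) t.2) hcen
  have ht : (t : G) ∈ fixSub (S : Subgroup G) g := by
    have := mul_mem (inv_mem hs) hst
    rwa [inv_mul_cancel_left] at this
  have ht1 : (t : G) = 1 := by
    rw [← mem_bot, ← fixSub_inf S hc]
    exact ⟨ht, (mem_piece S).2 ⟨htS, t.2, htL⟩⟩
  have ht1' : t = 1 := Subtype.ext ht1
  rw [ht1', mul_one] at hcen
  exact ⟨⟨s, hSC hsS⟩, hcen, rfl⟩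

/-- `fix` of any cycle over the piece of a component is the part of `S` centralising the component. -/
theorem mem_fix_iff {u : G} (hu : u ∈ (S : Subgroup G)) (hu1 : u ≠ 1) {L : Subgroup (CenBar u)}
    (hL : Cfsg.IsComponent L) {h : G} (hc : Cycle (S : Subgroup G) (piece (S : Subgroup G) u L) h)
    {s : G} (hs : s ∈ (S : Subgroup G)) :
    s ∈ fixSub (S : Subgroup G) h ↔
      bar u ⟨s, sylow_le_cen S hab hu hs⟩ ∈ centralizer (L : Set (CenBar u)) := by
  obtain ⟨-, g, -, hcg, hfwd, hback⟩ := exists_piece_cycle S hab hel hsf hu hu1 hL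
  constructor
  · intro hsh
    obtain ⟨y, hy, hys⟩ := hfwd (fixSub_le S hab hel hc hcg hsh)
    rwa [show y = ⟨s, sylow_le_cen S hab hu hs⟩ from Subtype.ext hys] at hy
  · exact fun hcen => fixSub_le S hab hel hcg hc (hback s hs _ hcen)

theorem exists_component_ge {W P : Subgroup G} {g w : G} (hw : w ∈ (S : Subgroup G)) (hw1 : w ≠ 1)
    (hP : ⁅P, P⁆ = P) (hPw : P ≤ cen w) (hg : g ∈ P) (hc : Cycle (S : Subgroup G) W g) :
    ∃ L : Subgroup (CenBar w), Cfsg.IsComponent L ∧ W ≤ piece (S : Subgroup G) w L := by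
  obtain ⟨T, hT⟩ := exists_sylow_img S hab hw
  have hO : Cfsg.pPrimeCore 2 (CenBar w) = ⊥ := CfsgLib.PCore.pPrimeCore_quotient_pPrimeCore
  have hSC := sylow_le_cen S hab hw
  have helT : ∀ t ∈ (T : Subgroup (CenBar w)), t ^ 2 = 1 := by
    rw [hT]
    rintro _ ⟨y, hy, rfl⟩
    rw [← map_pow, show y ^ 2 = 1 from Subtype.ext (by simpa using hel _ hy), map_one]
  have hsfT : SplitFacts (T : Subgroup (CenBar w)) := by rw [hT]; exact hsf w hw hw1
  have hPp : ⁅img w P, img w P⁆ = img w P := by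
    rw [img, ← map_commutator]
    congr 1
    apply map_injective (subtype_injective (cen w))
    rw [map_commutator, subgroupOf_map_subtype, inf_eq_left.2 hPw, hP]
  have hglay : bar w ⟨g, hPw hg⟩ ∈ Cfsg.layer (CenBar w) :=
    perfect_le_layer hO helT hsfT hPp (mem_map_of_mem (bar w) hg)
  have hWC : W ≤ cen w := hc.le.trans hSC
  have hgN : bar w ⟨g, hPw hg⟩ ∈ normalizer (img w (S : Subgroup G) : Set (CenBar w)) := by
    refine le_normalizer_map (bar w) (mem_map_of_mem (bar w) ?_)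
    rw [mem_normalizer_iff]
    intro y
    exact mem_normalizer_iff.1 hc.mem_normalizer (y : G)
  have hcb : Cycle (T : Subgroup (CenBar w)) (img w W) (bar w ⟨g, hPw hg⟩) := by
    rw [hT]
    refine ⟨hgN, Subgroup.map_mono (comap_mono hc.le), ?_, ?_, ?_⟩
    · refine hc.four_le.trans (Nat.card_le_card_of_injective
        (fun x : W => (⟨bar w ⟨x, hWC x.2⟩, mem_map_of_mem (bar w)
          (show (⟨x, hWC x.2⟩ : ↥(cen w)) ∈ W.subgroupOf (cen w) from x.2)⟩ : img w W)) ?_)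
      intro a b hab'
      exact Subtype.ext (congrArg (Subtype.val : ↥(cen w) → G)
        (bar_injOn S (hc.le a.2) (hc.le b.2) (congrArg Subtype.val hab')))
    · rintro _ ⟨y, hy, rfl⟩
      exact ⟨⟨g, hPw hg⟩ * y * ⟨g, hPw hg⟩⁻¹ * y⁻¹, hc.move _ hy, by simp only [map_mul, map_inv]⟩
    · rintro _ ⟨x, hx, rfl⟩ hx1 _ ⟨y, hy, rfl⟩ hy1
      have hx' : (x : G) ≠ 1 := fun h => hx1 (by rw [show x = 1 from Subtype.ext h, map_one])
      have hy' : (y : G) ≠ 1 := fun h => hy1 (by rw [show y = 1 from Subtype.ext h, map_one])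
      obtain ⟨i, hi⟩ := hc.trans x hx hx' y hy hy'
      refine ⟨i, ?_⟩
      rw [← map_pow, ← map_inv, ← map_mul, ← map_mul]
      exact congrArg _ (Subtype.ext (by simpa using hi))
  obtain ⟨L, hL, hWL⟩ := exists_component_of_cycle hO helT hsfT hglay hcb
  exact ⟨L, hL, fun x hx => (mem_piece S).2 ⟨hc.le hx, hWC hx,
    hWL (mem_map_of_mem (bar w) (show (⟨x, hWC hx⟩ : ↥(cen w)) ∈ W.subgroupOf (cen w) from hx))⟩⟩

theorem maxPiece_eq_piece {V : Subgroup G} (hV : IsMaxPiece (S : Subgroup G) V) :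
    ∃ u ∈ (S : Subgroup G), u ≠ 1 ∧ ∃ L : Subgroup (CenBar u), Cfsg.IsComponent L ∧
      piece (S : Subgroup G) u L = V := by
  obtain ⟨u, hu, hu1, P, hP, hPu, -, g, hg, hc⟩ := hV.1
  obtain ⟨L, hL, hle⟩ := exists_component_ge S hab hel hsf hu hu1 hP hPu hg hc
  exact ⟨u, hu, hu1, L, hL, hV.2 _ (exists_piece_cycle S hab hel hsf hu hu1 hL).1 hle⟩

/-- A maximal piece is the piece of a component of the centralizer of every involution fixed by its cycle. -/
theorem exists_component_eq {V : Subgroup G} (hV : IsMaxPiece (S : Subgroup G) V) {h : G}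
    (hc : Cycle (S : Subgroup G) V h) {w : G} (hw : w ∈ fixSub (S : Subgroup G) h) (hw1 : w ≠ 1) :
    ∃ L : Subgroup (CenBar w), Cfsg.IsComponent L ∧ piece (S : Subgroup G) w L = V := by
  obtain ⟨hwS, -⟩ := mem_fixSub.1 hw
  obtain ⟨u, hu, hu1, L, hL, rfl⟩ := maxPiece_eq_piece S hab hel hsf hV
  obtain ⟨P, hP, -, hPw, -, -, g, hg, hcg⟩ := exists_perfect_cycle S hab hu hwS (hsf u hu hu1) hL
    ((mem_fix_iff S hab hel hsf hu hu1 hL hc hwS).1 hw)
  obtain ⟨L', hL', hle⟩ := exists_component_ge S hab hel hsf hwS hw1 hP hPw hg hcg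
  exact ⟨L', hL', hV.2 _ (exists_piece_cycle S hab hel hsf hwS hw1 hL').1 hle⟩

variable (hcard : ∀ W : Subgroup G, ∀ g : G, Cycle (S : Subgroup G) W g →
  (∃ s ∈ (S : Subgroup G), s ≠ 1 ∧ g * s * g⁻¹ = s) → Nat.card W ^ 2 < Nat.card (S : Subgroup G))

include hcard

theorem maxPiece_card_lt {V : Subgroup G} (hV : IsMaxPiece (S : Subgroup G) V) :
    Nat.card V ^ 2 < Nat.card (S : Subgroup G) := by
  obtain ⟨u, hu, hu1, P, -, hPu, -, g, hg, hc⟩ := hV.1
  exact hcard V g hc ⟨u, hu, hu1, by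
    rw [mem_centralizer_singleton_iff.1 (hPu hg), mul_inv_cancel_right]⟩

/-- Two different maximal pieces fix each other. -/
theorem maxPiece_le_fixSub {V V' : Subgroup G} (hV : IsMaxPiece (S : Subgroup G) V)
    (hV' : IsMaxPiece (S : Subgroup G) V') (hne : V' ≠ V) {g : G} (hc : Cycle (S : Subgroup G) V g) :
    V' ≤ fixSub (S : Subgroup G) g := by
  obtain ⟨-, -, -, P', -, -, -, g', -, hc'⟩ := hV'.1
  obtain ⟨w, hw, hw', hw1⟩ : ∃ w ∈ fixSub (S : Subgroup G) g, w ∈ fixSub (S : Subgroup G) g' ∧ w ≠ 1 := by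
    by_contra hno
    push Not at hno
    have hinj : Nat.card (fixSub (S : Subgroup G) g × fixSub (S : Subgroup G) g') ≤
        Nat.card (S : Subgroup G) := by
      refine Nat.card_le_card_of_injective (fun p => ⟨(p.1 : G) * p.2, mul_mem p.1.2.1 p.2.2.1⟩) ?_
      rintro ⟨a, b⟩ ⟨a', b'⟩ h
      have h' : (a : G) * b = a' * b' := congrArg Subtype.val h
      have he : (a' : G)⁻¹ * a = b' * (b : G)⁻¹ := by
        rw [eq_mul_inv_iff_mul_eq, mul_assoc, h', inv_mul_cancel_left]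
      have h1 := hno _ (mul_mem (inv_mem a'.2) a.2) (he ▸ mul_mem b'.2 (inv_mem b.2))
      have ha : (a : G) = a' := (inv_mul_eq_one.1 h1).symm
      have hb : (b : G) = b' := by rwa [ha, mul_right_inj] at h'
      exact Prod.ext (Subtype.ext ha) (Subtype.ext hb)
    rw [Nat.card_prod] at hinj
    have h1 := card_le_fix_mul S hab hc
    have h2 := card_le_fix_mul S hab hc'
    have h3 := maxPiece_card_lt S hab hel hsf hcard hV
    have h4 := maxPiece_card_lt S hab hel hsf hcard hV'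
    set n := Nat.card (S : Subgroup G)
    set a := Nat.card (fixSub (S : Subgroup G) g)
    set b := Nat.card (fixSub (S : Subgroup G) g')
    set v := Nat.card V
    set v' := Nat.card V'
    have h5 : n * n ≤ n * (v * v') := by
      calc n * n ≤ (a * v) * (b * v') := Nat.mul_le_mul h1 h2
        _ = (a * b) * (v * v') := by ring
        _ ≤ n * (v * v') := Nat.mul_le_mul_right _ hinj
    have h6 : n ≤ v * v' := Nat.le_of_mul_le_mul_left h5 Nat.card_pos
    nlinarith [Nat.mul_le_mul h6 h6]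
  obtain ⟨L, hL, hLV⟩ := exists_component_eq S hab hel hsf hV hc hw hw1
  obtain ⟨L', hL', hLV'⟩ := exists_component_eq S hab hel hsf hV' hc' hw' hw1
  have hneL : L' ≠ L := fun h => hne (hLV'.symm.trans (h ▸ hLV))
  subst hLV
  intro v hv
  rw [← hLV'] at hv
  obtain ⟨hvS, hvC, hvL⟩ := (mem_piece S).1 hv
  refine (mem_fix_iff S hab hel hsf (mem_fixSub.1 hw).1 hw1 hL hc hvS).2 ?_
  exact CfsgLib.Components.le_centralizer_of_commutator_eq_bot
    (CfsgLib.Components.commutator_components_eq_bot hL' hL hneL) hvL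

/-- The maximal pieces are blocks. -/
theorem exists_blocks
    (hirr : ∀ V : Subgroup G, V ≤ (S : Subgroup G) →
      normalizer ((S : Subgroup G) : Set G) ≤ normalizer (V : Set G) → V = ⊥ ∨ V = (S : Subgroup G))
    (hex : ∃ u ∈ (S : Subgroup G), u ≠ 1 ∧ ∃ L : Subgroup (CenBar u), Cfsg.IsComponent L) :
    Nonempty (Blocks (S : Subgroup G)) := by
  classical
  let ι := {V : Subgroup G // IsMaxPiece (S : Subgroup G) V}
  have hmax : ∀ i : ι, ∃ g, Cycle (S : Subgroup G) (i : Subgroup G) g := fun i => by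
    obtain ⟨-, -, -, P, -, -, -, g, -, hc⟩ := i.2.1
    exact ⟨g, hc⟩
  choose cyc hcyc using hmax
  have hle : ∀ i : ι, (i : Subgroup G) ≤ (S : Subgroup G) := fun i => (hcyc i).le
  have hfix : ∀ i : ι, (⨆ j : {j : ι // j ≠ i}, ((j : ι) : Subgroup G)) ≤
      fixSub (S : Subgroup G) (cyc i) := fun i =>
    iSup_le fun j => maxPiece_le_fixSub S hab hel hsf hcard i.2 j.1.2
      (fun h => j.2 (Subtype.ext h)) (hcyc i)
  have hindep : ∀ i : ι, (i : Subgroup G) ⊓ (⨆ j : {j : ι // j ≠ i}, ((j : ι) : Subgroup G)) = ⊥ :=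
    fun i => eq_bot_iff.2 <| (inf_le_inf_left _ (hfix i)).trans
      (by rw [inf_comm, fixSub_inf S (hcyc i)])
  obtain ⟨u₀, hu₀, hu₀1, L₀, hL₀⟩ := hex
  obtain ⟨V₀, hV₀, -⟩ := exists_maxPiece_ge (exists_piece_cycle S hab hel hsf hu₀ hu₀1 hL₀).1
  have hperm : ∀ n ∈ normalizer ((S : Subgroup G) : Set G), ∀ i : ι, ∃ j : ι,
      (i : Subgroup G).map (MulAut.conj n).toMonoidHom = (j : Subgroup G) :=
    fun n hn i => ⟨⟨_, isMaxPiece_conj hn i.2⟩, rfl⟩
  have hsup : (⨆ i : ι, (i : Subgroup G)) = (S : Subgroup G) := by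
    refine (hirr _ (iSup_le hle) ?_).resolve_left ?_
    · have hmap : ∀ m ∈ normalizer ((S : Subgroup G) : Set G), (⨆ i : ι, (i : Subgroup G)).map
          (MulAut.conj m).toMonoidHom ≤ ⨆ i : ι, (i : Subgroup G) := by
        intro m hm
        rw [Subgroup.map_iSup]
        refine iSup_le fun i => ?_
        obtain ⟨j, hj⟩ := hperm m hm i
        rw [hj]
        exact le_iSup (fun i : ι => (i : Subgroup G)) j
      intro n hn
      rw [mem_normalizer_iff]
      refine fun x => ⟨fun hx => hmap n hn ⟨x, hx, rfl⟩, fun hx => ?_⟩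
      have h := hmap n⁻¹ (inv_mem hn) ⟨_, hx, rfl⟩
      have he : n⁻¹ * (n * x * n⁻¹) * n⁻¹⁻¹ = x := by group
      rwa [show (MulAut.conj n⁻¹).toMonoidHom (n * x * n⁻¹) = x from he] at h
    · intro h
      have h4 := (hcyc ⟨V₀, hV₀⟩).four_le
      have hb := (le_iSup (fun i : ι => (i : Subgroup G)) ⟨V₀, hV₀⟩).trans h.le
      rw [le_bot_iff.1 hb, Subgroup.card_bot] at h4
      omega
  refine ⟨⟨ι, inferInstance, fun i => (i : Subgroup G), ?_, fun i => (hcyc i).four_le, hsup, hindep,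
    hperm, ?_, fun i u hu hu1 => exists_component_eq S hab hel hsf i.2 (hcyc i) (hfix i hu) hu1⟩⟩
  · -- three blocks
    by_contra hlt
    push Not at hlt
    haveI : Nonempty ι := ⟨⟨V₀, hV₀⟩⟩
    haveI : Fintype ι := Fintype.ofFinite ι
    obtain ⟨i, j, hij⟩ : ∃ i j : ι, ∀ k, k = i ∨ k = j := by
      by_cases h : ∀ i j : ι, i = j
      · obtain ⟨i⟩ := ‹Nonempty ι›
        exact ⟨i, i, fun k => Or.inl (h k i)⟩
      · push Not at h
        obtain ⟨i, j, hne⟩ := h
        refine ⟨i, j, fun k => ?_⟩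
        by_contra hk
        push Not at hk
        have h3 : ({i, j, k} : Finset ι).card ≤ Nat.card ι := by
          rw [Nat.card_eq_fintype_card]; exact Finset.card_le_univ _
        rw [Finset.card_insert_of_notMem (by simp [hne, Ne.symm hk.1]),
          Finset.card_pair (Ne.symm hk.2)] at h3
        omega
    have hnorm : (i : Subgroup G) ≤ normalizer ((j : Subgroup G) : Set G) := fun a ha =>
      centralizer_le_normalizer _ (mem_centralizer_iff.2 fun b hb => hab b (hle j hb) a (hle i ha))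
    have hS : (S : Subgroup G) ≤ (i : Subgroup G) ⊔ (j : Subgroup G) := by
      refine hsup.ge.trans (iSup_le fun k => ?_)
      rcases hij k with rfl | rfl
      · exact le_sup_left
      · exact le_sup_right
    have hc : Nat.card (S : Subgroup G) ≤ Nat.card (i : Subgroup G) * Nat.card (j : Subgroup G) := by
      refine (Nat.le_of_dvd Nat.card_pos (card_dvd_of_le hS)).trans ?_
      rw [← Nat.card_prod]
      refine Nat.card_le_card_of_surjective
        (fun p : ↥(i : Subgroup G) × ↥(j : Subgroup G) =>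
          (⟨(p.1 : G) * p.2, mul_mem (mem_sup_left p.1.2) (mem_sup_right p.2.2)⟩ :
            ↥((i : Subgroup G) ⊔ (j : Subgroup G)))) ?_
      rintro ⟨x, hx⟩
      rw [← SetLike.mem_coe, coe_mul_of_left_le_normalizer_right _ _ hnorm] at hx
      obtain ⟨a, ha, b, hb, rfl⟩ := hx
      exact ⟨(⟨a, ha⟩, ⟨b, hb⟩), rfl⟩
    have h1 := maxPiece_card_lt S hab hel hsf hcard i.2
    have h2 := maxPiece_card_lt S hab hel hsf hcard j.2
    nlinarith [Nat.mul_le_mul hc hc]
  · -- components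
    intro u hu hu1 L hL
    obtain ⟨hpc, g, hgu, hcg, hfwd, -⟩ := exists_piece_cycle S hab hel hsf hu hu1 hL
    obtain ⟨V, hV, hleV⟩ := exists_maxPiece_ge hpc
    refine ⟨⟨V, hV⟩, hleV, fun j hj => ?_⟩
    rintro _ ⟨v, hv, rfl⟩
    have hvS : (v : G) ∈ (S : Subgroup G) := hle j hv
    by_cases hv1 : (v : G) = 1
    · rw [show v = 1 from Subtype.ext hv1, map_one]; exact one_mem _
    have hfx : (v : G) ∈ fixSub (S : Subgroup G) g := by
      refine mem_fixSub.2 ⟨hvS, ?_⟩
      obtain ⟨k, hk⟩ := hperm g hcg.mem_normalizer j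
      have hgv : g * (v : G) * g⁻¹ ∈ (k : Subgroup G) := hk.le ⟨v, hv, rfl⟩
      have hmv : g * (v : G) * g⁻¹ * (v : G)⁻¹ ∈ V := hleV (hcg.move v hvS)
      by_cases hki : k = (⟨V, hV⟩ : ι)
      · exfalso
        subst hki
        have : (v : G) ∈ V := by
          have h := mul_mem (inv_mem hmv) hgv
          simpa [mul_assoc] using h
        have hb : (v : G) ∈ (⊥ : Subgroup G) := (hindep j).le
          ⟨hv, le_iSup (fun j' : {j' : ι // j' ≠ j} => ((j' : ι) : Subgroup G))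
            ⟨⟨V, hV⟩, Ne.symm hj⟩ this⟩
        exact hv1 (mem_bot.1 hb)
      · have hb : g * (v : G) * g⁻¹ * (v : G)⁻¹ ∈ (⊥ : Subgroup G) := (hindep ⟨V, hV⟩).le ⟨hmv,
          Subgroup.mul_mem _ (le_iSup (fun j' : {j' : ι // j' ≠ (⟨V, hV⟩ : ι)} => ((j' : ι) : Subgroup G))
            ⟨k, hki⟩ hgv)
            (Subgroup.inv_mem _ (le_iSup (fun j' : {j' : ι // j' ≠ (⟨V, hV⟩ : ι)} => ((j' : ι) : Subgroup G))
              ⟨j, hj⟩ hv))⟩
        exact mul_inv_eq_one.1 (mem_bot.1 hb)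
    obtain ⟨y, hy, hyv⟩ := hfwd hfx
    rwa [show y = v from Subtype.ext hyv] at hy

end CfsgLib.Walter.RankFour
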