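import Cfsg.Agent.Lib.Walter.RankFour.Interface
import Cfsg.Agent.Lib.Components.Basic
import Cfsg.Agent.Lib.LocalEven.SubnormalJoin
import Cfsg.Agent.Lib.Involutions.BrauerSuzuki
import Cfsg.Agent.Lib.PCore.Basic

/-!
# Walter's theorem, rank at least four: the components of a group with abelian Sylow 2-subgroup

In a group `H` with trivial core and abelian Sylow 2-subgroup `S` whose components are good, `S` normalises
every component `L`, `Z(L) = 1`, some element of `L` normalises `S` and permutes the involutions of `S ∩ L`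
transitively, and for elementary `S` we have `S ≤ (S ∩ L) C(L)`.
-/

set_option autoImplicit false

namespace CfsgLib.Walter.RankFour

open Subgroup Cfsg
open scoped Pointwise

universe u

variable {H : Type u} [Group H] [Finite H]

private theorem splitFacts_prime : Fact (Nat.Prime 2) := ⟨Nat.prime_two⟩

attribute [local instance] splitFacts_prime

private theorem odd_index (S : Sylow 2 H) : Odd (S : Subgroup H).index :=
  Nat.not_even_iff_odd.mp fun h => S.not_dvd_index (even_iff_two_dvd.mp h)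

private theorem eq_bot_of_odd_subnormal (hO : pPrimeCore 2 H = ⊥) {K : Subgroup H}
    (hK : K.IsSubnormal) (hc : (Nat.card K).Coprime 2) : K = ⊥ :=
  le_bot_iff.mp ((CfsgLib.PCore.le_pPrimeCore_of_isSubnormal hK hc).trans hO.le)

/-- A component has trivial center. -/
private theorem split_center (hO : pPrimeCore 2 H = ⊥) (S : Sylow 2 H)
    (hab : ∀ x ∈ S, ∀ y ∈ S, x * y = y * x) {L : Subgroup H} (hL : Cfsg.IsComponent L) :
    L ⊓ centralizer (L : Set H) = ⊥ := by
  obtain ⟨P, hP⟩ := CfsgLib.SubJoin.exists_sylow_subnormal S hL.1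
  have hPc : ∀ a b : (P : Subgroup ↥L), a * b = b * a := by
    intro a b
    have ha := hP.le a.2
    have hb := hP.le b.2
    exact Subtype.ext (Subtype.ext (hab _ (mem_subgroupOf.mp ha) _ (mem_subgroupOf.mp hb)))
  letI : CommGroup (P : Subgroup ↥L) :=
    { (inferInstance : Group (P : Subgroup ↥L)) with mul_comm := hPc }
  let f : ↥L →* (P : Subgroup ↥L) := MonoidHom.transfer (MonoidHom.id (P : Subgroup ↥L))
  have hf : ∀ g, f g = 1 := fun g => by
    have hperf : commutator ↥L = ⊤ := hL.2.1.commutator_eq_top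
    exact (Abelianization.commutator_subset_ker f) (hperf ▸ mem_top g)
  have hodd : ∀ y ∈ center ↥L, Odd (orderOf y) := by
    intro y hy
    have hcomm : ∀ (k : ℕ) (g₀ : ↥L), g₀⁻¹ * y ^ k * g₀ ∈ (P : Subgroup ↥L) →
        g₀⁻¹ * y ^ k * g₀ = y ^ k := fun k g₀ _ => by
      rw [mul_assoc, ← mem_center_iff.1 (pow_mem hy k) g₀, ← mul_assoc, inv_mul_cancel, one_mul]
    have h := MonoidHom.transfer_eq_pow (MonoidHom.id (P : Subgroup ↥L)) y hcomm
    rw [show MonoidHom.transfer (MonoidHom.id (P : Subgroup ↥L)) y = 1 from hf y] at h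
    have h2 : y ^ (P : Subgroup ↥L).index = 1 := (congrArg Subtype.val h).symm
    exact Odd.of_dvd_nat (odd_index P) (orderOf_dvd_of_pow_eq_one h2)
  have hc : (Nat.card ↥((center ↥L).map L.subtype)).Coprime 2 := by
    rw [card_map_of_injective L.subtype_injective, Nat.coprime_comm]
    refine Nat.prime_two.coprime_iff_not_dvd.mpr fun hd => ?_
    obtain ⟨⟨y, hy⟩, hy2⟩ := exists_prime_orderOf_dvd_card' 2 hd
    have h := hodd y hy
    rw [← orderOf_mk y hy] at h
    rw [hy2] at h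
    exact absurd h (by decide)
  have hbot := eq_bot_of_odd_subnormal hO
    (IsSubnormal.trans' (inferInstance : (center ↥L).Normal).isSubnormal hL.1) hc
  refine eq_bot_iff.mpr fun z hz => hbot ▸ ?_
  obtain ⟨hzL, hzC⟩ := mem_inf.mp hz
  refine mem_map.mpr ⟨⟨z, hzL⟩, mem_center_iff.mpr fun g => ?_, rfl⟩
  exact Subtype.ext (mem_centralizer_iff.mp hzC g.1 g.2)

private theorem card_sylow_inf (S : Sylow 2 H) {L : Subgroup H} {P : Sylow 2 ↥L}
    (hP : (P : Subgroup ↥L) = (S : Subgroup H).subgroupOf L) :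
    Nat.card ↥((S : Subgroup H) ⊓ L) = Nat.card ↥(P : Subgroup ↥L) := by
  rw [← card_map_of_injective (K := (P : Subgroup ↥L)) L.subtype_injective, hP,
    subgroupOf_map_subtype]

private theorem four_le_inf (S : Sylow 2 H) (hgood : GoodComps H) {L : Subgroup H}
    (hL : Cfsg.IsComponent L) : 4 ≤ Nat.card ↥((S : Subgroup H) ⊓ L) := by
  obtain ⟨P, hP⟩ := CfsgLib.SubJoin.exists_sylow_subnormal S hL.1
  exact (card_sylow_inf S hP).symm ▸ ((hgood L hL).exists_cycle P).1

/-- A Sylow 2-subgroup normalises every component. -/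
private theorem split_le_normalizer (hO : pPrimeCore 2 H = ⊥) (S : Sylow 2 H)
    (hab : ∀ x ∈ S, ∀ y ∈ S, x * y = y * x) (hgood : GoodComps H) {L : Subgroup H}
    (hL : Cfsg.IsComponent L) : (S : Subgroup H) ≤ normalizer (L : Set H) := by
  intro s hs
  have hne : (S : Subgroup H) ⊓ L ≠ ⊥ := fun h => by
    have := four_le_inf S hgood hL
    rw [h, card_bot] at this
    omega
  have heq : L.map (MulAut.conj s).toMonoidHom = L := by
    by_contra hd
    have hcomm := CfsgLib.Components.commutator_components_eq_bot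
      (CfsgLib.Components.isComponent_conj s hL) hL hd
    refine hne (eq_bot_iff.mpr fun x hx => ?_)
    obtain ⟨hxS, hxL⟩ := mem_inf.mp hx
    rw [← split_center hO S hab hL]
    refine mem_inf.mpr ⟨hxL, commutator_eq_bot_iff_le_centralizer.mp hcomm ?_⟩
    refine mem_map.mpr ⟨x, hxL, ?_⟩
    change s * x * s⁻¹ = x
    rw [hab s hs x hxS, mul_inv_cancel_right]
  rw [mem_normalizer_iff_map_conj_eq]
  exact heq

private theorem sup_decomp (hO : pPrimeCore 2 H = ⊥) (S : Sylow 2 H)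
    (hab : ∀ x ∈ S, ∀ y ∈ S, x * y = y * x) (hgood : GoodComps H) {L : Subgroup H}
    (hL : Cfsg.IsComponent L) {m : H} (hm : m ∈ L ⊔ (S : Subgroup H)) :
    ∃ l ∈ L, ∃ s ∈ S, l * s = m := by
  have h : (↑(L ⊔ (S : Subgroup H)) : Set H) = (L : Set H) * ((S : Subgroup H) : Set H) :=
    coe_mul_of_right_le_normalizer_left L (S : Subgroup H)
      (split_le_normalizer hO S hab hgood hL)
  rw [← SetLike.mem_coe, h] at hm
  obtain ⟨l, hl, s, hs, he⟩ := Set.mem_mul.mp hm
  exact ⟨l, hl, s, hs, he⟩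

private theorem comm_mem (hO : pPrimeCore 2 H = ⊥) (S : Sylow 2 H)
    (hab : ∀ x ∈ S, ∀ y ∈ S, x * y = y * x) (hgood : GoodComps H) {L : Subgroup H}
    (hL : Cfsg.IsComponent L) {g : H} (hg : g ∈ L) {s : H} (hs : s ∈ S) :
    g * s * g⁻¹ * s⁻¹ ∈ L := by
  have hn := (mem_normalizer_iff.mp (split_le_normalizer hO S hab hgood hL hs) g⁻¹).mp (inv_mem hg)
  simpa only [mul_assoc] using mul_mem hg hn

private theorem mem_normalizer_of_conj_mem {K : Subgroup H} {n : H}
    (h : ∀ y ∈ K, n * y * n⁻¹ ∈ K) : n ∈ normalizer (K : Set H) := by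
  rw [mem_normalizer_iff_map_conj_eq]
  refine Subgroup.eq_of_le_of_card_ge ?_ ?_
  · rintro _ ⟨y, hy, rfl⟩
    exact h y hy
  · rw [card_map_of_injective (MulAut.conj n).injective]

/-- Some element of a component normalises `S` and cycles the involutions of `S ∩ L`. -/
private theorem split_cycle (hO : pPrimeCore 2 H = ⊥) (S : Sylow 2 H)
    (hab : ∀ x ∈ S, ∀ y ∈ S, x * y = y * x) (hgood : GoodComps H) {L : Subgroup H}
    (hL : Cfsg.IsComponent L) :
    ∃ g ∈ L, Cycle (S : Subgroup H) ((S : Subgroup H) ⊓ L) g := by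
  obtain ⟨P, hP⟩ := CfsgLib.SubJoin.exists_sylow_subnormal S hL.1
  obtain ⟨-, g₀, hg₀, htrans⟩ := (hgood L hL).exists_cycle P
  set T : Subgroup H := (S : Subgroup H) ⊓ L with hT
  have hmemP : ∀ x : ↥L, x ∈ (P : Subgroup ↥L) ↔ (x : H) ∈ T := fun x => by
    rw [hP, mem_subgroupOf]
    exact ⟨fun h => mem_inf.mpr ⟨h, x.2⟩, fun h => (mem_inf.mp h).1⟩
  have hgT : ∀ t : H, t ∈ T → (g₀ : H) * t * (g₀ : H)⁻¹ ∈ T := fun t ht =>
    (hmemP (g₀ * ⟨t, (mem_inf.mp ht).2⟩ * g₀⁻¹)).mp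
      ((mem_normalizer_iff.mp hg₀ ⟨t, (mem_inf.mp ht).2⟩).mp
        ((hmemP ⟨t, (mem_inf.mp ht).2⟩).mpr ht))
  have hgTinv : ∀ t : H, t ∈ T → (g₀ : H)⁻¹ * t * (g₀ : H) ∈ T := fun t ht =>
    (hmemP (g₀⁻¹ * ⟨t, (mem_inf.mp ht).2⟩ * g₀)).mp
      ((mem_normalizer_iff''.mp hg₀ ⟨t, (mem_inf.mp ht).2⟩).mp
        ((hmemP ⟨t, (mem_inf.mp ht).2⟩).mpr ht))
  set M : Subgroup H := centralizer (T : Set H) ⊓ (L ⊔ (S : Subgroup H)) with hM
  have h₁ : (S : Subgroup H) ≤ M := fun x hx => mem_inf.mpr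
    ⟨mem_centralizer_iff.mpr fun t ht => hab t (mem_inf.mp ht).1 x hx, le_sup_right (a := L) hx⟩
  have hmem2 : ∀ x : H, x ∈ ((g₀ : H) • S : Sylow 2 H) ↔ (g₀ : H)⁻¹ * x * (g₀ : H) ∈ S := fun x => by
    show x ∈ (((g₀ : H) • S : Sylow 2 H) : Subgroup H) ↔ _
    rw [Sylow.coe_subgroup_smul, Subgroup.mem_pointwise_smul_iff_inv_smul_mem]
    simp [MulAut.smul_def]
    rfl
  have h₂ : (((g₀ : H) • S : Sylow 2 H) : Subgroup H) ≤ M := fun x hx => by
    have hy := (hmem2 x).mp hx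
    have hxe : x = (g₀ : H) * ((g₀ : H)⁻¹ * x * (g₀ : H)) * (g₀ : H)⁻¹ := by group
    refine mem_inf.mpr ⟨mem_centralizer_iff.mpr fun t ht => ?_, ?_⟩
    · have hc := hab _ (mem_inf.mp (hgTinv t ht)).1 _ hy
      have := congrArg (fun z => (g₀ : H) * z * (g₀ : H)⁻¹) hc
      simpa [mul_assoc] using this
    · rw [hxe]
      exact mul_mem (mul_mem (le_sup_left (b := (S : Subgroup H)) g₀.2)
        (le_sup_right (a := L) hy)) (inv_mem (le_sup_left (b := (S : Subgroup H)) g₀.2))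
  obtain ⟨c, hc⟩ := MulAction.exists_smul_eq ↥M (S.subtype h₁) (((g₀ : H) • S).subtype h₂)
  have hc' : ∀ x ∈ S, (g₀ : H)⁻¹ * ((c : H) * x * (c : H)⁻¹) * (g₀ : H) ∈ S := by
    intro x hx
    have h : (⟨(c : H) * x * (c : H)⁻¹, mul_mem (mul_mem c.2 (h₁ hx)) (inv_mem c.2)⟩ : ↥M) ∈
        ((c • S.subtype h₁ : Sylow 2 ↥M) : Subgroup ↥M) := by
      rw [Sylow.coe_subgroup_smul, Subgroup.mem_pointwise_smul_iff_inv_smul_mem]
      simp [MulAut.smul_def, mem_subgroupOf, mul_assoc]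
      exact hx
    rw [hc] at h
    exact (hmem2 _).mp h
  obtain ⟨hcC, hcLS⟩ := mem_inf.mp c.2
  obtain ⟨l, hl, s, hs, hls⟩ := sup_decomp hO S hab hgood hL hcLS
  have hlC : l ∈ centralizer (T : Set H) := by
    have : l = (c : H) * s⁻¹ := by rw [← hls, mul_inv_cancel_right]
    rw [this]
    exact mul_mem hcC (inv_mem (mem_inf.mp (h₁ hs)).1)
  have hlS : ∀ x ∈ S, (g₀ : H)⁻¹ * (l * x * l⁻¹) * (g₀ : H) ∈ S := by
    intro x hx
    have : l * x * l⁻¹ = (c : H) * x * (c : H)⁻¹ := by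
      rw [← hls, mul_inv_rev, mul_assoc l s x, hab s hs x hx]
      group
    rw [this]
    exact hc' x hx
  set g : H := l⁻¹ * (g₀ : H) with hg
  have hgL : g ∈ L := mul_mem (inv_mem hl) g₀.2
  have hgN : g ∈ normalizer ((S : Subgroup H) : Set H) := by
    have h : g⁻¹ ∈ normalizer ((S : Subgroup H) : Set H) := mem_normalizer_of_conj_mem fun x hx => by
      have : (g₀ : H)⁻¹ * (l * x * l⁻¹) * (g₀ : H) ∈ (S : Subgroup H) := hlS x hx
      simpa [hg, mul_assoc] using this
    simpa using inv_mem h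
  have hact : ∀ t ∈ T, g * t * g⁻¹ = (g₀ : H) * t * (g₀ : H)⁻¹ := fun t ht => by
    have h := mem_centralizer_iff.mp hlC _ (hgT t ht)
    calc g * t * g⁻¹ = l⁻¹ * (((g₀ : H) * t * (g₀ : H)⁻¹) * l) := by
          simp [hg, mul_assoc]
      _ = (g₀ : H) * t * (g₀ : H)⁻¹ := by rw [h, inv_mul_cancel_left]
  have hpow : ∀ i : ℕ, ∀ t ∈ T, g ^ i * t * (g ^ i)⁻¹ = (g₀ : H) ^ i * t * ((g₀ : H) ^ i)⁻¹ := by
    intro i
    induction i with
    | zero => simp
    | succ i ih =>
      intro t ht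
      have h := ih _ (hgT t ht)
      calc g ^ (i + 1) * t * (g ^ (i + 1))⁻¹ = g ^ i * (g * t * g⁻¹) * (g ^ i)⁻¹ := by
            simp [pow_succ, mul_assoc]
        _ = (g₀ : H) ^ (i + 1) * t * ((g₀ : H) ^ (i + 1))⁻¹ := by
            rw [hact t ht, h]
            simp [pow_succ, mul_assoc]
  refine ⟨g, hgL, hgN, inf_le_left, four_le_inf S hgood hL, fun x hx => ?_, fun x hx hx1 y hy hy1 => ?_⟩
  · exact mem_inf.mpr ⟨mul_mem ((mem_normalizer_iff.mp hgN x).mp hx) (inv_mem hx),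
      comm_mem hO S hab hgood hL hgL hx⟩
  · obtain ⟨i, hi⟩ := htrans ⟨x, (mem_inf.mp hx).2⟩ ((hmemP ⟨x, (mem_inf.mp hx).2⟩).mpr hx)
      (fun h => hx1 (congrArg Subtype.val h)) ⟨y, (mem_inf.mp hy).2⟩
      ((hmemP ⟨y, (mem_inf.mp hy).2⟩).mpr hy) (fun h => hy1 (congrArg Subtype.val h))
    refine ⟨i, ?_⟩
    rw [hpow i x hx]
    simpa using congrArg Subtype.val hi

/-- An elementary Sylow 2-subgroup induces inner automorphisms on a component. -/
private theorem split_centralizes (hO : pPrimeCore 2 H = ⊥) (S : Sylow 2 H)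
    (hab : ∀ x ∈ S, ∀ y ∈ S, x * y = y * x) (hgood : GoodComps H)
    (hel : ∀ s ∈ (S : Subgroup H), s ^ 2 = 1) {L : Subgroup H} (hL : Cfsg.IsComponent L)
    {s : H} (hs : s ∈ S) :
    ∃ t ∈ (S : Subgroup H) ⊓ L, s * t ∈ centralizer (L : Set H) := by
  classical
  haveI : IsMulCommutative (S : Subgroup H) := ⟨⟨fun a b => Subtype.ext (hab _ a.2 _ b.2)⟩⟩
  letI : CommGroup (S : Subgroup H) :=
    { (inferInstance : Group (S : Subgroup H)) with
      mul_comm := fun a b => Subtype.ext (hab _ a.2 _ b.2) }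
  let N : Subgroup H := normalizer ((S : Subgroup H) : Set H)
  let φ : ↥N →* MulAut ↥(S : Subgroup H) := (S : Subgroup H).normalizerMonoidHom
  let A : Subgroup (MulAut ↥(S : Subgroup H)) := ((L ⊔ (S : Subgroup H)).subgroupOf N).map φ
  letI : Fintype ↥A := Fintype.ofFinite _
  have hAodd : Odd (Fintype.card ↥A) := by
    rw [← Nat.card_eq_fintype_card]
    refine Odd.of_dvd_nat (odd_index S) ((card_dvd_of_le (map_le_range φ _)).trans ?_)
    rw [← index_ker, normalizerMonoidHom_ker]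
    refine (index_dvd_of_le (H := (S : Subgroup H).subgroupOf N) ?_).trans ?_
    · exact fun x hx => mem_subgroupOf.mpr
        (mem_centralizer_iff.mpr fun y hy => hab y hy x.1 (mem_subgroupOf.mp hx))
    · exact relIndex_dvd_index_of_le le_normalizer
  let T' : Subgroup ↥(S : Subgroup H) := L.subgroupOf (S : Subgroup H)
  have hmove : ∀ a : ↥A, (a : MulAut ↥(S : Subgroup H)) ⟨s, hs⟩ * (⟨s, hs⟩)⁻¹ ∈ T' := by
    rintro ⟨_, n, hn, rfl⟩
    obtain ⟨l, hl, s', hs', he⟩ := sup_decomp hO S hab hgood hL (mem_subgroupOf.mp hn)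
    rw [mem_subgroupOf]
    change (n : H) * s * (n : H)⁻¹ * s⁻¹ ∈ L
    have : (n : H) * s * (n : H)⁻¹ = l * s * l⁻¹ := by
      rw [← he, mul_inv_rev, mul_assoc l s' s, hab s' hs' s hs]
      group
    rw [this]
    exact comm_mem hO S hab hgood hL hl hs
  let sb : ↥(S : Subgroup H) := ∏ a : ↥A, (a : MulAut ↥(S : Subgroup H)) ⟨s, hs⟩
  let t : ↥(S : Subgroup H) :=
    ∏ a : ↥A, (a : MulAut ↥(S : Subgroup H)) ⟨s, hs⟩ * (⟨s, hs⟩)⁻¹
  have ht : t ∈ T' := Subgroup.prod_mem _ fun a _ => hmove a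
  have hst : (⟨s, hs⟩ : ↥(S : Subgroup H)) * t = sb := by
    obtain ⟨k, hk⟩ := hAodd
    have hs2 : (⟨s, hs⟩ : ↥(S : Subgroup H)) ^ 2 = 1 := Subtype.ext (hel s hs)
    have hinv : (⟨s, hs⟩ : ↥(S : Subgroup H))⁻¹ = ⟨s, hs⟩ :=
      inv_eq_of_mul_eq_one_right (by rw [← pow_two, hs2])
    have hts : t = sb * ⟨s, hs⟩ := by
      simp only [t, Finset.prod_mul_distrib, Finset.prod_const, Finset.card_univ]
      rw [hinv, hk, pow_add, pow_mul, hs2, one_pow, one_mul, pow_one]
    rw [hts, mul_comm sb, ← mul_assoc, ← pow_two, hs2, one_mul]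
  have hfix : ∀ a : ↥A, (a : MulAut ↥(S : Subgroup H)) sb = sb := by
    intro a
    simp only [sb, map_prod]
    exact Fintype.prod_equiv (Equiv.mulLeft a) _ _ fun b => rfl
  refine ⟨(t : H), mem_inf.mpr ⟨t.2, mem_subgroupOf.mp ht⟩, ?_⟩
  have hst' : s * (t : H) = (sb : H) := congrArg Subtype.val hst
  rw [hst']
  by_cases h1 : (sb : H) = 1
  · rw [h1]
    exact one_mem _
  set M : Subgroup H := L ⊔ (S : Subgroup H) with hM
  have hSM : (S : Subgroup H) ≤ M := le_sup_right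
  let P : Sylow 2 ↥M := S.subtype hSM
  have hmemP : ∀ x : ↥M, x ∈ (P : Subgroup ↥M) ↔ (x : H) ∈ S := fun x => Iff.rfl
  haveI : IsMulCommutative (P : Subgroup ↥M) :=
    ⟨⟨fun a b => Subtype.ext (Subtype.ext (hab _ a.2 _ b.2))⟩⟩
  let u : ↥M := ⟨(sb : H), hSM sb.2⟩
  have hu1 : u ≠ 1 := fun h => h1 (congrArg Subtype.val h)
  have huo : orderOf u = 2 :=
    orderOf_eq_prime (Subtype.ext (hel _ sb.2)) hu1
  have huP : u ∈ (P : Subgroup ↥M) := sb.2
  have hweak : ∀ g : ↥M, g⁻¹ * u * g ∈ (P : Subgroup ↥M) → g⁻¹ * u * g = u := by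
    intro g hg
    obtain ⟨n, hn, he⟩ := P.conj_eq_normalizer_conj_of_mem u g huP hg
    rw [he]
    have hnN : ((n⁻¹ : ↥M) : H) ∈ N := mem_normalizer_of_conj_mem fun y hy =>
      (hmemP (n⁻¹ * ⟨y, hSM hy⟩ * n⁻¹⁻¹)).mp
        ((mem_normalizer_iff.mp (inv_mem hn) ⟨y, hSM hy⟩).mp hy)
    have hfx := hfix ⟨φ ⟨_, hnN⟩, mem_map_of_mem φ (mem_subgroupOf.mpr (n⁻¹).2)⟩
    have hv : ((n⁻¹ : ↥M) : H) * (sb : H) * ((n⁻¹ : ↥M) : H)⁻¹ = (sb : H) :=
      congrArg Subtype.val hfx
    refine Subtype.ext ?_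
    simpa [u] using hv
  have hiso : IsIsolatedInvolution u := by
    refine ⟨huo, fun g hg => ?_⟩
    set v : ↥M := g * u * g⁻¹ with hv
    have hv2 : orderOf v = 2 :=
      ((MulEquiv.orderOf_eq (MulAut.conj g) u)).trans huo
    have hp : IsPGroup 2 ↥(closure ({u, v} : Set ↥M)) := by
      rintro ⟨x, hx⟩
      refine ⟨1, Subtype.ext ?_⟩
      suffices h : x ^ 2 = 1 by simpa using h
      induction hx using closure_induction with
      | mem y hy =>
        rcases hy with rfl | rfl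
        · exact huo ▸ pow_orderOf_eq_one u
        · exact hv2 ▸ pow_orderOf_eq_one v
      | one => exact one_pow 2
      | mul a b ha hb iha ihb =>
        have hab' : Commute a b := by
          have hcomm : IsMulCommutative ↥(closure ({u, v} : Set ↥M)) :=
            Subgroup.isMulCommutative_closure (by
              intro a ha b hb
              rcases ha with rfl | rfl <;> rcases hb with rfl | rfl
              · rfl
              · exact hg.eq
              · exact hg.symm.eq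
              · rfl)
          exact congrArg Subtype.val (hcomm.is_comm.comm ⟨a, ha⟩ ⟨b, hb⟩)
        rw [hab'.mul_pow, iha, ihb, one_mul]
      | inv a ha iha => rw [inv_pow, iha, inv_one]
    obtain ⟨Q, hQ⟩ := hp.exists_le_sylow
    obtain ⟨h, hh⟩ := MulAction.exists_smul_eq ↥M Q P
    have hconj : ∀ x ∈ closure ({u, v} : Set ↥M), h * x * h⁻¹ ∈ (P : Subgroup ↥M) := by
      intro x hx
      rw [← hh, Sylow.coe_subgroup_smul, Subgroup.mem_pointwise_smul_iff_inv_smul_mem]
      simpa [MulAut.smul_def, MulAut.conj_inv_apply, mul_assoc] using hQ hx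
    have e1 : h * u * h⁻¹ = u := by
      have := hweak h⁻¹ (by simpa using hconj u (subset_closure (Or.inl rfl)))
      simpa using this
    have e2 : h * v * h⁻¹ = u := by
      have hm := hconj v (subset_closure (Or.inr rfl))
      have := hweak (g⁻¹ * h⁻¹) (by simpa [hv, mul_assoc] using hm)
      simpa [hv, mul_assoc] using this
    exact (MulAut.conj h).injective (e2.trans e1.symm)
  have hz := CfsgLib.Involutions.zstar ↥M u hiso
  have hLM : L ≤ M := le_sup_left
  let O' : Subgroup ↥L := (pPrimeCore 2 ↥M).comap (inclusion hLM)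
  haveI : O'.Normal := Normal.comap (Cfsg.pPrimeCore_normal 2 ↥M) _
  have hK : (O'.map L.subtype) = ⊥ := by
    refine eq_bot_of_odd_subnormal hO (IsSubnormal.trans' (inferInstance : O'.Normal).isSubnormal hL.1) ?_
    rw [card_map_of_injective L.subtype_injective,
      ← card_map_of_injective (K := O') (inclusion_injective hLM)]
    exact Nat.Coprime.coprime_dvd_left (card_dvd_of_le (map_comap_le _ _))
      (CfsgLib.PCore.pPrimeCore_coprime)
  refine mem_centralizer_iff.mpr fun l hl => ?_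
  have hxL : l * (sb : H) * l⁻¹ * (sb : H)⁻¹ ∈ L := comm_mem hO S hab hgood hL hl sb.2
  have hx : (⟨_, hxL⟩ : ↥L) ∈ O' := by
    have := hz ⟨l, hLM hl⟩
    exact this
  have h := mem_map_of_mem L.subtype hx
  rw [hK, mem_bot] at h
  exact mul_inv_eq_iff_eq_mul.mp (mul_inv_eq_one.mp h)

/-- The facts about the components of a group with trivial core and abelian Sylow 2-subgroup. -/
theorem splitFacts (hO : Cfsg.pPrimeCore 2 H = ⊥) (S : Sylow 2 H)
    (hab : ∀ x ∈ S, ∀ y ∈ S, x * y = y * x) (hgood : GoodComps H) :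
    SplitFacts (S : Subgroup H) where
  le_normalizer _ hL := split_le_normalizer hO S hab hgood hL
  center _ hL := split_center hO S hab hL
  exists_cycle _ hL := split_cycle hO S hab hgood hL
  centralizes hel _ hL _ hs := split_centralizes hO S hab hgood hel hL hs

end CfsgLib.Walter.RankFour
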