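import Cfsg.Agent.Lib.Walter.RankFour.Core
import Cfsg.Agent.Lib.Walter.RankFour.Reduced
import Cfsg.Agent.Lib.Walter.RankFour.Split
import Cfsg.Agent.Lib.FTCons.GoldschmidtQuot
import Cfsg.Agent.Lib.InvChar.Kazarin

/-!
# Walter's theorem, rank at least four: the case of trivial signalizer

If `Δ(E) = 1` for the subgroups `E` of order at least 8 of `S`, every block `V j` centralises the cores of
the centralisers of the non-trivial subgroups of the product `Q j` of the other blocks.  The perfect cores
`K j` of the `C(Q j)` then commute pairwise, and the normaliser of their product is a proper subgroup that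
contains `N(S)` and the centralisers of all involutions of `S`.  So `G` has a strongly embedded subgroup,
which is solvable.
-/

set_option autoImplicit false
set_option linter.unusedSectionVars false

namespace CfsgLib.Walter.RankFour

open Subgroup
open scoped commutatorElement

universe u

namespace Endgame

variable {X : Type*} [Group X]

/-- An element of odd order inverted by an element centralising `L`, and normalising `L`, centralises `L`. -/
theorem mem_centralizer_of_inverted {L : Subgroup X} {x v : X} (hv : v ∈ centralizer (L : Set X))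
    (hx : x ∈ normalizer (L : Set X)) (hinv : v * x * v⁻¹ = x⁻¹) (hodd : Odd (orderOf x)) :
    x ∈ centralizer (L : Set X) := by
  rw [mem_centralizer_iff]
  intro y hy
  have hxy : x * y * x⁻¹ ∈ L := (mem_normalizer_iff.1 hx y).1 hy
  have hvy : v * y * v⁻¹ = y := by
    rw [← mem_centralizer_iff.1 hv y hy, mul_inv_cancel_right]
  have hvxy : v * (x * y * x⁻¹) * v⁻¹ = x * y * x⁻¹ := by
    rw [← mem_centralizer_iff.1 hv _ hxy, mul_inv_cancel_right]
  have e1 : v * (x * y * x⁻¹) * v⁻¹ = x⁻¹ * y * x := by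
    calc v * (x * y * x⁻¹) * v⁻¹ = (v * x * v⁻¹) * (v * y * v⁻¹) * (v * x * v⁻¹)⁻¹ := by group
      _ = x⁻¹ * y * x := by rw [hinv, hvy, inv_inv]
  rw [e1] at hvxy
  have h2 : Commute (x * x) y := by
    calc x * x * y = x * (x * y * x⁻¹) * x := by group
      _ = x * (x⁻¹ * y * x) * x := by rw [hvxy]
      _ = y * (x * x) := by group
  obtain ⟨m, hm⟩ := hodd
  have hxm : x = (x * x) ^ (m + 1) := by
    rw [← pow_two, ← pow_mul, show 2 * (m + 1) = orderOf x + 1 by omega, pow_succ,
      pow_orderOf_eq_one, one_mul]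
  have := h2.pow_left (m + 1)
  rw [← hxm] at this
  exact this.eq.symm

/-- The join of the perfect subgroups of `K`. -/
def resid (K : Subgroup X) : Subgroup X := sSup {P : Subgroup X | P ≤ K ∧ ⁅P, P⁆ = P}

theorem resid_le (K : Subgroup X) : resid K ≤ K := sSup_le fun _ hP => hP.1

theorem le_resid {K P : Subgroup X} (hPK : P ≤ K) (hP : ⁅P, P⁆ = P) : P ≤ resid K :=
  le_sSup ⟨hPK, hP⟩

theorem commutator_resid (K : Subgroup X) : ⁅resid K, resid K⁆ = resid K :=
  le_antisymm (commutator_le_self _) (sSup_le fun _ hP =>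
    hP.2.ge.trans (commutator_mono (le_sSup hP) (le_sSup hP)))

theorem map_resid_le {Y : Type*} [Group Y] (f : X →* Y) {K : Subgroup X} {K' : Subgroup Y}
    (h : K.map f ≤ K') : (resid K).map f ≤ resid K' :=
  le_resid ((map_mono (resid_le K)).trans h) (by rw [← map_commutator, commutator_resid])

/-- Conjugation by `g` preserving `P` up to inclusion gives normalisation. -/
theorem mem_normalizer_of_map_le [Finite X] {P : Subgroup X} {g : X}
    (h : P.map (MulAut.conj g).toMonoidHom ≤ P) : g ∈ normalizer (P : Set X) := by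
  have he : P.map (MulAut.conj g).toMonoidHom = P := eq_of_le_of_card_ge h
    (card_map_of_injective (MulAut.conj g).injective).ge
  rw [mem_normalizer_iff]
  intro x
  constructor
  · exact fun hx => h ⟨x, hx, rfl⟩
  · intro hx
    rw [← he] at hx
    obtain ⟨y, hy, hyx⟩ := hx
    exact (MulAut.conj g).injective hyx ▸ hy

theorem normalizer_le_normalizer_resid [Finite X] (K : Subgroup X) :
    normalizer (K : Set X) ≤ normalizer (resid K : Set X) := fun g hg =>
  mem_normalizer_of_map_le (map_resid_le _ (by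
    rintro _ ⟨x, hx, rfl⟩
    exact (mem_normalizer_iff.1 hg x).1 hx))

/-- If of any component either `a` or `b` centralises it, then `⁅a, b⁆` centralises all components. -/
theorem commutator_mem_centralizer_component [Finite X] {a b : X}
    (h : ∀ L : Subgroup X, Cfsg.IsComponent L →
      a ∈ centralizer (L : Set X) ∨ b ∈ centralizer (L : Set X))
    {L : Subgroup X} (hL : Cfsg.IsComponent L) : ⁅a, b⁆ ∈ centralizer (L : Set X) := by
  have key : ∀ a b : X, (∀ L : Subgroup X, Cfsg.IsComponent L →
      a ∈ centralizer (L : Set X) ∨ b ∈ centralizer (L : Set X)) →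
      b ∈ centralizer (L : Set X) → ⁅a, b⁆ ∈ centralizer (L : Set X) := by
    intro a b h hb
    rw [commutatorElement_def]
    refine mul_mem ?_ (inv_mem hb)
    rw [mem_centralizer_iff]
    intro y hy
    have hz : a⁻¹ * y * a ∈ L.map (MulAut.conj a⁻¹).toMonoidHom := ⟨y, hy, by simp⟩
    have hcomm : Commute b (a⁻¹ * y * a) := by
      rcases h _ (CfsgLib.Components.isComponent_conj a⁻¹ hL) with ha | hb'
      · have e : L.map (MulAut.conj a⁻¹).toMonoidHom = L := by
          refine (eq_of_le_of_card_ge (fun z hz' => ?_)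
            (card_map_of_injective (MulAut.conj a⁻¹).injective).le).symm
          have hz'' : a⁻¹ * z * a ∈ L.map (MulAut.conj a⁻¹).toMonoidHom := ⟨z, hz', by simp⟩
          have hc := mem_centralizer_iff.1 ha _ hz''
          have : z = a⁻¹ * z * a := by
            calc z = a * (a⁻¹ * z * a) * a⁻¹ := by group
              _ = a⁻¹ * z * a := by rw [← hc]; group
          rw [this]
          exact hz''
        rw [e] at hz
        exact (mem_centralizer_iff.1 hb _ hz).symm
      · exact (mem_centralizer_iff.1 hb' _ hz).symm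
    calc y * (a * b * a⁻¹) = a * ((a⁻¹ * y * a) * b) * a⁻¹ := by group
      _ = a * (b * (a⁻¹ * y * a)) * a⁻¹ := by rw [hcomm.eq]
      _ = a * b * a⁻¹ * y := by group
  rcases h L hL with ha | hb
  · rw [← commutatorElement_inv b a]
    exact inv_mem (key b a (fun K hK => (h K hK).symm) ha)
  · exact key a b h hb

end Endgame

open Endgame

variable {G : Type u} [Group G] [Finite G]

local instance : Fact (Nat.Prime 2) := ⟨Nat.prime_two⟩

/-- What the endgame uses about the reduced centraliser of `u`. -/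
structure EndFacts (S : Subgroup G) (u : G) : Prop where
  generated : Cfsg.layer (CenBar u) ⊔ normalizer (img u S : Set (CenBar u)) = ⊤
  centre : ∀ L : Subgroup (CenBar u), Cfsg.IsComponent L →
    L ⊓ centralizer (L : Set (CenBar u)) = ⊥
  four_le : ∀ L : Subgroup (CenBar u), Cfsg.IsComponent L → 4 ≤ Nat.card (piece S u L)

theorem endFacts_of_split {S : Subgroup G} {u : G} (hc : CenFacts S u)
    (hsf : SplitFacts (img u S)) : EndFacts S u := by
  refine ⟨hc.generated, hsf.center, fun L hL => ?_⟩
  obtain ⟨g, -, hg⟩ := hsf.exists_cycle L hL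
  refine hg.four_le.trans ?_
  refine (Nat.card_le_card_of_surjective
    (fun x : ↥((S.subgroupOf (cen u)) ⊓ L.comap (bar u)) =>
      (⟨bar u (x : ↥(cen u)), ⟨(x : ↥(cen u)), x.2.1, rfl⟩, x.2.2⟩ : ↥(img u S ⊓ L))) ?_).trans ?_
  · rintro ⟨_, ⟨x, hx, rfl⟩, hxL⟩
    exact ⟨⟨x, hx, hxL⟩, rfl⟩
  · refine Nat.card_le_card_of_injective
      (fun x : ↥((S.subgroupOf (cen u)) ⊓ L.comap (bar u)) =>
        (⟨((x : ↥(cen u)) : G), x.2.1, (x : ↥(cen u)), x.2.2, rfl⟩ : ↥(piece S u L))) ?_
    intro a b h
    exact Subtype.ext (Subtype.ext (congrArg (fun z : ↥(piece S u L) => (z : G)) h))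

/-- The centraliser of the product of the blocks other than `j`. -/
def Blocks.cent {S : Subgroup G} (B : Blocks S) (j : B.ι) : Subgroup G :=
  centralizer (B.others j : Set G)

/-- The perfect core of `B.cent j`. -/
def Blocks.core {S : Subgroup G} (B : Blocks S) (j : B.ι) : Subgroup G := resid (B.cent j)

/-- `bar u` does not kill elements of `S`. -/
theorem bar_ne_one {S : Subgroup G} (hS : Cfsg.IsElementaryAbelian 2 S) {u : G} {x : ↥(cen u)}
    (hx : (x : G) ∈ S) (h1 : (x : G) ≠ 1) : bar u x ≠ 1 := fun h => by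
  have hmem : x ∈ Cfsg.pPrimeCore 2 ↥(cen u) := (QuotientGroup.eq_one_iff x).1 h
  have ho : orderOf x = 2 := by
    rw [← Subgroup.orderOf_coe]
    exact orderOf_eq_prime (hS.2 _ hx) h1
  have h2 := orderOf_dvd_natCard _ hmem
  rw [ho] at h2
  exact CfsgLib.PCore.not_dvd_card_pPrimeCore h2

/-- An element centralising a non-identity element of the piece of a component normalises the component. -/
theorem bar_mem_normalizer {S : Subgroup G} (hS : Cfsg.IsElementaryAbelian 2 S) {u : G}
    {L : Subgroup (CenBar u)} (hL : Cfsg.IsComponent L)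
    (hcentre : L ⊓ centralizer (L : Set (CenBar u)) = ⊥) {y : G} (hy : y ∈ piece S u L) (hy1 : y ≠ 1)
    {x : ↥(cen u)} (hxy : (x : G) * y = y * x) : bar u x ∈ normalizer (L : Set (CenBar u)) := by
  obtain ⟨hyS, y', hy'L, hyy⟩ := hy
  have hy'L' : bar u y' ∈ L := hy'L
  replace hyy : (y' : G) = y := hyy
  have hne : bar u y' ≠ 1 :=
    bar_ne_one hS (by rw [hyy]; exact hyS) (by rw [hyy]; exact hy1)
  have hc : bar u x * bar u y' = bar u y' * bar u x := by
    rw [← map_mul, ← map_mul]
    refine congrArg _ (Subtype.ext ?_)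
    show (x : G) * (y' : G) = y' * x
    rw [hyy]
    exact hxy
  have hy2 : bar u y' ∈ L.map (MulAut.conj (bar u x)).toMonoidHom :=
    ⟨bar u y', hy'L', by
      show bar u x * bar u y' * (bar u x)⁻¹ = bar u y'
      rw [hc, mul_inv_cancel_right]⟩
  by_cases he : L.map (MulAut.conj (bar u x)).toMonoidHom = L
  · exact mem_normalizer_of_map_le he.le
  · exfalso
    have hcomm := CfsgLib.Components.commutator_components_eq_bot
      (CfsgLib.Components.isComponent_conj (bar u x) hL) hL he
    have hmem : bar u y' ∈ L ⊓ centralizer (L : Set (CenBar u)) :=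
      ⟨hy'L', CfsgLib.Components.le_centralizer_of_commutator_eq_bot hcomm hy2⟩
    rw [hcentre, mem_bot] at hmem
    exact hne hmem

namespace Blocks

variable {S : Subgroup G} (B : Blocks S)

theorem block_le (i : B.ι) : B.V i ≤ S := (le_iSup B.V i).trans B.sup_eq.le

theorem exists_ne_one (i : B.ι) : ∃ w ∈ B.V i, w ≠ 1 := by
  have h4 := B.four_le i
  refine ((B.V i).bot_or_exists_ne_one).resolve_left fun h => ?_
  rw [h, card_bot] at h4
  omega

theorem eq_of_le {i j : B.ι} {A : Subgroup G} (hA : A ≠ ⊥) (hi : A ≤ B.V i) (hj : A ≤ B.V j) :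
    i = j := by
  by_contra hne
  exact hA (eq_bot_iff.2 ((le_inf hi (hj.trans (B.le_others (Ne.symm hne)))).trans (B.indep i).le))

theorem exists_third (i j : B.ι) : ∃ l, l ≠ i ∧ l ≠ j := by
  classical
  haveI := B.finite
  by_contra h
  push Not at h
  have hle : Nat.card B.ι ≤ Nat.card Bool := by
    refine Nat.card_le_card_of_injective (fun k => decide (k = i)) fun a b hab => ?_
    simp only [decide_eq_decide] at hab
    by_cases ha : a = i
    · rw [ha, hab.1 ha]
    · rw [h a ha, h b (fun hb => ha (hab.2 hb))]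
  have := B.three_le
  rw [Nat.card_eq_fintype_card (α := Bool), Fintype.card_bool] at hle
  omega

/-- The blocks other than `i` centralise a component over `i`, and so does their product. -/
theorem img_others_le {u : G} (hSu : S ≤ cen u) {L : Subgroup (CenBar u)} {i : B.ι}
    (h : ∀ j, j ≠ i → img u (B.V j) ≤ centralizer (L : Set (CenBar u))) :
    img u (B.others i) ≤ centralizer (L : Set (CenBar u)) := by
  have hle : B.others i ≤ ((centralizer (L : Set (CenBar u))).comap (bar u)).map (cen u).subtype := by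
    refine iSup_le fun j v hv => ?_
    exact ⟨⟨v, hSu (B.block_le _ hv)⟩, h j j.2 ⟨⟨v, hSu (B.block_le _ hv)⟩, hv, rfl⟩, rfl⟩
  rintro _ ⟨y, hy, rfl⟩
  obtain ⟨z, hz, hzy⟩ := hle (mem_subgroupOf.1 hy)
  rw [← Subtype.ext (a1 := z) (a2 := y) hzy]
  exact hz

end Blocks

section

variable {S : Sylow 2 G} (hS : Cfsg.IsElementaryAbelian 2 (S : Subgroup G))
  (B : Blocks (S : Subgroup G))
  (hfacts : ∀ u ∈ (S : Subgroup G), u ≠ 1 → EndFacts (S : Subgroup G) u)
  (hdelta : ∀ E : Subgroup G, E ≤ (S : Subgroup G) → 8 ≤ Nat.card E →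
    Cfsg.signalizerDelta 2 E = ⊥)

include hS in
theorem sylow_le_cent (j : B.ι) : (S : Subgroup G) ≤ B.cent j := fun _ hs =>
  mem_centralizer_iff.2 fun _ ht => commute_of_mem hS (B.others_le j ht) hs

include hS in
theorem pCore_le_img {u : G} (hu : u ∈ (S : Subgroup G)) :
    Cfsg.pCore 2 (CenBar u) ≤ img u (S : Subgroup G) := by
  have h := CfsgLib.PCore.pCore_le_sylow
    ((S.subtype (le_cen hS hu)).mapSurjective (QuotientGroup.mk'_surjective _ :
      Function.Surjective (bar u)))
  rw [Sylow.coe_mapSurjective] at h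
  exact h

include hS hfacts hdelta in
/-- The key vanishing. -/
theorem eq_one_of_inverted {j : B.ι} {R : Subgroup G} (hR : R ≤ B.others j) {F : Subgroup G}
    (hF : IsHyp (S : Subgroup G) F) (hRF : R ≤ F) {v : G} (hv : v ∈ B.V j) {x : G}
    (hx : x ∈ CfsgLib.Components.centralizerCore 2 (R : Set G))
    (hxF : x ∈ centralizer (F : Set G)) (hinv : v * x * v⁻¹ = x⁻¹) : x = 1 := by
  have h8 : 8 ≤ Nat.card F := by
    have := hF.2
    have := B.sixtyfour_le
    omega
  suffices h : x ∈ Cfsg.signalizerDelta 2 F by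
    rwa [hdelta F hF.1 h8, mem_bot] at h
  rw [Cfsg.signalizerDelta, mem_iInf]
  rintro ⟨f, hfF, hf1⟩
  have hfS : f ∈ (S : Subgroup G) := hF.1 hfF
  have hSf : (S : Subgroup G) ≤ cen f := le_cen hS hfS
  have hxf : x ∈ cen f := centralizer_le (Set.singleton_subset_iff.2 hfF) hxF
  set x' : ↥(cen f) := ⟨x, hxf⟩ with hx'
  set v' : ↥(cen f) := ⟨v, hSf (B.block_le j hv)⟩ with hv'
  refine ⟨x', (QuotientGroup.eq_one_iff (N := Cfsg.pPrimeCore 2 ↥(cen f)) x').1 ?_, rfl⟩
  show bar f x' = 1
  have hinv' : bar f v' * bar f x' * (bar f v')⁻¹ = (bar f x')⁻¹ := by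
    rw [← map_inv, ← map_inv, ← map_mul, ← map_mul]
    exact congrArg _ (Subtype.ext hinv)
  have hco : (orderOf x).Coprime 2 := CfsgLib.Components.coprime_orderOf_of_mem_centralizerCore hx
  have hdvd : orderOf (bar f x') ∣ orderOf x :=
    (orderOf_map_dvd _ x').trans (Subgroup.orderOf_coe x').symm.dvd
  have hodd : Odd (orderOf (bar f x')) :=
    (Nat.coprime_two_right.1 hco).of_dvd_nat hdvd
  have hO : Cfsg.pPrimeCore 2 (CenBar f) = ⊥ := CfsgLib.PCore.pPrimeCore_quotient_pPrimeCore
  have hlayer : ∀ L : Subgroup (CenBar f), Cfsg.IsComponent L →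
      bar f x' ∈ centralizer (L : Set (CenBar f)) := by
    intro L hL
    obtain ⟨i, hi, hcent⟩ := B.component f hfS hf1 L hL
    obtain ⟨c, hc, hcF, hc1⟩ := exists_common hS (inf_le_left) hF ((hfacts f hfS hf1).four_le L hL)
    have hN : bar f x' ∈ normalizer (L : Set (CenBar f)) :=
      bar_mem_normalizer hS hL ((hfacts f hfS hf1).centre L hL) hc hc1
        (mem_centralizer_iff.1 hxF c hcF).symm
    by_cases hij : j = i
    · subst hij
      set T := R.subgroupOf (cen f) with hT
      have hT2 : IsPGroup 2 T := fun t => ⟨1, Subtype.ext (Subtype.ext (by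
        simpa using hS.2 _ (hF.1 (hRF (mem_subgroupOf.1 t.2)))))⟩
      have hTL : T.map (FTCons.GoldFunctor.quo ↥(cen f)) ≤ centralizer (L : Set (CenBar f)) :=
        le_trans (map_mono (comap_mono hR)) (B.img_others_le hSf hcent)
      have hzle : zpowers x' ≤ CfsgLib.Components.centralizerCore 2 (T : Set ↥(cen f)) :=
        zpowers_le.2 (FTCons.GoldFunctor.centralizerCore_subgroupOf_le (cen f) R
          (hRF.trans (hF.1.trans hSf)) (mem_subgroupOf.2 hx))
      have hzN : (zpowers x').map (FTCons.GoldFunctor.quo ↥(cen f)) ≤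
          normalizer (L : Set (CenBar f)) := by
        rw [MonoidHom.map_zpowers]
        exact zpowers_le.2 hN
      have h := FTCons.GoldFunctor.core_commutes hL hT2 hTL hzle hzN
      rw [commutator_comm] at h
      exact CfsgLib.Components.le_centralizer_of_commutator_eq_bot h ⟨x', mem_zpowers x', rfl⟩
    · exact mem_centralizer_of_inverted (hcent j hij ⟨v', hv, rfl⟩) hN hinv' hodd
  have hvP : bar f v' ∈ centralizer (Cfsg.pCore 2 (CenBar f) : Set (CenBar f)) := by
    rw [mem_centralizer_iff]
    intro z hz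
    obtain ⟨s, hs, rfl⟩ := pCore_le_img hS hfS hz
    rw [← map_mul, ← map_mul]
    exact congrArg _ (Subtype.ext (commute_of_mem hS hs (B.block_le j hv)))
  have hxP := mem_centralizer_of_inverted hvP
    (by rw [normalizer_eq_top]; exact mem_top _) hinv' hodd
  exact CfsgLib.Components.eq_one_of_mem_pCore_of_coprime
    (CfsgLib.Tech46.mem_pCore_of_centralizes hO (CfsgLib.Tech46.mem_centralizer_layer hlayer) hxP)
    (hco.coprime_dvd_left hdvd)

include hS hfacts hdelta in
/-- `V j` centralises the cores of the centralisers of subgroups of the product of the other blocks. -/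
theorem core_le_centralizer {j : B.ι} {R : Subgroup G} (hR : R ≤ B.others j) :
    CfsgLib.Components.centralizerCore 2 (R : Set G) ≤ centralizer (B.V j : Set G) := by
  set Y := CfsgLib.Components.centralizerCore 2 (R : Set G) with hY
  have hRS : R ≤ (S : Subgroup G) := hR.trans (B.others_le j)
  have hSN : (S : Subgroup G) ≤ normalizer (Y : Set G) := by
    refine le_normalizer_of_conj hS fun s hs y hy => ?_
    exact CfsgLib.Components.conj_mem_centralizerCore (centralizer_le_normalizer _
      (mem_centralizer_iff.2 fun r hr => commute_of_mem hS (hRS hr) hs)) hy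
  refine CfsgLib.Tech46.le_of_centralizers_corank_one hS _ _ (fun h => ?_) hSN
    fun B' hB' hcard x hx => ?_
  · exact Nat.prime_two.coprime_iff_not_dvd.1
      (CfsgLib.Components.card_centralizerCore_coprime (p := 2) (R : Set G)).symm h
  have hF : IsHyp (S : Subgroup G) (B' ⊔ R) := ⟨sup_le hB' hRS, hcard.trans
    (Nat.mul_le_mul_left 2 (Nat.le_of_dvd Nat.card_pos (card_dvd_of_le le_sup_left)))⟩
  have hxF : x ∈ centralizer ((B' ⊔ R : Subgroup G) : Set G) :=
    le_centralizer_iff.1 (sup_le (le_centralizer_iff.1 (zpowers_le.2 hx.2))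
      (le_centralizer_iff.1 (zpowers_le.2
        (CfsgLib.Components.centralizerCore_le_centralizer _ hx.1)))) (mem_zpowers x)
  rw [mem_centralizer_iff]
  intro v hv
  have hvS : v ∈ (S : Subgroup G) := B.block_le j hv
  have hvv : v * v = 1 := by simpa [pow_two] using hS.2 v hvS
  have hvi : v⁻¹ = v := inv_eq_of_mul_eq_one_right hvv
  set z := x⁻¹ * (v * x * v⁻¹) with hz
  have hzY : z ∈ Y := mul_mem (inv_mem hx.1) ((mem_normalizer_iff.1 (hSN hvS) x).1 hx.1)
  have hzF : z ∈ centralizer ((B' ⊔ R : Subgroup G) : Set G) := by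
    have hvc : v ∈ centralizer ((B' ⊔ R : Subgroup G) : Set G) :=
      mem_centralizer_iff.2 fun w hw => commute_of_mem hS (hF.1 hw) hvS
    exact mul_mem (inv_mem hxF) (mul_mem (mul_mem hvc hxF) (inv_mem hvc))
  have hzi : v * z * v⁻¹ = z⁻¹ := by
    rw [hz, hvi]
    calc v * (x⁻¹ * (v * x * v)) * v = v * x⁻¹ * v * x * (v * v) := by group
      _ = (x⁻¹ * (v * x * v))⁻¹ := by
        rw [hvv, mul_inv_rev, mul_inv_rev, mul_inv_rev, hvi, inv_inv]; group
  have h1 := eq_one_of_inverted hS B hfacts hdelta hR hF le_sup_right hv hzY hzF hzi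
  rw [hz, inv_mul_eq_one] at h1
  calc v * x = v * x * v⁻¹ * v := by group
    _ = x * v := by rw [← h1]

include hS in
/-- A perfect subgroup of `C(Q j)` lies in every subgroup normalised by `C(Q j)` that contains `V j`. -/
theorem perfect_le_of_normalized {j : B.ι} {P D : Subgroup G} (hPC : P ≤ B.cent j) (hP : ⁅P, P⁆ = P)
    (hD : B.cent j ≤ normalizer (D : Set G)) (hV : B.V j ≤ D) : P ≤ D := by
  set C := B.cent j with hC
  have hSC : (S : Subgroup G) ≤ C := sylow_le_cent hS B j
  haveI hDn : (D.subgroupOf C).Normal := by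
    refine ⟨fun d hd c => ?_⟩
    exact mem_subgroupOf.2 ((mem_normalizer_iff.1 (hD c.2) (d : G)).1 (mem_subgroupOf.1 hd))
  set Z := (B.others j).subgroupOf C with hZ
  have hZc : ∀ z ∈ Z, ∀ c : C, c * z = z * c := fun z hz c => Subtype.ext
    (mem_centralizer_iff.1 c.2 _ (mem_subgroupOf.1 hz)).symm
  haveI hZn : Z.Normal := ⟨fun z hz c => by rwa [hZc z hz c, mul_inv_cancel_right]⟩
  have hZsol : Group.IsSolvable Z := Group.isSolvable_of_comm fun a b =>
    Subtype.ext (hZc _ b.2 _)
  have hSle : ((S.subtype hSC : Sylow 2 C) : Subgroup C) ≤ D.subgroupOf C ⊔ Z := by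
    intro s hs
    have hsS : (s : G) ∈ (S : Subgroup G) := mem_subgroupOf.1 hs
    have hle : (S : Subgroup G) ≤ (D.subgroupOf C ⊔ Z).map C.subtype := by
      refine B.sup_eq.ge.trans (iSup_le fun i w hw => ?_)
      by_cases hij : i = j
      · subst hij
        exact ⟨⟨w, hSC (B.block_le i hw)⟩, mem_sup_left (mem_subgroupOf.2 (hV hw)), rfl⟩
      · exact ⟨⟨w, hSC (B.block_le i hw)⟩,
          mem_sup_right (mem_subgroupOf.2 (B.le_others hij hw)), rfl⟩
    obtain ⟨w, hw, hws⟩ := hle hsS
    exact (Subtype.ext hws : w = s) ▸ hw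
  have hodd : Odd (D.subgroupOf C ⊔ Z).index := by
    rw [← Nat.not_even_iff_odd, even_iff_two_dvd]
    exact fun h => (S.subtype hSC).not_dvd_index (h.trans (index_dvd_of_le hSle))
  have hP' : ⁅P.subgroupOf C, P.subgroupOf C⁆ = P.subgroupOf C := by
    apply map_injective C.subtype_injective
    rw [map_commutator, map_subgroupOf_eq_of_le hPC, hP]
  have h := perfect_le_of_sup hP' hZsol (perfect_le_of_odd_index hP' hodd)
  exact fun p hp => mem_subgroupOf.1 (h (show (⟨p, hPC hp⟩ : C) ∈ P.subgroupOf C from hp))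

include hS hfacts hdelta in
theorem blockCore_le_centralizer {j : B.ι} {R : Subgroup G} (hR : R ≤ B.others j) :
    B.core j ≤ centralizer (CfsgLib.Components.centralizerCore 2 (R : Set G) : Set G) := by
  refine perfect_le_of_normalized hS B (resid_le _) (commutator_resid _) ?_
    (le_centralizer_iff.1 (core_le_centralizer hS B hfacts hdelta hR))
  refine fun c hc => CfsgLib.Components.normalizer_le_normalizer_centralizer _ ?_
  have hcR : c ∈ normalizer (R : Set G) :=
    centralizer_le_normalizer _ (centralizer_le (SetLike.coe_subset_coe.2 hR) hc)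
  exact mem_normalizer_of_map_le (by
    rintro _ ⟨y, hy, rfl⟩
    exact CfsgLib.Components.conj_mem_centralizerCore hcR hy)

include hS hfacts in
/-- In `C(r)/O(C(r))`, `r` outside the block `j`, the core `K j` centralises the components over the other
blocks and `O₂`. -/
theorem blockCore_img {j : B.ι} {r : G} (hr : r ∈ B.others j) (hr1 : r ≠ 1) :
    B.core j ≤ cen r ∧
      img r (B.core j) ≤ centralizer (Cfsg.pCore 2 (CenBar r) : Set (CenBar r)) ∧
      ∀ (L : Subgroup (CenBar r)), Cfsg.IsComponent L → ∀ i, piece (S : Subgroup G) r L ≤ B.V i →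
        (∀ k, k ≠ i → img r (B.V k) ≤ centralizer (L : Set (CenBar r))) → i ≠ j →
          img r (B.core j) ≤ centralizer (L : Set (CenBar r)) := by
  have hrS : r ∈ (S : Subgroup G) := B.others_le j hr
  have hCr : B.cent j ≤ cen r := centralizer_le (Set.singleton_subset_iff.2 hr)
  have hSr : (S : Subgroup G) ≤ cen r := le_cen hS hrS
  have hmain : ∀ T : Subgroup (CenBar r),
      (∀ c : ↥(cen r), (c : G) ∈ B.cent j → bar r c ∈ normalizer (T : Set (CenBar r))) →
      img r (B.V j) ≤ centralizer (T : Set (CenBar r)) →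
      img r (B.core j) ≤ centralizer (T : Set (CenBar r)) := by
    intro T hN hV
    have h := perfect_le_of_normalized hS B (P := B.core j)
      (D := ((centralizer (T : Set (CenBar r))).comap (bar r)).map (cen r).subtype)
      (resid_le _) (commutator_resid _) (fun c hc => ?_) (fun w hw => ?_)
    · rintro _ ⟨y, hy, rfl⟩
      obtain ⟨z, hz, hzy⟩ := h (mem_subgroupOf.1 hy)
      rw [← Subtype.ext (a1 := z) (a2 := y) hzy]
      exact hz
    · refine mem_normalizer_of_map_le ?_
      rintro _ ⟨_, ⟨d, hd, rfl⟩, rfl⟩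
      refine ⟨⟨c, hCr hc⟩ * d * ⟨c, hCr hc⟩⁻¹, ?_, rfl⟩
      show bar r (⟨c, hCr hc⟩ * d * ⟨c, hCr hc⟩⁻¹) ∈ centralizer (T : Set (CenBar r))
      rw [map_mul, map_mul, map_inv]
      exact (mem_normalizer_iff.1
        (CfsgLib.Components.normalizer_le_normalizer_centralizer _ (hN ⟨c, hCr hc⟩ hc)) _).1 hd
    · exact ⟨⟨w, hSr (B.block_le j hw)⟩, hV ⟨_, hw, rfl⟩, rfl⟩
  refine ⟨(resid_le _).trans hCr, hmain _ (fun c _ => ?_) ?_, fun L hL i hi hcent hij => ?_⟩
  · rw [normalizer_eq_top]
    exact mem_top _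
  · refine le_centralizer_iff.1 fun z hz => ?_
    obtain ⟨s, hs, rfl⟩ := pCore_le_img hS hrS hz
    rw [mem_centralizer_iff]
    rintro _ ⟨w, hw, rfl⟩
    rw [← map_mul, ← map_mul]
    exact congrArg _ (Subtype.ext (commute_of_mem hS (B.block_le j (mem_subgroupOf.1 hw)) hs))
  · refine hmain L (fun c hc => ?_) (hcent j (Ne.symm hij))
    have h4 := (hfacts r hrS hr1).four_le L hL
    obtain ⟨y, hy, hy1⟩ := ((piece (S : Subgroup G) r L).bot_or_exists_ne_one).resolve_left
      fun h => by rw [h, card_bot] at h4; omega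
    exact bar_mem_normalizer hS hL ((hfacts r hrS hr1).centre L hL) hy hy1
      (mem_centralizer_iff.1 hc y (B.le_others hij (hi hy))).symm

include hS hfacts hdelta in
/-- The cores of different blocks commute. -/
theorem blockCore_commute {i j : B.ι} (hij : i ≠ j) : ⁅B.core i, B.core j⁆ = ⊥ := by
  obtain ⟨l, hli, hlj⟩ := B.exists_third i j
  obtain ⟨r, hr, hr1⟩ := B.exists_ne_one l
  have hri : r ∈ B.others i := B.le_others hli hr
  have hrj : r ∈ B.others j := B.le_others hlj hr
  have hrS : r ∈ (S : Subgroup G) := B.block_le l hr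
  obtain ⟨hic, hiP, hiL⟩ := blockCore_img hS B hfacts hri hr1
  obtain ⟨hjc, hjP, hjL⟩ := blockCore_img hS B hfacts hrj hr1
  have hO : Cfsg.pPrimeCore 2 (CenBar r) = ⊥ := CfsgLib.PCore.pPrimeCore_quotient_pPrimeCore
  have hle : ⁅img r (B.core i), img r (B.core j)⁆ ≤ Cfsg.pCore 2 (CenBar r) := by
    rw [commutator_le]
    intro a ha b hb
    refine CfsgLib.Tech46.mem_pCore_of_centralizes hO (CfsgLib.Tech46.mem_centralizer_layer
      fun L hL => commutator_mem_centralizer_component (fun M hM => ?_) hL) ?_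
    · obtain ⟨m, hm, hcent⟩ := B.component r hrS hr1 M hM
      by_cases hmi : m = i
      · exact Or.inr (hjL M hM m hm hcent (hmi ▸ hij) hb)
      · exact Or.inl (hiL M hM m hm hcent hmi ha)
    · rw [commutatorElement_def]
      exact mul_mem (mul_mem (mul_mem (hiP ha) (hjP hb)) (inv_mem (hiP ha))) (inv_mem (hjP hb))
  have hperf : ⁅(B.core i).subgroupOf (cen r), (B.core i).subgroupOf (cen r)⁆ =
      (B.core i).subgroupOf (cen r) := by
    apply map_injective (cen r).subtype_injective
    rw [map_commutator, map_subgroupOf_eq_of_le hic]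
    exact commutator_resid _
  have h1 : ⁅img r (B.core i), img r (B.core j)⁆ = ⊥ := by
    refine CfsgLib.Components.commutator_eq_bot_of_perfect
      (by rw [img, ← map_commutator, hperf]) (le_bot_iff.1 ?_)
    refine (commutator_mono hle le_rfl).trans (le_of_eq ?_)
    rw [commutator_comm]
    exact commutator_eq_bot_iff_le_centralizer.2 hiP
  have h2 : ⁅B.core i, B.core j⁆ ≤
      CfsgLib.Components.centralizerCore 2 ((zpowers r : Subgroup G) : Set G) := by
    rw [img, img, ← map_commutator, Subgroup.map_eq_bot_iff, QuotientGroup.ker_mk'] at h1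
    rw [← CfsgLib.Components.centralizerPPrimeCore_eq_zpowers]
    refine le_trans (le_of_eq ?_) (map_mono h1)
    rw [map_commutator, map_subgroupOf_eq_of_le hic, map_subgroupOf_eq_of_le hjc]
  refine CfsgLib.Components.commutator_eq_bot_of_perfect (commutator_resid _) (le_bot_iff.1 ?_)
  refine (commutator_mono h2 le_rfl).trans (le_of_eq ?_)
  rw [commutator_comm]
  exact commutator_eq_bot_iff_le_centralizer.2
    (blockCore_le_centralizer hS B hfacts hdelta (zpowers_le.2 hri))

/-- The product of the cores of the blocks. -/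
def Blocks.prodCore {S : Subgroup G} (B : Blocks S) : Subgroup G := ⨆ j, B.core j

include hS in
theorem normalizer_sylow_le :
    normalizer ((S : Subgroup G) : Set G) ≤ normalizer (B.prodCore : Set G) := by
  classical
  haveI := B.finite
  intro n hn
  choose σ hσ using B.perm n hn
  have hσinj : Function.Injective σ := by
    intro a b hab
    have h := (hσ a).trans ((congrArg B.V hab).trans (hσ b).symm)
    have h' : B.V a = B.V b := map_injective (MulAut.conj n).injective h
    refine B.eq_of_le (fun hb => ?_) le_rfl h'.le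
    have := B.four_le a
    rw [hb, card_bot] at this
    omega
  have hσsurj : Function.Surjective σ := Finite.surjective_of_injective hσinj
  refine mem_normalizer_of_map_le ?_
  rw [Blocks.prodCore, Subgroup.map_iSup]
  refine iSup_le fun i => le_trans (map_resid_le _ ?_) (le_iSup B.core (σ i))
  rintro _ ⟨c, hc, rfl⟩
  refine le_centralizer_iff.1 (iSup_le ?_ : B.others (σ i) ≤
    centralizer (zpowers (MulAut.conj n c) : Set G)) (mem_zpowers _)
  rintro ⟨m, hm⟩
  obtain ⟨k, rfl⟩ := hσsurj m
  show B.V (σ k) ≤ _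
  rw [← hσ k]
  rintro _ ⟨w, hw, rfl⟩
  have hki : k ≠ i := fun e => hm (congrArg σ e)
  have hcw : Commute w c := mem_centralizer_iff.1 hc w (B.le_others hki hw)
  rw [mem_centralizer_iff]
  intro z hz
  obtain ⟨m, rfl⟩ := mem_zpowers_iff.1 hz
  exact (((hcw.map (MulAut.conj n).toMonoidHom).zpow_right m).eq).symm

include hS hfacts hdelta in
theorem blockCentral_core_le {l : B.ι} {w : G} (hw : w ∈ B.V l) :
    Cfsg.centralizerPPrimeCore 2 w ≤ normalizer (B.prodCore : Set G) := by
  rw [CfsgLib.Components.centralizerPPrimeCore_eq_zpowers]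
  intro y hy
  have hR : ∀ j, j ≠ l → zpowers w ≤ B.others j := fun j hj =>
    zpowers_le.2 (B.le_others (Ne.symm hj) hw)
  refine mem_normalizer_of_map_le ?_
  rw [Blocks.prodCore, Subgroup.map_iSup]
  refine iSup_mono fun j => ?_
  by_cases hjl : j = l
  · subst hjl
    have hyC : y ∈ B.cent j := by
      refine le_centralizer_iff.1 (iSup_le fun m => ?_ : B.others j ≤ centralizer (zpowers y : Set G))
        (mem_zpowers y)
      exact le_centralizer_iff.1 (zpowers_le.2
        (core_le_centralizer hS B hfacts hdelta (hR m m.2) hy))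
    rintro _ ⟨k, hk, rfl⟩
    exact (mem_normalizer_iff.1 (normalizer_le_normalizer_resid _ (le_normalizer hyC)) k).1 hk
  · rintro _ ⟨k, hk, rfl⟩
    have hc : y * k = k * y := mem_centralizer_iff.1
      (blockCore_le_centralizer hS B hfacts hdelta (hR j hjl) hk) y hy
    show y * k * y⁻¹ ∈ B.core j
    rwa [hc, mul_inv_cancel_right]

include hS in
/-- A component of `C(u)/O(C(u))` over the block `i` is covered by `K i`. -/
theorem component_le_img {u : G} (hu : u ∈ (S : Subgroup G)) {L : Subgroup (CenBar u)}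
    (hL : Cfsg.IsComponent L) {i : B.ι}
    (hcent : ∀ k, k ≠ i → img u (B.V k) ≤ centralizer (L : Set (CenBar u))) :
    L ≤ img u (B.core i) := by
  have hSu : (S : Subgroup G) ≤ cen u := le_cen hS hu
  set T := (B.others i).subgroupOf (cen u) with hT
  have hT2 : IsPGroup 2 T := fun t => ⟨1, Subtype.ext (Subtype.ext (by
    simpa using hS.2 _ (B.others_le i (mem_subgroupOf.1 t.2))))⟩
  have hrange : L ≤ (centralizer (T : Set ↥(cen u))).map (bar u) :=
    FTCons.GoldFunctor.le_range_of_fixed hT2 (B.img_others_le hSu hcent)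
  set Z := L.comap (bar u) ⊓ centralizer (T : Set ↥(cen u)) with hZ
  obtain ⟨P, hPZ, hP, -, n, hn⟩ := CfsgLib.InvChar.exists_perfect_core Z
  have hder : ∀ k, L ≤ ((derivedSeries Z k).map Z.subtype).map (bar u) := by
    intro k
    induction k with
    | zero =>
      intro y hy
      obtain ⟨z, hz, rfl⟩ := hrange hy
      exact ⟨z, ⟨⟨z, hy, hz⟩, mem_top _, rfl⟩, rfl⟩
    | succ k ih =>
      rw [derivedSeries_succ, map_commutator, map_commutator]
      exact (CfsgLib.Components.component_commutator_self hL).ge.trans (commutator_mono ih ih)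
  refine ((hder n).trans (map_mono hn)).trans (map_mono fun p hp => mem_subgroupOf.2 ?_)
  have hle : P.map (cen u).subtype ≤ B.core i := by
    refine le_resid ?_ (by rw [← map_commutator, hP])
    rintro _ ⟨q, hq, rfl⟩
    refine mem_centralizer_iff.2 fun t ht => ?_
    have h := mem_centralizer_iff.1 (hPZ hq).2 (⟨t, hSu (B.others_le i ht)⟩ : ↥(cen u))
      (mem_subgroupOf.2 ht)
    exact congrArg Subtype.val h
  exact hle ⟨p, hp, rfl⟩

include hS hfacts in
/-- `C(u)` lies in every subgroup containing `O(C(u))`, `N(S)` and the product of the cores. -/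
theorem cen_le_of_core {u : G} (hu : u ∈ (S : Subgroup G)) (hu1 : u ≠ 1) {M : Subgroup G}
    (hcore : Cfsg.centralizerPPrimeCore 2 u ≤ M)
    (hN : normalizer ((S : Subgroup G) : Set G) ≤ M) (hP : B.prodCore ≤ M) : cen u ≤ M := by
  have hSu : (S : Subgroup G) ≤ cen u := le_cen hS hu
  set Mu := M.subgroupOf (cen u) with hMu
  have hker : Cfsg.pPrimeCore 2 ↥(cen u) ≤ Mu := fun x hx =>
    mem_subgroupOf.2 (hcore ⟨x, hx, rfl⟩)
  have hO : (Nat.card (Cfsg.pPrimeCore 2 ↥(cen u))).Coprime 2 := CfsgLib.PCore.pPrimeCore_coprime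
  have hp : IsPGroup 2 ((S : Subgroup G).subgroupOf (cen u)) :=
    S.isPGroup'.comap_of_injective (cen u).subtype (cen u).subtype_injective
  have htop : Mu.map (bar u) = ⊤ := by
    rw [eq_top_iff, ← (hfacts u hu hu1).generated]
    refine sup_le (sSup_le fun L hL => ?_) ?_
    · obtain ⟨i, -, hcent⟩ := B.component u hu hu1 L hL
      exact (component_le_img hS B hu hL hcent).trans
        (map_mono (comap_mono ((le_iSup B.core i).trans hP)))
    · rw [show img u (S : Subgroup G) = ((S : Subgroup G).subgroupOf (cen u)).map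
        (QuotientGroup.mk' (Cfsg.pPrimeCore 2 ↥(cen u))) from rfl,
        ← CfsgLib.Components.map_normalizer_quotient hO hp]
      refine map_mono fun x hx => mem_subgroupOf.2 (hN (mem_normalizer_of_map_le ?_))
      rintro _ ⟨s, hs, rfl⟩
      exact (mem_normalizer_iff.1 hx ⟨s, hSu hs⟩).1 (mem_subgroupOf.2 hs)
  have hMtop : Mu = ⊤ := by
    have h := Subgroup.comap_map_eq (bar u) Mu
    rw [htop, comap_top, QuotientGroup.ker_mk', sup_eq_left.2 hker] at h
    exact h.symm
  exact subgroupOf_eq_top.1 hMtop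

include hS hfacts hdelta in
/-- The normaliser of the product of the cores contains all centralisers. -/
theorem cen_le_normalizer {u : G} (hu : u ∈ (S : Subgroup G)) (hu1 : u ≠ 1) :
    cen u ≤ normalizer (B.prodCore : Set G) := by
  have hN := normalizer_sylow_le hS B
  have hone : ∀ l, ∀ w ∈ B.V l, w ≠ 1 → cen w ≤ normalizer (B.prodCore : Set G) := fun l w hw hw1 =>
    cen_le_of_core hS B hfacts (B.block_le l hw) hw1 (blockCentral_core_le hS B hfacts hdelta hw)
      hN le_normalizer
  refine cen_le_of_core hS B hfacts hu hu1 ?_ hN le_normalizer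
  haveI := B.finite
  obtain ⟨l⟩ : Nonempty B.ι :=
    (Nat.card_pos_iff.1 (lt_of_lt_of_le (by norm_num) B.three_le)).1
  refine CfsgLib.Tech46.le_of_centralizers_corank_one (elementary_le hS (B.block_le l)) _ _
    (fun h => ?_) (((B.block_le l).trans (le_cen hS hu)).trans
      (CfsgLib.Tech46.le_normalizer_centralizerPPrimeCore u)) fun B' hB' hcard => ?_
  · exact Nat.Prime.not_coprime_iff_dvd.2 ⟨2, Nat.prime_two, h, dvd_refl 2⟩
      (CfsgLib.Tech46.centralizerPPrimeCore_coprime u)
  · obtain ⟨w, hw, hw1⟩ := (B'.bot_or_exists_ne_one).resolve_left fun h => by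
      have := B.four_le l
      rw [h, card_bot] at hcard
      omega
    exact inf_le_right.trans ((centralizer_le (Set.singleton_subset_iff.2 hw)).trans
      (hone l w (hB' hw) hw1))

include hS B hfacts hdelta in
/-- The proper subgroup containing the centralisers of the involutions of `S`. -/
theorem exists_proper [IsSimpleGroup G] (hG : ¬ IsMulCommutative G) :
    ∃ M : Subgroup G, M ≠ ⊤ ∧ normalizer ((S : Subgroup G) : Set G) ≤ M ∧
      ∀ u ∈ (S : Subgroup G), u ≠ 1 → cen u ≤ M := by
  refine ⟨normalizer (B.prodCore : Set G), ?_, normalizer_sylow_le hS B,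
    fun u hu hu1 => cen_le_normalizer hS B hfacts hdelta hu hu1⟩
  haveI := B.finite
  obtain ⟨i⟩ : Nonempty B.ι :=
    (Nat.card_pos_iff.1 (lt_of_lt_of_le (by norm_num) B.three_le)).1
  obtain ⟨l, hli, -⟩ := B.exists_third i i
  obtain ⟨r, hr, hr1⟩ := B.exists_ne_one l
  have hri : r ∈ B.others i := B.le_others hli hr
  have hKne : B.core i ≠ ⊥ := by
    obtain ⟨L, hL, hLV⟩ := B.exists_component i r hri hr1
    obtain ⟨m, hm, hcent⟩ := B.component r (B.others_le i hri) hr1 L hL
    have hVne : B.V i ≠ ⊥ := fun hb => by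
      have := B.four_le i
      rw [hb, card_bot] at this
      omega
    obtain rfl := B.eq_of_le hVne le_rfl (hLV.ge.trans hm)
    intro hK
    have h := component_le_img hS B (B.others_le i hri) hL hcent
    rw [hK, img, bot_subgroupOf, Subgroup.map_bot, le_bot_iff] at h
    exact CfsgLib.Components.component_ne_bot hL h
  intro htop
  rcases (normalizer_eq_top_iff.1 htop).eq_bot_or_eq_top with hb | ht
  · exact hKne (le_bot_iff.1 ((le_iSup B.core i).trans hb.le))
  have hnorm : (⊤ : Subgroup G) ≤ normalizer (B.core i : Set G) := by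
    rw [← ht, Blocks.prodCore]
    refine iSup_le fun j => ?_
    by_cases hji : j = i
    · rw [hji]
      exact le_normalizer
    · exact (CfsgLib.Components.le_centralizer_of_commutator_eq_bot
        (blockCore_commute hS B hfacts hdelta hji)).trans (centralizer_le_normalizer _)
  rcases (normalizer_eq_top_iff.1 (top_le_iff.1 hnorm)).eq_bot_or_eq_top with hb | hKtop
  · exact hKne hb
  have hcent : B.cent i = ⊤ := top_le_iff.1 (hKtop ▸ resid_le _)
  have hrc : r ∈ center G := mem_center_iff.2 fun g =>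
    (mem_centralizer_iff.1 (hcent ▸ mem_top g : g ∈ B.cent i) r hri).symm
  rcases (inferInstance : (center G).Normal).eq_bot_or_eq_top with hb | hc
  · rw [hb, mem_bot] at hrc
    exact hr1 hrc
  · exact hG ⟨⟨fun a b => (mem_center_iff.1 (hc ▸ mem_top b : b ∈ center G) a)⟩⟩

include hS B hfacts hdelta in
/-- No group with trivial signalizer has a non-solvable involution centraliser. -/
theorem false_of_delta [IsSimpleGroup G] (hG : ¬ IsMulCommutative G)
    (hns : ∃ u ∈ (S : Subgroup G), u ≠ 1 ∧ ¬ Group.IsSolvable ↥(cen u)) : False := by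
  obtain ⟨M, hM, hN, hC⟩ := exists_proper hS B hfacts hdelta hG
  have h64 := B.sixtyfour_le
  have h2 : 2 ∣ Nat.card G := by
    refine dvd_trans ?_ (Subgroup.card_subgroup_dvd_card (S : Subgroup G))
    obtain ⟨k, hk⟩ := IsPGroup.iff_card.1 S.2
    rw [hk] at h64 ⊢
    rcases k with _ | k
    · norm_num at h64
    · exact dvd_pow_self 2 k.succ_ne_zero
  have hemb := isStronglyPEmbedded_of_cen S hS h2 hM hN hC
  have hrank : Cfsg.PRankAtLeast 2 2 G :=
    ⟨(S : Subgroup G), hS.1, hS.2, by norm_num; omega⟩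
  have hsol : Group.IsSolvable ↥M := Cfsg.Agent.S2903.result hrank M hemb
  obtain ⟨u, hu, hu1, hnu⟩ := hns
  exact hnu (Group.isSolvable_of_isSolvable_injective (f := inclusion (hC u hu hu1))
    (inclusion_injective _))

end

/-- Three or more blocks are impossible: some involution centraliser would be solvable and not solvable. -/
theorem false_of_blocks [IsSimpleGroup G] (hG : ¬ IsMulCommutative G) (S : Sylow 2 G)
    (hel : ∀ x ∈ (S : Subgroup G), x ^ 2 = 1) (hab : IsMulCommutative (S : Subgroup G))
    (hgood : GoodAt (S : Subgroup G)) (B : Blocks (S : Subgroup G))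
    (hns : ∃ u ∈ (S : Subgroup G), u ≠ 1 ∧ ¬ Group.IsSolvable ↥(cen u)) : False := by
  have hS : Cfsg.IsElementaryAbelian 2 (S : Subgroup G) := ⟨hab, hel⟩
  have hloc : ∀ (H : Type u) [Group H] [Finite H], Cfsg.pPrimeCore 2 H = ⊥ → ∀ T : Sylow 2 H,
      (∀ s ∈ (T : Subgroup H), s ^ 2 = 1) → GoodComps H →
        Cfsg.layer H ⊔ normalizer ((T : Subgroup H) : Set H) = ⊤ ∧
          ∀ E : Subgroup H, E ≤ (T : Subgroup H) → 8 ≤ Nat.card E →
            Cfsg.signalizerDelta 2 E = ⊥ := by
    intro H _ _ hO T hT hgT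
    have hsf := splitFacts hO T (fun x hx y hy => comm_of_elementary hT hx hy) hgT
    exact ⟨layer_sup_normalizer hO hT hsf,
      fun E hE hE8 => local_delta_eq_bot hO hT hgT hsf hE hE8⟩
  have hcf : ∀ u ∈ (S : Subgroup G), u ≠ 1 → CenFacts (S : Subgroup G) u :=
    fun u hu hu1 => cenFacts_of_local hloc S hS hgood hu hu1
  refine false_of_delta hS B (fun u hu hu1 => endFacts_of_split (hcf u hu hu1) ?_)
    (fun E hE hE8 => delta_eq_bot S hel hab B hcf hns hE hE8) hG hns
  set T : Sylow 2 (CenBar u) := (S.subtype (le_cen hS hu)).mapSurjective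
    (QuotientGroup.mk'_surjective _ : Function.Surjective (bar u))
  have hT : (T : Subgroup (CenBar u)) = img u (S : Subgroup G) := Sylow.coe_mapSurjective _ _
  rw [← hT]
  refine splitFacts CfsgLib.PCore.pPrimeCore_quotient_pPrimeCore T (fun x hx y hy => ?_)
    (hgood u hu hu1)
  change x ∈ (T : Subgroup (CenBar u)) at hx
  change y ∈ (T : Subgroup (CenBar u)) at hy
  rw [hT] at hx hy
  obtain ⟨a, ha, rfl⟩ := hx
  obtain ⟨b, hb, rfl⟩ := hy
  rw [← map_mul, ← map_mul]
  exact congrArg _ (Subtype.ext (commute_of_mem hS ha hb))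

end CfsgLib.Walter.RankFour
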