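import Mathlib
import Cfsg.Prelude.Def_Local

/-!
# Walter's theorem, rank at least four: interfaces

`Good` collects what the rank `≥ 4` argument uses about a component, `BigCommutator` is the linear lemma
that bounds the Sylow 2-subgroup of a component by half of the rank.
See `coord/notes/Walter_rank4_helper17.md`.
-/

set_option autoImplicit false

namespace CfsgLib.Walter.RankFour

open Subgroup

universe u

/-- What is used about a non-abelian simple group `X` with abelian Sylow 2-subgroup that occurs as a
component of the reduced centralizer of an involution. -/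
structure Good (X : Type u) [Group X] : Prop where
  /-- The Sylow 2-subgroups are elementary. -/
  elementary : ∀ T : Sylow 2 X, ∀ x ∈ (T : Subgroup X), x ^ 2 = 1
  /-- Some element of the normaliser of a Sylow 2-subgroup `T` permutes the involutions of `T` transitively,
  and `|T| ≥ 4`. -/
  exists_cycle : ∀ T : Sylow 2 X, 4 ≤ Nat.card ↥(T : Subgroup X) ∧
    ∃ g ∈ normalizer ((T : Subgroup X) : Set X), ∀ x ∈ (T : Subgroup X), x ≠ 1 →
      ∀ y ∈ (T : Subgroup X), y ≠ 1 → ∃ i : ℕ, g ^ i * x * (g ^ i)⁻¹ = y
  /-- Involution centralizers are core-free in rank at least three. -/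
  coreFree : ∀ T : Sylow 2 X, 8 ≤ Nat.card ↥(T : Subgroup X) → ∀ d ∈ (T : Subgroup X), d ≠ 1 →
    Cfsg.centralizerPPrimeCore 2 d = ⊥
  /-- An automorphism of odd order centralising the centralizers of three independent commuting involutions
  is trivial. -/
  rigid : ∀ T : Sylow 2 X, ∀ D : Subgroup X, D ≤ (T : Subgroup X) → 8 ≤ Nat.card D →
    ∀ φ : MulAut X, Odd (orderOf φ) → (∀ d ∈ D, d ≠ 1 → ∀ x : X, x * d = d * x → φ x = x) → φ = 1

/-- An irreducible group of odd order on an elementary abelian 2-group `V` of order at least 16 has no element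
of order `|T| - 1` (`|T| ≥ 4`) fixing a non-trivial subgroup `U` pointwise and leaving a complement `T` of order
at least `|U|` invariant. -/
def BigCommutator : Prop :=
  ∀ (V : Type u) [CommGroup V] [Finite V], (∀ v : V, v ^ 2 = 1) → 16 ≤ Nat.card V →
    ∀ A : Subgroup (MulAut V), Odd (Nat.card A) →
      (∀ W : Subgroup V, (∀ f ∈ A, ∀ w ∈ W, f w ∈ W) → W = ⊥ ∨ W = ⊤) →
      ∀ g ∈ A, ∀ U T : Subgroup V, (∀ v : V, v ∈ U ↔ g v = v) → (∀ v ∈ T, g v ∈ T) → IsCompl U T →
        4 ≤ Nat.card T → orderOf g = Nat.card T - 1 → U ≠ ⊥ → Nat.card U ≤ Nat.card T → False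

end CfsgLib.Walter.RankFour
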