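import Mathlib.GroupTheory.Transfer
import Cfsg.Agent.Lib.Walter.RankFour.Defs
import Cfsg.Agent.Lib.Coprime.Action

/-!
# Walter, rank at least four: general facts used for `Good`

Fixed points of the normaliser of an abelian Sylow 2-subgroup of a simple group, the cycle on an
elementary Sylow 2-subgroup of order 4 or 8, and two rigidity criteria.
-/

set_option autoImplicit false
set_option linter.unusedSectionVars false
set_option linter.style.haveILetI false

namespace CfsgLib.Walter.RankFour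

open Subgroup MulAction

universe u

variable {X : Type u} [Group X] [Finite X]

/-- The normaliser of an abelian Sylow 2-subgroup of a non-abelian simple group fixes nothing in it. -/
theorem eq_one_of_fixed [IsSimpleGroup X] (hX : ¬ IsMulCommutative X) (S : Sylow 2 X)
    (hab : ∀ x ∈ (S : Subgroup X), ∀ y ∈ (S : Subgroup X), x * y = y * x) {d : X}
    (hd : d ∈ (S : Subgroup X))
    (hfix : ∀ n ∈ normalizer ((S : Subgroup X) : Set X), n * d = d * n) : d = 1 := by
  haveI : Fact (Nat.Prime 2) := ⟨Nat.prime_two⟩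
  letI : CommGroup ↥(S : Subgroup X) :=
    { (inferInstance : Group ↥(S : Subgroup X)) with
      mul_comm := fun a b => Subtype.ext (hab _ a.2 _ b.2) }
  haveI : IsMulCommutative ↥(S : Subgroup X) := ⟨⟨fun a b => mul_comm a b⟩⟩
  have key : ∀ (k : ℕ) (g₀ : X), g₀⁻¹ * d ^ k * g₀ ∈ (S : Subgroup X) →
      g₀⁻¹ * d ^ k * g₀ = d ^ k := by
    intro k g₀ h
    obtain ⟨n, hn, hn'⟩ := S.conj_eq_normalizer_conj_of_mem (d ^ k) g₀ (pow_mem hd k) h
    rw [hn', mul_assoc, ← ((show Commute n d from hfix n hn).pow_right k).eq, inv_mul_cancel_left]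
  let τ : X →* ↥(S : Subgroup X) := MonoidHom.transfer (MonoidHom.id ↥(S : Subgroup X))
  have hτ : τ d = 1 := by
    rcases (MonoidHom.normal_ker τ).eq_bot_or_eq_top with h | h
    · refine absurd ⟨⟨fun a b => ?_⟩⟩ hX
      exact (MonoidHom.ker_eq_bot_iff τ).1 h (by rw [map_mul, map_mul, mul_comm])
    · exact MonoidHom.mem_ker.1 (h ▸ Subgroup.mem_top d)
  have h1 : d ^ (S : Subgroup X).index = 1 := by
    have h2 := congrArg (fun z : ↥(S : Subgroup X) => (z : X))
      ((MonoidHom.transfer_eq_pow (MonoidHom.id ↥(S : Subgroup X)) d key).symm.trans hτ)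
    simpa using h2
  obtain ⟨k, hk⟩ := S.isPGroup' ⟨d, hd⟩
  have h3 : d ^ 2 ^ k = 1 := by simpa using congrArg (fun z : ↥(S : Subgroup X) => (z : X)) hk
  have h4 : Nat.Coprime (2 ^ k) (S : Subgroup X).index :=
    Nat.Coprime.pow_left _ ((Nat.Prime.coprime_iff_not_dvd Nat.prime_two).2 S.not_dvd_index)
  exact orderOf_eq_one_iff.1 (Nat.eq_one_of_dvd_coprimes h4 (orderOf_dvd_of_pow_eq_one h3)
    (orderOf_dvd_of_pow_eq_one h1))

omit [Finite X] in
/-- A cyclic group acting semiregularly on the non-trivial elements with `|T| - 1` as order is transitive. -/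
theorem trans_of_free {T : Subgroup X} [Finite T] {g : X} (hg : g ∈ normalizer (T : Set X))
    (hfree : ∀ x ∈ T, x ≠ 1 → ∀ i : ℕ, g ^ i * x * (g ^ i)⁻¹ = x → Nat.card T - 1 ∣ i) :
    ∀ x ∈ T, x ≠ 1 → ∀ y ∈ T, y ≠ 1 → ∃ i : ℕ, g ^ i * x * (g ^ i)⁻¹ = y := by
  classical
  intro x hx hx1 y hy hy1
  have hmem : ∀ i : ℕ, g ^ i * x * (g ^ i)⁻¹ ∈ T := fun i =>
    (mem_set_normalizer_iff.1 (pow_mem hg i) x).1 hx
  let e : Fin (Nat.card T - 1) → {z : ↥T // z ≠ 1} := fun i =>
    ⟨⟨_, hmem i⟩, fun h => hx1 (by simpa using congrArg (fun z : ↥T => (z : X)) h)⟩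
  have key : ∀ i j : ℕ, i ≤ j → g ^ i * x * (g ^ i)⁻¹ = g ^ j * x * (g ^ j)⁻¹ →
      Nat.card T - 1 ∣ j - i := by
    intro i j hij h
    refine hfree x hx hx1 (j - i) ?_
    have hg' : g ^ j = g ^ i * g ^ (j - i) := by rw [← pow_add, Nat.add_sub_cancel' hij]
    rw [hg', mul_inv_rev] at h
    calc g ^ (j - i) * x * (g ^ (j - i))⁻¹
        = (g ^ i)⁻¹ * (g ^ i * g ^ (j - i) * x * ((g ^ (j - i))⁻¹ * (g ^ i)⁻¹)) * g ^ i := by group
      _ = x := by rw [← h]; group
  have he : Function.Injective e := by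
    intro i j h
    have h' := congrArg (fun z : {z : ↥T // z ≠ 1} => ((z : ↥T) : X)) h
    have h1 := i.2
    have h2 := j.2
    refine Fin.ext ?_
    rcases le_total (i : ℕ) j with hij | hij
    · have h3 := Nat.eq_zero_of_dvd_of_lt (key i j hij h') (by omega)
      omega
    · have h3 := Nat.eq_zero_of_dvd_of_lt (key j i hij h'.symm) (by omega)
      omega
  have hc : Nat.card {z : ↥T // z ≠ 1} ≤ Nat.card (Fin (Nat.card T - 1)) := by
    have h1 : Nat.card {z : ↥T // z ≠ 1} < Nat.card T :=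
      Finite.card_subtype_lt (p := fun z : ↥T => z ≠ 1) (x := 1) (by simp)
    rw [Nat.card_fin]
    omega
  obtain ⟨i, hi⟩ := (he.bijective_of_nat_card_le hc).2 ⟨⟨y, hy⟩, fun h => hy1 (congrArg Subtype.val h)⟩
  exact ⟨i, congrArg (fun z : {z : ↥T // z ≠ 1} => ((z : ↥T) : X)) hi⟩

/-- An element of the normaliser acting on an elementary Sylow 2-subgroup of order 4 or 8 with order 3 or 7. -/
theorem exists_cycle_small [IsSimpleGroup X] (hX : ¬ IsMulCommutative X) (S : Sylow 2 X)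
    (hel : ∀ x ∈ (S : Subgroup X), x ^ 2 = 1)
    (hcard : Nat.card ↥(S : Subgroup X) = 4 ∨ Nat.card ↥(S : Subgroup X) = 8) :
    ∃ g ∈ normalizer ((S : Subgroup X) : Set X), ∀ x ∈ (S : Subgroup X), x ≠ 1 →
      ∀ y ∈ (S : Subgroup X), y ≠ 1 → ∃ i : ℕ, g ^ i * x * (g ^ i)⁻¹ = y := by
  classical
  haveI : Fact (Nat.Prime 2) := ⟨Nat.prime_two⟩
  have hab : ∀ x ∈ (S : Subgroup X), ∀ y ∈ (S : Subgroup X), x * y = y * x := by
    intro x hx y hy
    have h := hel _ (mul_mem hx hy)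
    have hx' := hel _ hx
    have hy' := hel _ hy
    simp only [pow_two] at h hx' hy'
    rw [← inv_eq_of_mul_eq_one_right h, mul_inv_rev, inv_eq_of_mul_eq_one_right hx',
      inv_eq_of_mul_eq_one_right hy']
  let T : Subgroup X := S
  let ρ : ↥(normalizer (T : Set X)) →* MulAut ↥T := T.normalizerMonoidHom
  have hρ : ∀ (n : ↥(normalizer (T : Set X))) (x : ↥T), ((ρ n) x : X) = n * x * (n : X)⁻¹ :=
    fun _ _ => rfl
  let A : Subgroup (MulAut ↥T) := ρ.range
  have hAodd : ¬ 2 ∣ Nat.card A := by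
    have hle : T.subgroupOf (normalizer (T : Set X)) ≤ ρ.ker := fun n hn => by
      rw [MonoidHom.mem_ker]
      ext x
      rw [hρ, hab _ (mem_subgroupOf.1 hn) _ x.2, mul_inv_cancel_right]
      rfl
    intro h
    rw [← Nat.card_congr (QuotientGroup.quotientKerEquivRange ρ).toEquiv, ← Subgroup.index] at h
    refine S.not_dvd_index (h.trans ((Subgroup.index_dvd_of_le hle).trans ?_))
    exact Subgroup.relIndex_dvd_index_of_le Subgroup.le_normalizer
  have hfix : ∀ x : ↥T, (∀ f ∈ A, f x = x) → x = 1 := fun x hx => by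
    refine Subtype.ext (eq_one_of_fixed hX S hab x.2 fun n hn => ?_)
    have h := congrArg (fun z : ↥T => (z : X)) (hx (ρ ⟨n, hn⟩) ⟨_, rfl⟩)
    simp only [hρ] at h
    exact mul_inv_eq_iff_eq_mul.1 h
  set r := Nat.card ↥T - 1 with hr
  have hrp : r.Prime := by
    rcases hcard with h | h <;> simp only [hr, T, h] <;> norm_num
  have hbig : 1 < Nat.card ↥T := by rcases hcard with h | h <;> simp only [T, h] <;> norm_num
  have hne : A ≠ ⊥ := fun h => by
    haveI : Nontrivial ↥T := Finite.one_lt_card_iff_nontrivial.1 hbig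
    obtain ⟨x, hx⟩ := exists_ne (1 : ↥T)
    exact hx (hfix x fun f hf => by rw [h, Subgroup.mem_bot] at hf; rw [hf]; rfl)
  -- prime divisors of `|A|`
  have hprimes : ∀ l : ℕ, l.Prime → l ∣ Nat.card A → l = 3 ∨ l = r := by
    intro l hl hlA
    haveI : Fact l.Prime := ⟨hl⟩
    obtain ⟨f, hf⟩ := exists_prime_orderOf_dvd_card' (G := ↥A) l hlA
    have hP : IsPGroup l ↥(zpowers (f : MulAut ↥T)) :=
      IsPGroup.of_card (n := 1) (by rw [Nat.card_zpowers, Subgroup.orderOf_coe, hf, pow_one])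
    have hmod := hP.card_modEq_card_fixedPoints ↥T
    let E : Subgroup ↥T := MonoidHom.eqLocus (f : MulAut ↥T).toMonoidHom (MonoidHom.id ↥T)
    have hE : fixedPoints ↥(zpowers (f : MulAut ↥T)) ↥T = (E : Set ↥T) := by
      ext x
      refine ⟨fun h => h ⟨_, mem_zpowers _⟩, fun h => ?_⟩
      have hs : zpowers (f : MulAut ↥T) ≤ MulAction.stabilizer (MulAut ↥T) x :=
        zpowers_le.2 h
      exact fun g => hs g.2
    rw [hE] at hmod
    have hEd := E.card_subgroup_dvd_card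
    have hEne : E ≠ ⊤ := fun h => by
      have h1 : (f : MulAut ↥T) = 1 := MulEquiv.ext fun x => (h ▸ Subgroup.mem_top x : x ∈ E)
      rw [← orderOf_eq_one_iff, Subgroup.orderOf_coe, hf] at h1
      exact hl.ne_one h1
    have hElt : Nat.card E < Nat.card ↥T :=
      lt_of_le_of_ne (Nat.le_of_dvd Nat.card_pos hEd) fun h => hEne (E.eq_top_of_card_eq h)
    have hl2 : l ≠ 2 := fun h => hAodd (h ▸ hlA)
    have hmod' : Nat.card ↥T ≡ Nat.card ↥E [MOD l] := hmod
    have hdiv : l ∣ Nat.card ↥T - Nat.card ↥E :=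
      (Nat.modEq_iff_dvd' hElt.le).1 hmod'.symm
    have hpos : 0 < Nat.card E := Nat.card_pos
    obtain ⟨c, hcE⟩ : ∃ c, Nat.card ↥E = c := ⟨_, rfl⟩
    rw [hcE] at hdiv hEd hElt hpos
    rcases hcard with h | h <;> simp only [T, h] at hdiv hEd hElt hr
    · have hc : c = 1 ∨ c = 2 := by
        interval_cases c <;> norm_num at hEd <;> norm_num
      rcases hc with rfl | rfl
      · exact Or.inl ((Nat.prime_dvd_prime_iff_eq hl Nat.prime_three).1 hdiv)
      · exact absurd ((Nat.prime_dvd_prime_iff_eq hl Nat.prime_two).1 hdiv) hl2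
    · have hc : c = 1 ∨ c = 2 ∨ c = 4 := by
        interval_cases c <;> norm_num at hEd <;> norm_num
      rcases hc with rfl | rfl | rfl
      · exact Or.inr (hr ▸ (Nat.prime_dvd_prime_iff_eq hl (by norm_num)).1 hdiv)
      · refine Or.inl ((Nat.prime_dvd_prime_iff_eq hl Nat.prime_three).1 ?_)
        exact (Nat.Coprime.dvd_of_dvd_mul_left ((Nat.coprime_primes hl Nat.prime_two).2 hl2)
          (show l ∣ 2 * 3 from hdiv))
      · refine absurd ((Nat.prime_dvd_prime_iff_eq hl Nat.prime_two).1 ?_) hl2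
        exact hl.dvd_of_dvd_pow (show l ∣ 2 ^ 2 from hdiv)
  have hrA : r ∣ Nat.card A := by
    by_contra hrA
    have hA1 : Nat.card A ≠ 1 := fun h => hne (Subgroup.eq_bot_of_card_eq A h)
    obtain ⟨l, hl, hlA⟩ := Nat.exists_prime_and_dvd hA1
    rcases hprimes l hl hlA with rfl | rfl
    swap
    · exact hrA hlA
    haveI : Fact (Nat.Prime 3) := ⟨Nat.prime_three⟩
    have hP : IsPGroup 3 ↥A := by
      refine IsPGroup.of_card (n := (Nat.card A).primeFactorsList.length)
        (Nat.eq_prime_pow_of_unique_prime_dvd Nat.card_pos.ne' fun {l} hl hlA => ?_)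
      rcases hprimes l hl hlA with h | h
      · exact h
      · exact absurd (h ▸ hlA) hrA
    have hmod := hP.card_modEq_card_fixedPoints ↥T
    have hfp : fixedPoints ↥A ↥T = {1} := by
      ext x
      exact ⟨fun h => hfix x fun f hf => h ⟨f, hf⟩, fun h => h ▸ fun f => map_one (f : MulAut ↥T)⟩
    rw [hfp] at hmod
    rcases hcard with h | h
    · simp only [hr, T, h] at hrA
      exact hrA hlA
    · simp only [T, h, Nat.card_coe_set_eq, Set.ncard_singleton] at hmod
      exact absurd hmod (by decide)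
  haveI : Fact r.Prime := ⟨hrp⟩
  obtain ⟨f, hf⟩ := exists_prime_orderOf_dvd_card' (G := ↥A) r hrA
  obtain ⟨n, hn⟩ := f.2
  have hfo : orderOf (ρ n) = r := by rw [hn, Subgroup.orderOf_coe, hf]
  refine ⟨n, n.2, trans_of_free n.2 fun x hx hx1 i hi => ?_⟩
  show r ∣ i
  by_contra hri
  set h := (ρ n) ^ i with hh
  have hho : orderOf h = r := by
    rw [hh, Nat.Coprime.orderOf_pow, hfo]
    rw [hfo]
    exact (hrp.coprime_iff_not_dvd).2 hri
  have hhx : h ⟨x, hx⟩ = ⟨x, hx⟩ := by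
    rw [hh, ← map_pow]
    refine Subtype.ext ?_
    rw [hρ, SubgroupClass.coe_pow]
    exact hi
  have hP : IsPGroup r ↥(zpowers h) := IsPGroup.of_card (n := 1) (by rw [Nat.card_zpowers, hho, pow_one])
  have hmod := hP.card_modEq_card_fixedPoints ↥T
  let E : Subgroup ↥T := MonoidHom.eqLocus h.toMonoidHom (MonoidHom.id ↥T)
  have hE : fixedPoints ↥(zpowers h) ↥T = (E : Set ↥T) := by
    ext y
    refine ⟨fun hy => hy ⟨_, mem_zpowers _⟩, fun hy => ?_⟩
    have hs : zpowers h ≤ MulAction.stabilizer (MulAut ↥T) y := zpowers_le.2 hy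
    exact fun g => hs g.2
  rw [hE] at hmod
  have hmod' : Nat.card ↥T ≡ Nat.card ↥E [MOD r] := hmod
  have hEne : E ≠ ⊤ := fun hE => by
    have h1 : h = 1 := MulEquiv.ext fun y => (hE ▸ Subgroup.mem_top y : y ∈ E)
    rw [h1, orderOf_one] at hho
    exact hrp.ne_one hho.symm
  have hlt : Nat.card E < Nat.card ↥T :=
    lt_of_le_of_ne (Nat.le_of_dvd Nat.card_pos E.card_subgroup_dvd_card)
      fun e => hEne (E.eq_top_of_card_eq e)
  have hdiv : r ∣ Nat.card ↥T - Nat.card ↥E := (Nat.modEq_iff_dvd' hlt.le).1 hmod'.symm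
  have hE2 : 2 ≤ Nat.card ↥E := by
    haveI : Nontrivial ↥E :=
      ⟨⟨⟨x, hx⟩, hhx⟩, 1, fun e => hx1 (congrArg (fun z : ↥E => ((z : ↥T) : X)) e)⟩
    exact Finite.one_lt_card
  have := Nat.le_of_dvd (by omega) hdiv
  omega

omit [Finite X] in
/-- The existence of a cycle is invariant under conjugation of the Sylow 2-subgroup. -/
theorem cycle_conj [Finite (Sylow 2 X)] (S T : Sylow 2 X)
    (h : ∃ g ∈ normalizer ((S : Subgroup X) : Set X), ∀ x ∈ (S : Subgroup X), x ≠ 1 →
      ∀ y ∈ (S : Subgroup X), y ≠ 1 → ∃ i : ℕ, g ^ i * x * (g ^ i)⁻¹ = y) :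
    ∃ g ∈ normalizer ((T : Subgroup X) : Set X), ∀ x ∈ (T : Subgroup X), x ≠ 1 →
      ∀ y ∈ (T : Subgroup X), y ≠ 1 → ∃ i : ℕ, g ^ i * x * (g ^ i)⁻¹ = y := by
  haveI : Fact (Nat.Prime 2) := ⟨Nat.prime_two⟩
  obtain ⟨g, hgN, hg⟩ := h
  obtain ⟨a, rfl⟩ := exists_smul_eq X S T
  have hmem : ∀ x, x ∈ ((a • S : Sylow 2 X) : Subgroup X) ↔ a⁻¹ * x * a ∈ (S : Subgroup X) := by
    intro x
    rw [Sylow.coe_subgroup_smul, mem_pointwise_smul_iff_inv_smul_mem]
    simp
  refine ⟨a * g * a⁻¹, ?_, fun x hx hx1 y hy hy1 => ?_⟩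
  · refine mem_set_normalizer_iff.2 fun x => ?_
    show x ∈ ((a • S : Sylow 2 X) : Subgroup X) ↔ _ ∈ ((a • S : Sylow 2 X) : Subgroup X)
    rw [hmem, hmem]
    rw [show a⁻¹ * (a * g * a⁻¹ * x * (a * g * a⁻¹)⁻¹) * a = g * (a⁻¹ * x * a) * g⁻¹ by group]
    exact mem_set_normalizer_iff.1 hgN _
  · obtain ⟨i, hi⟩ := hg _ ((hmem x).1 hx) (fun h => hx1 (by
      calc x = a * (a⁻¹ * x * a) * a⁻¹ := by group
        _ = 1 := by rw [h]; group)) _ ((hmem y).1 hy) (fun h => hy1 (by
      calc y = a * (a⁻¹ * y * a) * a⁻¹ := by group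
        _ = 1 := by rw [h]; group))
    refine ⟨i, ?_⟩
    rw [conj_pow]
    calc a * g ^ i * a⁻¹ * x * (a * g ^ i * a⁻¹)⁻¹
        = a * (g ^ i * (a⁻¹ * x * a) * (g ^ i)⁻¹) * a⁻¹ := by group
      _ = y := by rw [hi]; group

/-- Rigidity when involution centralisers are the Sylow 2-subgroups and there are few of these. -/
theorem rigid_of_centralizer_eq [IsSimpleGroup X] (T : Sylow 2 X) (hX : ¬ IsMulCommutative X)
    (hC : ∀ P : Sylow 2 X, ∀ d ∈ (P : Subgroup X), d ≠ 1 →
      centralizer ({d} : Set X) = (P : Subgroup X))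
    (hn : Nat.card (Sylow 2 X) ≤ Nat.card ↥(T : Subgroup X) + 1) {d : X}
    (hd : d ∈ (T : Subgroup X)) (hd1 : d ≠ 1)
    (φ : MulAut X) (hodd : Odd (orderOf φ)) (hφ : ∀ x : X, x * d = d * x → φ x = x) : φ = 1 := by
  classical
  haveI : Fact (Nat.Prime 2) := ⟨Nat.prime_two⟩
  have hfix : ∀ x ∈ (T : Subgroup X), φ x = x := fun x hx => hφ x (by
    rw [← hC T d hd hd1] at hx
    exact mem_centralizer_singleton_iff.1 hx)
  have hnotnormal : ¬ (T : Subgroup X).Normal := fun h => by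
    rcases h.eq_bot_or_eq_top with h | h
    · exact hd1 (Subgroup.mem_bot.1 (h ▸ hd))
    · have hp : IsPGroup 2 X := IsPGroup.of_equiv (h ▸ T.isPGroup') Subgroup.topEquiv
      have hc : Subgroup.center X ≠ ⊥ := by
        haveI : Nontrivial X := ⟨d, 1, hd1⟩
        exact (Subgroup.nontrivial_iff_ne_bot _).1 hp.center_nontrivial
      rcases (inferInstance : (Subgroup.center X).Normal).eq_bot_or_eq_top with h' | h'
      · exact hc h'
      · exact hX ⟨⟨fun a b => Subgroup.mem_center_iff.1 (h' ▸ Subgroup.mem_top b) a⟩⟩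
  obtain ⟨P₀, hP₀⟩ : ∃ P : Sylow 2 X, P ≠ T := by
    by_contra h
    push Not at h
    haveI : Subsingleton (Sylow 2 X) := ⟨fun a b => (h a).trans (h b).symm⟩
    exact hnotnormal T.normal_of_subsingleton
  -- the action of `T` on the other Sylow subgroups is free
  have hfree : ∀ t ∈ (T : Subgroup X), ∀ P : Sylow 2 X, P ≠ T → t • P = P → t = 1 := by
    intro t ht P hP h
    by_contra ht1
    have htN : t ∈ normalizer ((P : Subgroup X) : Set X) := Sylow.smul_eq_iff_mem_normalizer.1 h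
    have htP : t ∈ (P : Subgroup X) := by
      have hz : IsPGroup 2 ↥(zpowers t) :=
        T.isPGroup'.to_le (zpowers_le.2 ht)
      have hle : zpowers t ⊓ normalizer ((P : Subgroup X) : Set X) ≤ zpowers t ⊓ (P : Subgroup X) :=
        (hz.inf_normalizer_sylow P).le
      exact (hle ⟨mem_zpowers t, htN⟩).2
    exact hP (Sylow.ext ((hC P t htP ht1).symm.trans (hC T t ht ht1)))
  have hne : ∀ t ∈ (T : Subgroup X), t • P₀ ≠ T := by
    intro t ht h
    apply hP₀
    rw [← inv_smul_smul t P₀, h]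
    exact Sylow.smul_eq_iff_mem_normalizer.2 (inv_mem (Subgroup.le_normalizer ht))
  let e : ↥(T : Subgroup X) → {P : Sylow 2 X // P ≠ T} := fun t => ⟨(t : X) • P₀, hne t t.2⟩
  have he : Function.Injective e := fun s t h => by
    have h' : (s : X) • P₀ = (t : X) • P₀ := congrArg Subtype.val h
    have := hfree _ (mul_mem (inv_mem t.2) s.2) P₀ hP₀ (by rw [mul_smul, h', inv_smul_smul])
    exact Subtype.ext (inv_mul_eq_one.1 this).symm
  have hcard : Nat.card {P : Sylow 2 X // P ≠ T} ≤ Nat.card ↥(T : Subgroup X) := by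
    have h1 : Nat.card {P : Sylow 2 X // P ≠ T} < Nat.card (Sylow 2 X) :=
      Finite.card_subtype_lt (p := fun P : Sylow 2 X => P ≠ T) (x := T) (by simp)
    omega
  have hsurj : Function.Surjective e := (he.bijective_of_nat_card_le hcard).2
  -- the automorphism permutes them
  have hsm : ∀ (ψ : MulAut X) (x : X) (P : Sylow 2 X), ψ • (x • P) = ψ x • (ψ • P) := by
    intro ψ x P
    rw [Sylow.smul_def, Sylow.smul_def, smul_smul, smul_smul]
    congr 1
    ext y
    simp
  have hφT : φ • T = T := by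
    refine Sylow.ext (le_antisymm ?_ fun x hx => ?_)
    · rintro _ ⟨x, hx, rfl⟩
      show φ x ∈ (T : Subgroup X)
      rw [hfix x hx]
      exact hx
    · exact ⟨x, hx, by simpa using hfix x hx⟩
  have hφne : φ • P₀ ≠ T := fun h => hP₀ (smul_left_cancel φ (h.trans hφT.symm))
  obtain ⟨⟨t₀, ht₀⟩, he₀⟩ := hsurj ⟨φ • P₀, hφne⟩
  have h₀ : φ • P₀ = t₀ • P₀ := (congrArg Subtype.val he₀).symm
  have hpow : ∀ k : ℕ, (φ ^ k) • P₀ = (t₀ ^ k) • P₀ := by
    intro k
    induction k with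
    | zero => simp
    | succ k ih =>
        rw [pow_succ', mul_smul, ih, hsm, hfix _ (pow_mem ht₀ k), h₀, ← mul_smul, ← pow_succ]
  have ht0 : t₀ = 1 := by
    have h1 : (t₀ ^ orderOf φ) • P₀ = P₀ := by rw [← hpow, pow_orderOf_eq_one, one_smul]
    have h2 := hfree _ (pow_mem ht₀ _) P₀ hP₀ h1
    obtain ⟨k, hk⟩ := T.isPGroup' ⟨t₀, ht₀⟩
    have h3 : t₀ ^ 2 ^ k = 1 := by simpa using congrArg (fun z : ↥(T : Subgroup X) => (z : X)) hk
    exact orderOf_eq_one_iff.1 (Nat.eq_one_of_dvd_coprimes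
      (Nat.Coprime.pow_left _ (Nat.coprime_two_left.2 hodd))
      (orderOf_dvd_of_pow_eq_one h3) (orderOf_dvd_of_pow_eq_one h2))
  have hall : ∀ P : Sylow 2 X, φ • P = P := by
    intro P
    by_cases hP : P = T
    · rw [hP, hφT]
    obtain ⟨⟨s, hs⟩, hse⟩ := hsurj ⟨P, hP⟩
    have hP' : s • P₀ = P := congrArg Subtype.val hse
    rw [← hP', hsm, hfix s hs, h₀, ht0, one_smul]
  -- hence acts like the identity
  have hker : (MulAction.toPermHom X (Sylow 2 X)).ker = ⊥ := by
    refine ((MonoidHom.normal_ker _).eq_bot_or_eq_top).resolve_right fun h => hP₀ ?_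
    obtain ⟨x, hx⟩ := exists_smul_eq X P₀ T
    have h1 : x ∈ (MulAction.toPermHom X (Sylow 2 X)).ker := h ▸ Subgroup.mem_top x
    rw [MonoidHom.mem_ker, Equiv.ext_iff] at h1
    rw [← hx]
    exact (h1 P₀).symm
  refine MulEquiv.ext fun x => ?_
  refine (MonoidHom.ker_eq_bot_iff _).1 hker (Equiv.ext fun P => ?_)
  show φ x • P = x • P
  calc φ x • P = φ x • (φ • P) := by rw [hall]
    _ = φ • (x • P) := (hsm φ x P).symm
    _ = x • P := hall _

end CfsgLib.Walter.RankFour
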