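import Cfsg.Agent.Lib.Walter.RankFour.GoodModel
import Cfsg.Agent.Lib.Walter.RankFour.GoodTools
import Cfsg.Agent.Lib.SylTwoAbel.Simple
import Cfsg.Agent.Lib.AutOrbits.Basic
import Cfsg.Agent.Lib.BenderQ.Bender
import Cfsg.Agent.Lib.BenderQ.Bridge

/-!
# Walter, rank at least four: the components are `Good`

Rank at most two, solvable involution centralisers (`PSL₂(2^a)`), and order eight with a non-solvable
involution centraliser.
-/

set_option autoImplicit false
set_option linter.unusedSectionVars false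
set_option linter.style.haveILetI false

namespace CfsgLib.Walter.RankFour

open Subgroup MulAction

universe u

variable {X : Type u} [Group X] [Finite X]

/-- All Sylow 2-subgroups have the order of a given one. -/
theorem card_sylow_eq (S T : Sylow 2 X) :
    Nat.card ↥(T : Subgroup X) = Nat.card ↥(S : Subgroup X) := by
  haveI : Fact (Nat.Prime 2) := ⟨Nat.prime_two⟩
  exact Nat.card_congr (T.equiv S).toEquiv

/-- All Sylow 2-subgroups are elementary if one is. -/
theorem sq_sylow (S : Sylow 2 X) (h : ∀ x ∈ (S : Subgroup X), x ^ 2 = 1) (T : Sylow 2 X) :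
    ∀ x ∈ (T : Subgroup X), x ^ 2 = 1 := by
  haveI : Fact (Nat.Prime 2) := ⟨Nat.prime_two⟩
  intro x hx
  have h1 := h _ ((T.equiv S) ⟨x, hx⟩).2
  have h2 : (⟨x, hx⟩ : ↥(T : Subgroup X)) ^ 2 = 1 := by
    apply (T.equiv S).injective
    rw [map_pow, map_one]
    exact Subtype.ext h1
  exact congrArg Subtype.val h2

/-- The Sylow 2-subgroups of a simple group of 2-rank two with abelian Sylow 2-subgroups are four-groups. -/
theorem card_four_of_rankLE [IsSimpleGroup X] (hX : ¬ IsMulCommutative X) (S : Sylow 2 X)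
    (hcomm : ∀ x ∈ (S : Subgroup X), ∀ y ∈ (S : Subgroup X), x * y = y * x)
    (h2 : Cfsg.PRankLE 2 2 ↥(S : Subgroup X)) :
    Nat.card ↥(S : Subgroup X) = 4 ∧ ∀ x ∈ (S : Subgroup X), x ^ 2 = 1 := by
  classical
  haveI : Fact (Nat.Prime 2) := ⟨Nat.prime_two⟩
  let F16 := GaloisField 2 4
  letI : Fintype F16 := Fintype.ofFinite _
  have hF16 : Fintype.card F16 = 16 := by
    rw [← Nat.card_eq_fintype_card, GaloisField.card 2 4 (by norm_num)]; norm_num
  have htypes := CfsgLib.RankTwoTypes.sylow_types_of_oddSolvable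
    (fun X i1 i2 hX => @CfsgLib.PF.oddSolvable.{u} X i1 i2 hX) hX
    (CfsgLib.SylTwoAbel.prankLE_of_sylow S h2) S hF16 (Classical.arbitrary (Sylow 2 (Cfsg.PSU 3 F16 4)))
  have hSab : ∀ a b : ↥(S : Subgroup X), a * b = b * a := fun a b => Subtype.ext (hcomm _ a.2 _ b.2)
  rcases htypes with ⟨n, hn, ⟨e⟩⟩ | ⟨n, hn, -, x, y, hx, hy, hxy⟩ |
    ⟨n, hn, -, x, y, z, hx, -, hdisj, -, hzx⟩ | ⟨⟨e⟩⟩
  · have hn2 : n = 2 := by
      have h := congrArg e (hSab (e.symm (DihedralGroup.sr 0)) (e.symm (DihedralGroup.r 1)))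
      rw [map_mul, map_mul, e.apply_symm_apply, e.apply_symm_apply, DihedralGroup.sr_mul_r,
        DihedralGroup.r_mul_sr, DihedralGroup.sr.injEq] at h
      have h2 : ((2 : ℕ) : ZMod n) = 0 := by linear_combination h
      rw [ZMod.natCast_eq_zero_iff] at h2
      have := Nat.le_of_dvd two_pos h2
      omega
    subst hn2
    refine ⟨by rw [Nat.card_congr e.toEquiv, DihedralGroup.nat_card], fun x hx => ?_⟩
    have hdec : ∀ w : DihedralGroup 2, w ^ 2 = 1 := by decide
    have h1 : (⟨x, hx⟩ : ↥(S : Subgroup X)) ^ 2 = 1 :=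
      e.injective (by rw [map_pow, map_one]; exact hdec _)
    exact congrArg Subtype.val h1
  · exfalso
    rw [hSab y x, mul_inv_cancel_right] at hxy
    have h2 : 2 ^ n ∣ 2 ^ (n - 1) - 1 - 1 := by
      rw [← hx]
      refine orderOf_dvd_of_pow_eq_one ?_
      apply mul_left_cancel (a := x)
      rw [← pow_succ', mul_one, Nat.sub_add_cancel ?_, ← hxy]
      have := Nat.pow_le_pow_right two_pos (show 2 ≤ n - 1 by omega)
      omega
    have h4 := Nat.pow_le_pow_right two_pos (show 2 ≤ n - 1 by omega)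
    have h5 : 2 ^ n = 2 * 2 ^ (n - 1) := by rw [← pow_succ', Nat.sub_add_cancel (by omega)]
    have := Nat.le_of_dvd (by omega) h2
    omega
  · exfalso
    rw [hSab z x, mul_inv_cancel_right] at hzx
    subst hzx
    rw [inf_idem, Subgroup.zpowers_eq_bot] at hdisj
    rw [hdisj, orderOf_one] at hx
    exact absurd hx (Nat.one_lt_two_pow (by omega)).ne
  · exfalso
    obtain ⟨-, hk, -, hz, -⟩ := Cfsg.Agent.S1248.result hF16
      (Classical.arbitrary (Sylow 2 (Cfsg.PSU 3 F16 4)))
    haveI := hk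
    have hab : IsMulCommutative ↥((Classical.arbitrary (Sylow 2 (Cfsg.PSU 3 F16 4))) :
        Subgroup (Cfsg.PSU 3 F16 4)) :=
      ⟨⟨fun a b => e.symm.injective (by rw [map_mul, map_mul]; exact hSab _ _)⟩⟩
    have h1 := (commutator_eq_bot_iff_center_eq_top _).2
      (Subgroup.eq_top_iff' _ |>.2 fun g => Subgroup.mem_center_iff.2 fun h => hab.is_comm.comm h g)
    rw [← hz] at h1
    have h4 := IsKleinFour.card_four (G := ↥(Subgroup.center
      ↥((Classical.arbitrary (Sylow 2 (Cfsg.PSU 3 F16 4))) : Subgroup (Cfsg.PSU 3 F16 4))))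
    rw [h1, Subgroup.card_bot] at h4
    omega

/-- A simple group of 2-rank two with abelian Sylow 2-subgroups is `Good`. -/
theorem good_of_four [IsSimpleGroup X] (hX : ¬ IsMulCommutative X) (S : Sylow 2 X)
    (hcomm : ∀ x ∈ (S : Subgroup X), ∀ y ∈ (S : Subgroup X), x * y = y * x)
    (h2 : Cfsg.PRankLE 2 2 ↥(S : Subgroup X)) : Good X := by
  obtain ⟨h4, hel⟩ := card_four_of_rankLE hX S hcomm h2
  have hT : ∀ T : Sylow 2 X, Nat.card ↥(T : Subgroup X) = 4 := fun T => (card_sylow_eq S T).trans h4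
  exact
    { elementary := sq_sylow S hel
      exists_cycle := fun T => ⟨(hT T).ge, exists_cycle_small hX T (sq_sylow S hel T) (Or.inl (hT T))⟩
      coreFree := fun T h8 => absurd h8 (by rw [hT T]; norm_num)
      rigid := fun T D hD h8 => absurd (h8.trans (Subgroup.card_le_of_le hD)) (by rw [hT T]; norm_num) }

/-- `PSL₂(2^a)` is `Good`. -/
theorem good_of_psl [IsSimpleGroup X] (hX : ¬ IsMulCommutative X) {F : Type} [Field F] [Fintype F]
    {n : ℕ} (hn : 2 ≤ n) (hF : Fintype.card F = 2 ^ n)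
    (e : X ≃* Matrix.ProjectiveSpecialLinearGroup (Fin 2) F) : Good X := by
  classical
  haveI : Fact (Nat.Prime 2) := ⟨Nat.prime_two⟩
  haveI : CharP F 2 := charP_of_card_eq_prime_pow (f := n) hF
  have hq4 : 4 ≤ Fintype.card F := hF ▸ Nat.pow_le_pow_right two_pos hn
  have heven : 2 ∣ Fintype.card F := hF ▸ dvd_pow_self 2 (by omega)
  set q := Fintype.card F with hq
  have hcardX : Nat.card X = (q + 1) * (q * (q - 1)) := by
    have h := CfsgLib.PSL2.card_psl (F := F)
    rw [← hq] at h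
    have hg : Nat.gcd 2 (q - 1) = 1 := (Nat.Prime.coprime_iff_not_dvd Nat.prime_two).2 (by omega)
    rw [hg, one_mul] at h
    rw [Nat.card_congr e.toEquiv, h]
  obtain ⟨U, g₀, hU, hg₀U, hg₀q, hg₀⟩ := psl_exists_torus (F := F)
  let U' : Subgroup X := U.map e.symm.toMonoidHom
  have hU' : Nat.card U' = q := by rw [Subgroup.card_map_of_injective e.symm.injective, hU]
  have hUp : IsPGroup 2 U' := IsPGroup.of_card (n := n) (hU'.trans hF)
  have hidx : ¬ 2 ∣ U'.index := by
    have h := U'.card_mul_index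
    rw [hU', hcardX, mul_comm (q + 1), mul_assoc] at h
    rw [Nat.eq_of_mul_eq_mul_left (by omega) h, Nat.Prime.dvd_mul Nat.prime_two]
    omega
  let T₀ : Sylow 2 X := hUp.toSylow hidx
  have hT : ∀ T : Sylow 2 X, Nat.card ↥(T : Subgroup X) = q := fun T =>
    (card_sylow_eq T₀ T).trans hU'
  have hcomm : ∀ {d x : X}, d * d = 1 → d ≠ 1 → x * d = d * x → x * x = 1 := by
    intro d x hd hd1 hc
    apply e.injective
    rw [map_mul, map_one]
    exact psl_sq_eq_one_of_commute (d := e d) (by rw [← map_mul, hd, map_one])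
      (fun h => hd1 (e.injective (h.trans (map_one e).symm))) (by rw [← map_mul, hc, map_mul])
  have hel : ∀ T : Sylow 2 X, ∀ x ∈ (T : Subgroup X), x ^ 2 = 1 := by
    intro T x hx
    obtain ⟨k, hk⟩ := T.isPGroup' ⟨x, hx⟩
    have hk' : x ^ 2 ^ k = 1 := by simpa using congrArg (fun z : ↥(T : Subgroup X) => (z : X)) hk
    rw [pow_two]
    apply e.injective
    rw [map_mul, map_one]
    exact psl_sq_eq_one_of_pow_two (k := k) (by rw [← map_pow, hk', map_one])
  have hC : ∀ T : Sylow 2 X, ∀ d ∈ (T : Subgroup X), d ≠ 1 →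
      centralizer ({d} : Set X) = (T : Subgroup X) := by
    intro T d hd hd1
    have hdd : d * d = 1 := by rw [← pow_two]; exact hel T d hd
    refine T.is_maximal' (fun x => ⟨1, Subtype.ext ?_⟩) fun y hy => ?_
    · have h := hcomm hdd hd1 (mem_centralizer_singleton_iff.1 x.2)
      simpa [pow_two] using h
    · refine mem_centralizer_singleton_iff.2 ?_
      have hy2 := hel T y hy
      have hyd := hel T _ (mul_mem hy hd)
      rw [pow_two] at hy2 hyd
      rw [← inv_eq_of_mul_eq_one_right hyd, mul_inv_rev, inv_eq_of_mul_eq_one_right hy2,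
        inv_eq_of_mul_eq_one_right hdd]
  obtain ⟨g, hgN, hgord⟩ : ∃ g ∈ normalizer ((T₀ : Subgroup X) : Set X), orderOf g = q - 1 := by
    have hord : orderOf g₀ = q - 1 := by
      refine Nat.dvd_antisymm (orderOf_dvd_of_pow_eq_one hg₀q) (hg₀ _ fun x _ => ?_)
      rw [pow_orderOf_eq_one, one_mul, mul_one]
    refine ⟨e.symm g₀, ?_, by rw [MulEquiv.orderOf_eq, hord]⟩
    refine mem_set_normalizer_iff.2 fun x => ?_
    have hinj : Function.Injective fun z : X => e.symm g₀ * z * (e.symm g₀)⁻¹ := fun a b h =>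
      mul_left_cancel (mul_right_cancel h)
    have hmap : ∀ z ∈ (T₀ : Subgroup X), e.symm g₀ * z * (e.symm g₀)⁻¹ ∈ (T₀ : Subgroup X) := by
      rintro _ ⟨y, hy, rfl⟩
      refine ⟨_, hg₀U y hy, ?_⟩
      simp
    refine ⟨hmap x, fun h => ?_⟩
    let f : ↥(T₀ : Subgroup X) → ↥(T₀ : Subgroup X) := fun z => ⟨_, hmap z z.2⟩
    have hf : Function.Injective f := fun a b h => Subtype.ext (hinj (congrArg Subtype.val h))
    obtain ⟨z, hz⟩ := (Finite.injective_iff_surjective.1 hf) ⟨_, h⟩
    exact hinj (congrArg Subtype.val hz) ▸ z.2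
  have hgodd : Odd (orderOf g) := by rw [hgord, Nat.odd_iff]; omega
  have hcyc : ∃ g ∈ normalizer ((T₀ : Subgroup X) : Set X), ∀ x ∈ (T₀ : Subgroup X), x ≠ 1 →
      ∀ y ∈ (T₀ : Subgroup X), y ≠ 1 → ∃ i : ℕ, g ^ i * x * (g ^ i)⁻¹ = y := by
    refine ⟨g, hgN, trans_of_free hgN fun x hx hx1 i hi => ?_⟩
    rw [hT T₀, ← hgord]
    refine orderOf_dvd_of_pow_eq_one ?_
    have hc : g ^ i ∈ centralizer ({x} : Set X) :=
      mem_centralizer_singleton_iff.2 (mul_inv_eq_iff_eq_mul.1 hi)
    rw [hC T₀ x hx hx1] at hc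
    have h2 : (g ^ i) ^ 2 = 1 := hel T₀ _ hc
    exact orderOf_eq_one_iff.1 (Nat.eq_one_of_dvd_coprimes (Nat.coprime_two_left.2 hgodd)
      (orderOf_dvd_of_pow_eq_one h2) (orderOf_pow_dvd i))
  have hnum : ∀ T : Sylow 2 X, Nat.card (Sylow 2 X) ≤ Nat.card ↥(T : Subgroup X) + 1 := by
    intro T
    rw [hT T, Sylow.card_eq_index_normalizer T₀]
    have h1 : q - 1 ∣ orderOf g := hgord ▸ dvd_rfl
    have h2 : q * orderOf g ∣ Nat.card (normalizer ((T₀ : Subgroup X) : Set X)) := by
      refine Nat.Coprime.mul_dvd_of_dvd_of_dvd ?_ ?_ ?_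
      · rw [hF]
        exact Nat.Coprime.pow_left _ (Nat.coprime_two_left.2 hgodd)
      · rw [← hT T₀]
        exact Subgroup.card_dvd_of_le Subgroup.le_normalizer
      · exact Subgroup.orderOf_dvd_natCard _ hgN
    have h3 : q * (q - 1) ≤ Nat.card (normalizer ((T₀ : Subgroup X) : Set X)) :=
      Nat.le_of_dvd Nat.card_pos ((Nat.mul_dvd_mul_left q h1).trans h2)
    have h4 := (normalizer ((T₀ : Subgroup X) : Set X)).card_mul_index
    rw [hcardX] at h4
    show (normalizer ((T₀ : Subgroup X) : Set X)).index ≤ q + 1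
    by_contra h5
    push Not at h5
    have h7 := Nat.mul_lt_mul_of_le_of_lt h3 h5 Nat.card_pos
    rw [h4, mul_comm (q + 1)] at h7
    exact lt_irrefl _ h7
  exact
    { elementary := hel
      exists_cycle := fun T => ⟨(hT T).ge.trans' hq4, cycle_conj T₀ T hcyc⟩
      coreFree := fun T _ d hd hd1 => by
        rw [Cfsg.centralizerPPrimeCore, Subgroup.map_eq_bot_iff_of_injective _ (Subgroup.subtype_injective _)]
        exact PCore.pPrimeCore_eq_bot_of_isPGroup (by rw [hC T d hd hd1]; exact T.isPGroup')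
      rigid := fun T D hD h8 φ hodd hfix => by
        haveI : Nontrivial ↥D := Finite.one_lt_card_iff_nontrivial.1 (by omega)
        obtain ⟨⟨d, hdD⟩, hd1⟩ := exists_ne (1 : ↥D)
        have hd1' : d ≠ 1 := fun h => hd1 (Subtype.ext h)
        exact rigid_of_centralizer_eq T hX hC (hnum T) (hD hdD) hd1' φ hodd (hfix d hdD hd1') }

/-- A simple group with abelian Sylow 2-subgroups and solvable involution centralisers is `Good`. -/
theorem good_of_solvable [IsSimpleGroup X] (hX : ¬ IsMulCommutative X) (S : Sylow 2 X)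
    (hcomm : ∀ x ∈ (S : Subgroup X), ∀ y ∈ (S : Subgroup X), x * y = y * x)
    (hC : ∀ t : X, orderOf t = 2 → Group.IsSolvable ↥(Subgroup.centralizer ({t} : Set X))) : Good X := by
  by_cases h2 : Cfsg.PRankLE 2 2 ↥(S : Subgroup X)
  · exact good_of_four hX S hcomm h2
  obtain ⟨F, iF, iFt, hq, ⟨e⟩⟩ := CfsgLib.SylTwoAbel.exists_psl_of_rank_three S hcomm hC h2
  rcases hq with ⟨hq, h5⟩ | ⟨n, hn, hF⟩
  swap
  · exact good_of_psl hX hn hF e
  exfalso
  haveI : Fact (Nat.Prime 2) := ⟨Nat.prime_two⟩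
  refine h2 fun A hA hA2 => ?_
  have h := CfsgLib.PSL2.card_psl (F := F)
  rw [← Nat.card_congr e.toEquiv] at h
  set q := Fintype.card F
  have hg : Nat.gcd 2 (q - 1) = 2 := Nat.gcd_eq_left (by omega)
  rw [hg] at h
  have h8 : ¬ 8 ∣ Nat.card X := by
    rintro ⟨c, hc⟩
    rw [hc] at h
    rcases hq with hq | hq
    · obtain ⟨k, hk⟩ : ∃ k, q = 8 * k + 3 := ⟨q / 8, by omega⟩
      rw [hk] at h
      have h1 : (8 * k + 3 + 1) * ((8 * k + 3) * (8 * k + 3 - 1)) =
          8 * ((2 * k + 1) * ((8 * k + 3) * (4 * k + 1))) := by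
        rw [show 8 * k + 3 - 1 = 8 * k + 2 by omega]; ring
      rw [h1] at h
      have h2 : Odd ((2 * k + 1) * ((8 * k + 3) * (4 * k + 1))) :=
        (odd_two_mul_add_one k).mul ((Nat.odd_iff.2 (by omega)).mul (Nat.odd_iff.2 (by omega)))
      rw [Nat.odd_iff] at h2
      omega
    · obtain ⟨k, hk⟩ : ∃ k, q = 8 * k + 5 := ⟨q / 8, by omega⟩
      rw [hk] at h
      have h1 : (8 * k + 5 + 1) * ((8 * k + 5) * (8 * k + 5 - 1)) =
          8 * ((4 * k + 3) * ((8 * k + 5) * (2 * k + 1))) := by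
        rw [show 8 * k + 5 - 1 = 8 * k + 4 by omega]; ring
      rw [h1] at h
      have h2 : Odd ((4 * k + 3) * ((8 * k + 5) * (2 * k + 1))) :=
        (Nat.odd_iff.2 (by omega)).mul ((Nat.odd_iff.2 (by omega)).mul (odd_two_mul_add_one k))
      rw [Nat.odd_iff] at h2
      omega
  have hA' : Nat.card A ∣ Nat.card ↥(S : Subgroup X) := A.card_subgroup_dvd_card
  obtain ⟨m, hm⟩ := IsPGroup.iff_card.1 S.isPGroup'
  have hm2 : m ≤ 2 := by
    by_contra hm'
    exact h8 ((pow_dvd_pow 2 (show 3 ≤ m by omega)).trans (hm ▸ (S : Subgroup X).card_subgroup_dvd_card))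
  exact (Nat.le_of_dvd Nat.card_pos hA').trans (hm ▸ Nat.pow_le_pow_right two_pos hm2)

/-- Order eight with a non-solvable involution centraliser and trivial cores. -/
theorem good_of_eight [IsSimpleGroup X] (hX : ¬ IsMulCommutative X) (S : Sylow 2 X)
    (h8 : Nat.card ↥(S : Subgroup X) = 8) (hel : ∀ x ∈ (S : Subgroup X), x ^ 2 = 1)
    (hns : ∃ t : X, orderOf t = 2 ∧ ¬ Group.IsSolvable ↥(Subgroup.centralizer ({t} : Set X)))
    (hcore : ∀ d : X, orderOf d = 2 → Cfsg.centralizerPPrimeCore 2 d = ⊥) : Good X := by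
  classical
  haveI : Fact (Nat.Prime 2) := ⟨Nat.prime_two⟩
  have hT : ∀ T : Sylow 2 X, Nat.card ↥(T : Subgroup X) = 8 := fun T => (card_sylow_eq S T).trans h8
  refine
    { elementary := sq_sylow S hel
      exists_cycle := fun T => ⟨by rw [hT T]; norm_num,
        exists_cycle_small hX T (sq_sylow S hel T) (Or.inr (hT T))⟩
      coreFree := fun T _ d hd hd1 => hcore d (orderOf_eq_prime (sq_sylow S hel T d hd) hd1)
      rigid := ?_ }
  intro T D hD hD8 φ _ hfix
  have hDT : D = (T : Subgroup X) := Subgroup.eq_of_le_of_card_ge hD (by rw [hT T]; exact hD8)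
  subst hDT
  have hT2 := sq_sylow S hel T
  have hab : ∀ a ∈ (T : Subgroup X), ∀ b ∈ (T : Subgroup X), Commute a b := by
    intro a ha b hb
    have h := hT2 _ (mul_mem ha hb)
    have ha' := hT2 _ ha
    have hb' := hT2 _ hb
    simp only [pow_two] at h ha' hb'
    show a * b = b * a
    rw [← inv_eq_of_mul_eq_one_right h, mul_inv_rev, inv_eq_of_mul_eq_one_right ha',
      inv_eq_of_mul_eq_one_right hb']
  let L : Subgroup X := ⨆ d : {d : X // d ∈ (T : Subgroup X) ∧ d ≠ 1}, centralizer ({(d : X)} : Set X)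
  have hle : ∀ d ∈ (T : Subgroup X), d ≠ 1 → centralizer ({d} : Set X) ≤ L := fun d hd hd1 =>
    le_iSup (fun d : {d : X // d ∈ (T : Subgroup X) ∧ d ≠ 1} => centralizer ({(d : X)} : Set X)) ⟨d, hd, hd1⟩
  have hLfix : L ≤ MonoidHom.eqLocus φ.toMonoidHom (MonoidHom.id X) :=
    iSup_le fun d x hx => hfix d d.2.1 d.2.2 x (mem_centralizer_singleton_iff.1 hx)
  have hconjL : ∀ n ∈ normalizer ((T : Subgroup X) : Set X),
      ∀ x ∈ L, n * x * n⁻¹ ∈ L := by
    intro n hn
    have h1 : L ≤ L.comap (MulAut.conj n).toMonoidHom := by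
      refine iSup_le fun d x hx => ?_
      show n * x * n⁻¹ ∈ L
      refine hle (n * d * n⁻¹) ((mem_set_normalizer_iff.1 hn _).1 d.2.1) ?_
        (mem_centralizer_singleton_iff.2 ?_)
      · simpa using d.2.2
      · rw [show n * x * n⁻¹ * (n * (d : X) * n⁻¹) = n * (x * d) * n⁻¹ by group,
          mem_centralizer_singleton_iff.1 hx]
        group
    exact fun x hx => h1 hx
  have hNL : normalizer ((T : Subgroup X) : Set X) ≤ normalizer (L : Set X) := fun n hn =>
    mem_set_normalizer_iff.2 fun x => ⟨hconjL n hn x, fun h => by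
      have := hconjL n⁻¹ (inv_mem hn) _ h
      simpa [mul_assoc] using this⟩
  obtain ⟨t, ht, htns⟩ := hns
  obtain ⟨P, hP⟩ := (IsPGroup.of_card (n := 1) (by rw [Nat.card_zpowers, ht, pow_one]) :
    IsPGroup 2 ↥(zpowers t)).exists_le_sylow
  obtain ⟨a, ha⟩ := exists_smul_eq X P T
  set d := a * t * a⁻¹ with hd
  have hdT : d ∈ (T : Subgroup X) := by
    rw [← ha, Sylow.coe_subgroup_smul]
    exact ⟨t, hP (mem_zpowers t), rfl⟩
  have hd1 : d ≠ 1 := by
    rw [hd, Ne, conj_eq_one_iff]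
    intro h
    rw [h, orderOf_one] at ht
    omega
  have hdns : ¬ Group.IsSolvable ↥(centralizer ({d} : Set X)) := by
    intro h
    refine htns (Group.isSolvable_of_isSolvable_injective
      (f := (((MulAut.conj a).toMonoidHom).comp (centralizer ({t} : Set X)).subtype).codRestrict
        (centralizer ({d} : Set X)) fun x => mem_centralizer_singleton_iff.2 ?_) fun x y hxy => ?_)
    · show a * (x : X) * a⁻¹ * (a * t * a⁻¹) = a * t * a⁻¹ * (a * x * a⁻¹)
      rw [show a * (x : X) * a⁻¹ * (a * t * a⁻¹) = a * (x * t) * a⁻¹ by group,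
        mem_centralizer_singleton_iff.1 x.2]
      group
    · exact Subtype.ext ((MulAut.conj a).injective (congrArg Subtype.val hxy))
  by_cases hH : normalizer (L : Set X) = ⊤
  · haveI : L.Normal := normalizer_eq_top_iff.1 hH
    have hLtop : L = ⊤ := (Subgroup.Normal.eq_bot_or_eq_top inferInstance).resolve_left fun h =>
      hd1 (Subgroup.mem_bot.1 (h ▸ hle d hdT hd1 (mem_centralizer_singleton_iff.2 rfl)))
    exact MulEquiv.ext fun x => hLfix (hLtop ▸ Subgroup.mem_top x)
  · exfalso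
    have hCH : ∀ d ∈ (T : Subgroup X), d ≠ 1 → centralizer ({d} : Set X) ≤ normalizer (L : Set X) :=
      fun d hd hd1 => (hle d hd hd1).trans Subgroup.le_normalizer
    have h2 : 2 ∣ Nat.card X :=
      Nat.dvd_trans (by rw [hT T]; norm_num) (T : Subgroup X).card_subgroup_dvd_card
    have hse := CfsgLib.AutOrbits.isStronglyEmbedded_of hH T hab h2
      (fun s hs hs2 => hCH s hs fun h => by rw [h, orderOf_one] at hs2; omega) hNL
    have hfour : CfsgLib.BenderTrans.HasFour X := by
      have hlt : ({1, d} : Finset X).card < Nat.card ↥(T : Subgroup X) := by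
        rw [hT T]
        exact lt_of_le_of_lt Finset.card_le_two (by norm_num)
      obtain ⟨s, hs, hsd⟩ : ∃ s ∈ (T : Subgroup X), s ∉ ({1, d} : Finset X) := by
        by_contra h
        push Not at h
        haveI := Fintype.ofFinite X
        refine not_le.2 hlt ?_
        rw [← SetLike.coe_sort_coe, Nat.card_coe_set_eq, ← Set.ncard_coe_finset]
        exact Set.ncard_le_ncard (fun s hs => h s hs) (Finset.finite_toSet _)
      simp only [Finset.mem_insert, Finset.mem_singleton, not_or] at hsd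
      exact ⟨s, d, orderOf_eq_prime (hT2 s hs) hsd.1, orderOf_eq_prime (hT2 d hdT) hd1, hsd.2,
        hab s hs d hdT⟩
    haveI := CfsgLib.BenderQ.isSolvable_of_stronglyEmbedded CfsgLib.BenderQ.benderKernel hse hfour
    exact hdns (Group.isSolvable_of_isSolvable_injective
      (f := Subgroup.inclusion (hCH d hdT hd1)) (Subgroup.inclusion_injective _))

end CfsgLib.Walter.RankFour
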