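import Cfsg.Agent.Lib.Walter.RankFour.Interface
import Cfsg.Agent.Lib.ProductFusion.Main
import Cfsg.Agent.Lib.Coprime85.Invariant
import Cfsg.Agent.Lib.ThreeFree.ClosedSubgroup

/-!
# Walter's theorem, rank at least four: `N(S)` is irreducible on the involutions of `S`

For a non-abelian simple group with abelian Sylow 2-subgroup `S`, the normaliser of `S` is irreducible on
`Ω₁(S)` (two complementary invariant subgroups would be strongly closed). Hence a `Cycle` on an elementary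
`W` makes `S` elementary, and with `BigCommutator` it has `|W|² < |S|` as soon as it fixes a non-trivial
element of `S`. (coord/notes/Walter_rank4_helper17.md, step 0 and the end of step 2.)
-/

set_option autoImplicit false
set_option linter.unusedSectionVars false
set_option linter.style.haveILetI false

namespace CfsgLib.Walter.RankFour

open Subgroup
open scoped commutatorElement

universe u

local instance : Fact (Nat.Prime 2) := ⟨Nat.prime_two⟩

variable {G : Type u} [Group G] [Finite G] [IsSimpleGroup G]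

/-- The elements of square one of an abelian subgroup. -/
def invSub (S : Subgroup G) (hab : ∀ x ∈ S, ∀ y ∈ S, x * y = y * x) : Subgroup G where
  carrier := {x | x ∈ S ∧ x ^ 2 = 1}
  one_mem' := ⟨one_mem S, one_pow 2⟩
  mul_mem' := fun {a b} ha hb => ⟨mul_mem ha.1 hb.1, by
    rw [(show Commute a b from hab a ha.1 b hb.1).mul_pow, ha.2, hb.2, one_mul]⟩
  inv_mem' := fun {a} ha => ⟨inv_mem ha.1, by rw [inv_pow, ha.2, inv_one]⟩

omit [IsSimpleGroup G] in
theorem conj_mem_of_mem_normalizer {S : Subgroup G} {n x : G} (hn : n ∈ normalizer (S : Set G))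
    (hx : x ∈ S) : n * x * n⁻¹ ∈ S :=
  (mem_normalizer_iff.1 hn x).1 hx

/-- A non-commutative group has two elements that do not commute. -/
theorem exists_not_comm (h : ¬ IsMulCommutative G) : ∃ a b : G, a * b ≠ b * a := by
  by_contra hno
  push Not at hno
  exact h ⟨⟨hno⟩⟩

/-- The action of the normaliser of an abelian Sylow 2-subgroup has odd order. -/
theorem odd_card_range {M : Type u} [Group M] (S : Sylow 2 G)
    (hab : ∀ x ∈ (S : Subgroup G), ∀ y ∈ (S : Subgroup G), x * y = y * x)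
    (φ : ↥(normalizer ((S : Subgroup G) : Set G)) →* M)
    (hφ : ∀ n : ↥(normalizer ((S : Subgroup G) : Set G)),
      (∀ x ∈ (S : Subgroup G), (n : G) * x = x * (n : G)) → φ n = 1) :
    Odd (Nat.card φ.range) := by
  have hle : (S : Subgroup G).subgroupOf (normalizer ((S : Subgroup G) : Set G)) ≤ φ.ker := by
    intro n hn
    exact hφ n fun x hx => hab _ (mem_subgroupOf.1 hn) x hx
  have h1 : Nat.card φ.range ∣ (S : Subgroup G).index := by
    rw [← index_ker φ]
    exact (index_dvd_of_le hle).trans (relIndex_dvd_index_of_le le_normalizer)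
  refine Nat.odd_iff.2 (Nat.two_dvd_ne_zero.1 fun h => S.not_dvd_index (h.trans h1))

/-- `N(S)` is irreducible on the involutions of `S`. -/
theorem eq_bot_or_invSub (hnc : ∃ a b : G, a * b ≠ b * a) (S : Sylow 2 G)
    (hab : ∀ x ∈ (S : Subgroup G), ∀ y ∈ (S : Subgroup G), x * y = y * x)
    (V : Subgroup G) (hV : V ≤ invSub (S : Subgroup G) hab)
    (hN : normalizer ((S : Subgroup G) : Set G) ≤ normalizer (V : Set G)) :
    V = ⊥ ∨ V = invSub (S : Subgroup G) hab := by
  set O₁ := invSub (S : Subgroup G) hab with hO₁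
  have hOS : O₁ ≤ (S : Subgroup G) := fun x hx => hx.1
  have hNO : normalizer ((S : Subgroup G) : Set G) ≤ normalizer (O₁ : Set G) := by
    refine le_normalizer_iff.2 fun n hn x hx => ?_
    exact ⟨conj_mem_of_mem_normalizer hn hx.1, by rw [conj_pow, hx.2, mul_one, mul_inv_cancel]⟩
  letI : CommGroup ↥O₁ :=
    { (inferInstance : Group ↥O₁) with mul_comm := fun a b => Subtype.ext (hab _ a.2.1 _ b.2.1) }
  let φ : ↥(normalizer ((S : Subgroup G) : Set G)) →* MulAut ↥O₁ :=
    (O₁.normalizerMonoidHom).comp (Subgroup.inclusion hNO)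
  have hφv : ∀ (n : ↥(normalizer ((S : Subgroup G) : Set G))) (x : ↥O₁),
      ((φ n x : ↥O₁) : G) = (n : G) * x * (n : G)⁻¹ := fun n x => rfl
  have hodd : Odd (Nat.card φ.range) := odd_card_range S hab φ fun n hn =>
    MulEquiv.ext fun x => Subtype.ext (by
      rw [hφv, hn _ x.2.1, mul_inv_cancel_right]; rfl)
  obtain ⟨C, hC, hdisj, hsup⟩ := CfsgLib.Coprime85.exists_invariant_compl (A := ↥φ.range) (Q := ↥O₁) 2
    (fun x => Subtype.ext x.2.2) (fun h => (Nat.not_even_iff_odd.2 hodd) (even_iff_two_dvd.2 h))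
    (fun a => ((a : MulAut ↥O₁)).toMonoidHom) (fun x => rfl) (fun a b x => rfl) (V.subgroupOf O₁)
    (by
      rintro ⟨_, n, rfl⟩ x hx
      exact mem_subgroupOf.2 (conj_mem_of_mem_normalizer (hN n.2) (mem_subgroupOf.1 hx)))
  set W : Subgroup G := C.map O₁.subtype with hW
  have hWO : W ≤ O₁ := map_subtype_le _
  have hNW : normalizer ((S : Subgroup G) : Set G) ≤ normalizer (W : Set G) := by
    refine le_normalizer_iff.2 ?_
    rintro n hn _ ⟨c, hc, rfl⟩
    exact ⟨φ ⟨n, hn⟩ c, hC ⟨φ ⟨n, hn⟩, ⟨n, hn⟩, rfl⟩ c hc, rfl⟩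
  have hsc : ∀ U : Subgroup G, U ≤ O₁ →
      normalizer ((S : Subgroup G) : Set G) ≤ normalizer (U : Set G) →
      Cfsg.IsStronglyClosed U (S : Subgroup G) := by
    intro U hU hNU
    refine ⟨hU.trans hOS, fun x hx g hg => ?_⟩
    haveI : IsMulCommutative ↥(S : Subgroup G) :=
      ⟨⟨fun a b => Subtype.ext (hab _ a.2 _ b.2)⟩⟩
    obtain ⟨n, hn, he⟩ := S.conj_eq_normalizer_conj_of_mem x g⁻¹ (hOS (hU hx)) (by rwa [inv_inv])
    rw [inv_inv] at he
    rw [he]
    simpa using conj_mem_of_mem_normalizer (hNU (inv_mem hn)) hx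
  have hVW : V ⊓ W = ⊥ := by
    refine eq_bot_iff.2 ?_
    rintro x ⟨hxV, c, hc, rfl⟩
    have hm : c ∈ (V.subgroupOf O₁ ⊓ C) := ⟨mem_subgroupOf.2 hxV, hc⟩
    rw [hdisj, mem_bot] at hm
    simp [hm]
  let D : CfsgLib.ProductFusion.Pair G :=
    { P := S, S₁ := V, S₂ := W
      comm := fun a ha b hb => hab a (hOS (hV ha)) b (hOS (hWO hb))
      disj := hVW, sc₁ := hsc V hV hN, sc₂ := hsc W hWO hNW }
  have hc := CfsgLib.ProductFusion.commutator_le_pPrimeCore D
  rw [CfsgLib.ThreeFree.pPrimeCore_eq_bot_of_simple hnc, le_bot_iff] at hc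
  have hcases : V = ⊥ ∨ W = ⊥ := by
    by_contra h
    push Not at h
    have hn : ∀ U : Subgroup G, U ≠ ⊥ → normalClosure (U : Set G) = ⊤ := fun U hU =>
      (normalClosure_normal (s := (U : Set G))).eq_bot_or_eq_top.resolve_left fun e =>
        hU (eq_bot_iff.2 fun x hx => e ▸ subset_normalClosure hx)
    change ⁅normalClosure (V : Set G), normalClosure (W : Set G)⁆ = ⊥ at hc
    rw [hn V h.1, hn W h.2, commutator_eq_bot_iff_le_centralizer] at hc
    obtain ⟨a, b, hab'⟩ := hnc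
    exact hab' ((mem_centralizer_iff.1 (hc (mem_top a)) b (mem_top b)).symm)
  refine hcases.imp id fun hW0 => le_antisymm hV fun x hx => ?_
  have hC0 : C = ⊥ := (map_eq_bot_iff_of_injective _ O₁.subtype_injective).1 (hW ▸ hW0)
  rw [hC0, sup_bot_eq] at hsup
  exact mem_subgroupOf.1 (hsup.ge (mem_top (⟨x, hx⟩ : ↥O₁)))

/-- An elementary `S` has only the trivial `N(S)`-invariant subgroups. -/
theorem eq_bot_or_eq (hnc : ∃ a b : G, a * b ≠ b * a) (S : Sylow 2 G)
    (hab : ∀ x ∈ (S : Subgroup G), ∀ y ∈ (S : Subgroup G), x * y = y * x)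
    (hel : ∀ s ∈ (S : Subgroup G), s ^ 2 = 1) (V : Subgroup G) (hV : V ≤ (S : Subgroup G))
    (hN : normalizer ((S : Subgroup G) : Set G) ≤ normalizer (V : Set G)) :
    V = ⊥ ∨ V = (S : Subgroup G) := by
  have he : invSub (S : Subgroup G) hab = (S : Subgroup G) :=
    le_antisymm (fun x hx => hx.1) fun x hx => ⟨hx, hel x hx⟩
  simpa [he] using eq_bot_or_invSub hnc S hab V (he.symm ▸ hV) hN

section Cycle

variable {S W : Subgroup G} {g : G}

omit [IsSimpleGroup G] in
/-- The cycle fixes nothing but `1` in `W`. -/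
theorem Cycle.eq_one_of_fix (hC : Cycle S W g) {w : G} (hw : w ∈ W) (hg : g * w * g⁻¹ = w) : w = 1 := by
  by_contra h1
  have hfix : ∀ i : ℕ, g ^ i * w * (g ^ i)⁻¹ = w := by
    intro i
    induction i with
    | zero => simp
    | succ i ih =>
      calc g ^ (i + 1) * w * (g ^ (i + 1))⁻¹ = g ^ i * (g * w * g⁻¹) * (g ^ i)⁻¹ := by
            rw [pow_succ]; group
        _ = w := by rw [hg, ih]
  have hle : W ≤ zpowers w := fun y hy => by
    by_cases hy1 : y = 1
    · rw [hy1]; exact one_mem _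
    obtain ⟨i, hi⟩ := hC.trans w hw h1 y hy hy1
    rw [← hi, hfix i]
    exact mem_zpowers w
  have hw2 : w * w = 1 := by
    by_contra h2
    obtain ⟨i, hi⟩ := hC.trans w hw h1 (w * w) (mul_mem hw hw) h2
    rw [hfix i] at hi
    exact h1 (mul_eq_left.1 hi.symm)
  have hc := card_le_of_le hle
  have := hC.four_le
  rw [Nat.card_zpowers, orderOf_eq_prime (p := 2) (by rw [pow_two]; exact hw2) h1] at hc
  omega

omit [IsSimpleGroup G] in
/-- Every element of `S` is moved into a fixed element by `W`. -/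
theorem Cycle.exists_fixed (hC : Cycle S W g) (hab : ∀ x ∈ S, ∀ y ∈ S, x * y = y * x) {s : G}
    (hs : s ∈ S) : ∃ w ∈ W, g * (s * w) * g⁻¹ = s * w := by
  have hgS : ∀ x ∈ S, g * x * g⁻¹ ∈ S := fun x hx => conj_mem_of_mem_normalizer hC.mem_normalizer hx
  let δ : ↥W → ↥W := fun w => ⟨g * (w : G) * g⁻¹ * (w : G)⁻¹, hC.move _ (hC.le w.2)⟩
  have hinj : Function.Injective δ := by
    intro a b h
    have h' : g * (a : G) * g⁻¹ * (a : G)⁻¹ = g * (b : G) * g⁻¹ * (b : G)⁻¹ := congrArg Subtype.val h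
    have hf := hC.eq_one_of_fix (w := (b : G)⁻¹ * a) (mul_mem (inv_mem b.2) a.2) (by
      calc g * ((b : G)⁻¹ * a) * g⁻¹ = (g * (b : G) * g⁻¹)⁻¹ * (g * (a : G) * g⁻¹) := by group
        _ = (g * (b : G) * g⁻¹ * (b : G)⁻¹ * b)⁻¹ * (g * (a : G) * g⁻¹ * (a : G)⁻¹ * a) := by group
        _ = (b : G)⁻¹ * a := by rw [h']; group)
    exact Subtype.ext (inv_mul_eq_one.1 hf).symm
  obtain ⟨w, hw⟩ := (Finite.injective_iff_surjective.1 hinj) ⟨_, inv_mem (hC.move s hs)⟩
  have hw' : g * (w : G) * g⁻¹ * (w : G)⁻¹ = (g * s * g⁻¹ * s⁻¹)⁻¹ := congrArg Subtype.val hw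
  refine ⟨w, w.2, ?_⟩
  have hwS := hC.le w.2
  set a := g * s * g⁻¹ * s⁻¹ with ha
  have haS : a ∈ S := mul_mem (hgS s hs) (inv_mem hs)
  calc g * (s * w) * g⁻¹ = (g * s * g⁻¹ * s⁻¹) * s * ((g * (w : G) * g⁻¹ * (w : G)⁻¹) * w) := by group
    _ = a * s * (a⁻¹ * w) := by rw [hw']
    _ = s * w := by rw [hab a haS s hs]; group

end Cycle

/-- A cycle on an elementary `W` makes `S` elementary. -/
theorem elementary (hnc : ∃ a b : G, a * b ≠ b * a) (S : Sylow 2 G)
    (hab : ∀ x ∈ (S : Subgroup G), ∀ y ∈ (S : Subgroup G), x * y = y * x) {W : Subgroup G} {g : G}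
    (hC : Cycle (S : Subgroup G) W g) (hel : ∀ w ∈ W, w ^ 2 = 1) :
    ∀ s ∈ (S : Subgroup G), s ^ 2 = 1 := by
  set O₁ := invSub (S : Subgroup G) hab with hO₁
  let R : Subgroup G :=
    { carrier := {x | x ^ 2 = 1 ∧ ∃ y ∈ (S : Subgroup G), y ^ 2 = x}
      one_mem' := ⟨one_pow 2, 1, one_mem _, one_pow 2⟩
      mul_mem' := by
        rintro a b ⟨ha, y, hy, rfl⟩ ⟨hb, z, hz, rfl⟩
        have hc : Commute (y ^ 2) (z ^ 2) := (show Commute y z from hab y hy z hz).pow_pow 2 2
        exact ⟨by rw [hc.mul_pow, ha, hb, one_mul], y * z, mul_mem hy hz,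
          (show Commute y z from hab y hy z hz).mul_pow 2⟩
      inv_mem' := by
        rintro a ⟨ha, y, hy, rfl⟩
        exact ⟨by rw [inv_pow, ha, inv_one], y⁻¹, inv_mem hy, inv_pow y 2⟩ }
  have hR : R ≤ O₁ := fun x hx => ⟨by obtain ⟨y, hy, rfl⟩ := hx.2; exact pow_mem hy 2, hx.1⟩
  have hNR : normalizer ((S : Subgroup G) : Set G) ≤ normalizer (R : Set G) := by
    refine le_normalizer_iff.2 ?_
    rintro n hn _ ⟨ha, y, hy, rfl⟩
    exact ⟨by rw [conj_pow, ha, mul_one, mul_inv_cancel], n * y * n⁻¹, conj_mem_of_mem_normalizer hn hy,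
      conj_pow⟩
  have hRbot : R = ⊥ := by
    refine (eq_bot_or_invSub hnc S hab R hR hNR).resolve_right fun hRe => ?_
    obtain ⟨w, hw⟩ : ∃ w : ↥W, w ≠ 1 := by
      haveI : Nontrivial ↥W := Finite.one_lt_card_iff_nontrivial.1 (by have := hC.four_le; omega)
      exact exists_ne 1
    have hwR : (w : G) ∈ R := hRe.symm ▸ (show (w : G) ∈ O₁ from ⟨hC.le w.2, hel _ w.2⟩)
    obtain ⟨y, hy, hyw⟩ := hwR.2
    obtain ⟨v, hv, hfix⟩ := hC.exists_fixed hab hy
    have e : (y * v) ^ 2 = (w : G) := by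
      rw [(show Commute y v from hab y hy v (hC.le hv)).mul_pow, hel v hv, mul_one, hyw]
    exact hw (Subtype.ext (hC.eq_one_of_fix w.2 (by rw [← e, ← conj_pow, hfix])))
  intro s hs
  by_contra h2
  obtain ⟨k, hk⟩ := IsPGroup.iff_orderOf.1 S.isPGroup' ⟨s, hs⟩
  rw [orderOf_mk] at hk
  have hk2 : 2 ≤ k := by
    by_contra hk'
    exact h2 (orderOf_dvd_iff_pow_eq_one.1 (hk.symm ▸ (pow_dvd_pow 2 (by omega : k ≤ 1))))
  have hmem : (s ^ 2 ^ (k - 2)) ^ 2 ∈ R := ⟨by
    rw [← pow_mul, ← pow_mul, show 2 * 2 = 2 ^ 2 from rfl, ← pow_add,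
      show k - 2 + 2 = k by omega, ← hk, pow_orderOf_eq_one], _, pow_mem hs _, rfl⟩
  rw [hRbot, mem_bot, ← pow_mul, ← pow_succ] at hmem
  have hd := orderOf_dvd_of_pow_eq_one hmem
  rw [hk] at hd
  have := (Nat.pow_dvd_pow_iff_le_right (by norm_num : 1 < 2)).1 hd
  omega

/-- A cycle with a fixed point moves less than the square root of `S`. -/
theorem card_piece_lt (hBC : BigCommutator.{u}) (hnc : ∃ a b : G, a * b ≠ b * a) (S : Sylow 2 G)
    (hab : ∀ x ∈ (S : Subgroup G), ∀ y ∈ (S : Subgroup G), x * y = y * x)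
    (hel : ∀ s ∈ (S : Subgroup G), s ^ 2 = 1) (h16 : 16 ≤ Nat.card ↥(S : Subgroup G))
    {W : Subgroup G} {g : G} (hC : Cycle (S : Subgroup G) W g)
    (hfix : ∃ s ∈ (S : Subgroup G), s ≠ 1 ∧ g * s * g⁻¹ = s) :
    Nat.card W ^ 2 < Nat.card ↥(S : Subgroup G) := by
  by_contra hlt
  push Not at hlt
  letI : CommGroup ↥(S : Subgroup G) :=
    { (inferInstance : Group ↥(S : Subgroup G)) with
      mul_comm := fun a b => Subtype.ext (hab _ a.2 _ b.2) }
  let φ := (S : Subgroup G).normalizerMonoidHom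
  have hφv : ∀ (n : ↥(normalizer ((S : Subgroup G) : Set G))) (x : ↥(S : Subgroup G)),
      ((φ n x : ↥(S : Subgroup G)) : G) = (n : G) * x * (n : G)⁻¹ := fun n x => rfl
  have hodd : Odd (Nat.card φ.range) := odd_card_range S hab φ fun n hn =>
    MulEquiv.ext fun x => Subtype.ext (by rw [hφv, hn _ x.2, mul_inv_cancel_right]; rfl)
  have hirr : ∀ X : Subgroup ↥(S : Subgroup G), (∀ f ∈ φ.range, ∀ w ∈ X, f w ∈ X) → X = ⊥ ∨ X = ⊤ := by
    intro X hX
    have hN : normalizer ((S : Subgroup G) : Set G) ≤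
        normalizer ((X.map (S : Subgroup G).subtype : Subgroup G) : Set G) := by
      refine le_normalizer_iff.2 ?_
      rintro n hn _ ⟨c, hc, rfl⟩
      exact ⟨φ ⟨n, hn⟩ c, hX _ ⟨⟨n, hn⟩, rfl⟩ c hc, rfl⟩
    refine (eq_bot_or_eq hnc S hab hel _ (map_subtype_le _) hN).imp
      (map_eq_bot_iff_of_injective _ (S : Subgroup G).subtype_injective).1 fun h => ?_
    exact eq_top_iff.2 fun x _ => by
      obtain ⟨c, hc, e⟩ := h.ge x.2
      exact Subtype.ext e ▸ hc
  set gn : ↥(normalizer ((S : Subgroup G) : Set G)) := ⟨g, hC.mem_normalizer⟩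
  set f := φ gn with hf
  have hfv : ∀ (i : ℕ) (x : ↥(S : Subgroup G)), (((f ^ i) x : ↥(S : Subgroup G)) : G) =
      g ^ i * x * (g ^ i)⁻¹ := fun i x => by
    rw [hf, ← map_pow, hφv]; rfl
  have hfv1 : ∀ x : ↥(S : Subgroup G), ((f x : ↥(S : Subgroup G)) : G) = g * x * g⁻¹ := fun x => rfl
  let U : Subgroup ↥(S : Subgroup G) :=
    { carrier := {v | f v = v}
      one_mem' := map_one f
      mul_mem' := fun {a b} (ha : f a = a) (hb : f b = b) =>
        show f (a * b) = a * b by rw [map_mul, ha, hb]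
      inv_mem' := fun {a} (ha : f a = a) => show f a⁻¹ = a⁻¹ by rw [map_inv, ha] }
  let T : Subgroup ↥(S : Subgroup G) := W.subgroupOf (S : Subgroup G)
  have hcT : Nat.card T = Nat.card W := Nat.card_congr (subgroupOfEquivOfLe hC.le).toEquiv
  have hTmem : ∀ v ∈ T, f v ∈ T := fun v hv => by
    refine mem_subgroupOf.2 ?_
    rw [hfv1]
    have := mul_mem (hC.move (v : G) v.2) (mem_subgroupOf.1 hv)
    rwa [inv_mul_cancel_right] at this
  have hcompl : IsCompl U T := by
    refine ⟨disjoint_iff.2 (eq_bot_iff.2 ?_), codisjoint_iff.2 (eq_top_iff.2 ?_)⟩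
    · rintro v ⟨hvU, hvT⟩
      exact mem_bot.2 (Subtype.ext (hC.eq_one_of_fix (mem_subgroupOf.1 hvT)
        ((hfv1 v).symm.trans (congrArg Subtype.val (hvU : f v = v)))))
    · intro v _
      obtain ⟨w, hw, he⟩ := hC.exists_fixed hab v.2
      have hwS := hC.le hw
      rw [show v = (v * ⟨w, hwS⟩) * ⟨w, hwS⟩⁻¹ from (mul_inv_cancel_right v _).symm]
      exact mul_mem_sup (show f (v * ⟨w, hwS⟩) = v * ⟨w, hwS⟩ from Subtype.ext ((hfv1 _).trans he))
        (inv_mem (mem_subgroupOf.2 hw))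
  -- the order of the cycle
  have hord : orderOf f = Nat.card T - 1 := by
    haveI : Nontrivial ↥T := Finite.one_lt_card_iff_nontrivial.1 (by have := hC.four_le; omega)
    obtain ⟨x, hx⟩ := exists_ne (1 : ↥T)
    have hxG : ((x : ↥(S : Subgroup G)) : G) ≠ 1 := fun e => hx (Subtype.ext (Subtype.ext e))
    have hTpow : ∀ i : ℕ, ∀ v ∈ T, (f ^ i) v ∈ T := by
      intro i
      induction i with
      | zero => exact fun v hv => by simpa using hv
      | succ i ih => exact fun v hv => by rw [pow_succ, MulAut.mul_apply]; exact ih _ (hTmem v hv)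
    have hstab : ∀ i : ℕ, (f ^ i) (x : ↥(S : Subgroup G)) = x → f ^ i = 1 := by
      intro i hi
      have hW : ∀ t ∈ T, (f ^ i) t = t := by
        intro t ht
        by_cases ht1 : (t : G) = 1
        · rw [show t = 1 from Subtype.ext ht1, map_one]
        obtain ⟨j, hj⟩ := hC.trans _ (mem_subgroupOf.1 x.2) hxG _ (mem_subgroupOf.1 ht) ht1
        have ej : t = (f ^ j) (x : ↥(S : Subgroup G)) := Subtype.ext (by rw [hfv, hj])
        rw [ej, ← MulAut.mul_apply, ← pow_add, add_comm, pow_add, MulAut.mul_apply, hi]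
      have hU : ∀ u ∈ U, (f ^ i) u = u := by
        intro u (hu : f u = u)
        clear hi hW
        induction i with
        | zero => rfl
        | succ i ih => rw [pow_succ, MulAut.mul_apply, hu, ih]
      ext v
      obtain ⟨a, ha, b, hb, rfl⟩ := mem_sup.1 (hcompl.sup_eq_top.ge (mem_top v))
      rw [map_mul, hU a ha, hW b hb]
      rfl
    have hpos : 0 < orderOf f := orderOf_pos f
    have hbij : Function.Bijective (fun i : Fin (orderOf f) =>
        (⟨⟨_, hTpow i _ x.2⟩, fun e => hx (Subtype.ext ((f ^ (i : ℕ)).injective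
          (show (f ^ (i : ℕ)) x = (f ^ (i : ℕ)) ((1 : ↥T) : ↥(S : Subgroup G)) by
            rw [OneMemClass.coe_one, map_one]; exact congrArg Subtype.val e)))⟩ : {t : ↥T // t ≠ 1})) := by
      constructor
      · intro i j h
        have h' : (f ^ (i : ℕ)) (x : ↥(S : Subgroup G)) = (f ^ (j : ℕ)) x :=
          congrArg (fun t => ((t : {t : ↥T // t ≠ 1}).1 : ↥(S : Subgroup G))) h
        have key : ∀ a b : ℕ, a ≤ b → b < orderOf f →
            (f ^ a) (x : ↥(S : Subgroup G)) = (f ^ b) x → a = b := by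
          intro a b hle hb e
          have : (f ^ (b - a)) (x : ↥(S : Subgroup G)) = x := by
            apply (f ^ a).injective
            rw [← MulAut.mul_apply, ← pow_add, show a + (b - a) = b by omega, e]
          have hd := Nat.eq_zero_of_dvd_of_lt (orderOf_dvd_of_pow_eq_one (hstab _ this)) (by omega)
          omega
        refine Fin.ext ?_
        rcases le_total (i : ℕ) (j : ℕ) with hle | hle
        · exact key _ _ hle j.2 h'
        · exact (key _ _ hle i.2 h'.symm).symm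
      · rintro ⟨t, ht⟩
        have htG : ((t : ↥(S : Subgroup G)) : G) ≠ 1 := fun e => ht (Subtype.ext (Subtype.ext e))
        obtain ⟨j, hj⟩ := hC.trans _ (mem_subgroupOf.1 x.2) hxG _ (mem_subgroupOf.1 t.2) htG
        refine ⟨⟨j % orderOf f, Nat.mod_lt _ hpos⟩, Subtype.ext (Subtype.ext (Subtype.ext ?_))⟩
        show (((f ^ (j % orderOf f)) (x : ↥(S : Subgroup G)) : ↥(S : Subgroup G)) : G) = _
        rw [pow_mod_orderOf, hfv, hj]
    have hcard := Nat.card_congr (Equiv.ofBijective _ hbij)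
    rw [Nat.card_fin] at hcard
    rw [hcard]
    classical
    letI : Fintype ↥T := Fintype.ofFinite _
    rw [Nat.card_eq_fintype_card, Nat.card_eq_fintype_card, Fintype.card_subtype_compl,
      Fintype.card_subtype_eq]
  have hmul : Nat.card U * Nat.card T = Nat.card ↥(S : Subgroup G) :=
    (Subgroup.isComplement'_of_disjoint_and_mul_eq_univ hcompl.disjoint (by
      rw [← Subgroup.normal_mul, hcompl.sup_eq_top, coe_top])).card_mul_card
  refine hBC ↥(S : Subgroup G) (fun v => Subtype.ext (hel _ v.2)) h16 φ.range hodd hirr f ⟨gn, rfl⟩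
    U T (fun v => Iff.rfl) hTmem hcompl (hcT.symm ▸ hC.four_le) hord ?_ ?_
  · obtain ⟨s, hs, hs1, hfx⟩ := hfix
    intro hU
    have hm : (⟨s, hs⟩ : ↥(S : Subgroup G)) ∈ U := show f ⟨s, hs⟩ = _ from Subtype.ext hfx
    rw [hU, mem_bot] at hm
    exact hs1 (congrArg Subtype.val hm)
  · refine Nat.le_of_mul_le_mul_right ?_ (Nat.card_pos (α := ↥T))
    rw [hmul, hcT, ← pow_two]
    exact hlt

/-- `elementary` in the form of the induction input. -/
theorem elementary' (X : Type u) [Group X] [Finite X] [IsSimpleGroup X] (hnc : ¬ IsMulCommutative X)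
    (S : Sylow 2 X) (hab : ∀ x ∈ (S : Subgroup X), ∀ y ∈ (S : Subgroup X), x * y = y * x)
    (W : Subgroup X) (g : X) (hC : Cycle (S : Subgroup X) W g) (hel : ∀ w ∈ W, w ^ 2 = 1) :
    ∀ s ∈ (S : Subgroup X), s ^ 2 = 1 :=
  elementary (exists_not_comm hnc) S hab hC hel

end CfsgLib.Walter.RankFour
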