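import Cfsg.Agent.Lib.Walter.RankFour.Interface
import Cfsg.Agent.Lib.Components.Local
import Cfsg.Agent.Lib.CentralSylow.Basic
import Cfsg.Agent.Lib.PF.OddOrder

/-!
# Lifting components of involution centralizers to the Sylow 2-subgroup
-/

set_option autoImplicit false
set_option linter.unusedSectionVars false

namespace CfsgLib.Walter.RankFour

open Subgroup Pointwise

universe u

variable {G : Type u} [Group G] [Finite G]

local instance : Fact (Nat.Prime 2) := ⟨Nat.prime_two⟩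

variable (S : Sylow 2 G) (hab : ∀ x ∈ (S : Subgroup G), ∀ y ∈ (S : Subgroup G), x * y = y * x)

include hab

theorem sylow_le_cen {u : G} (hu : u ∈ (S : Subgroup G)) : (S : Subgroup G) ≤ cen u :=
  fun s hs => mem_centralizer_singleton_iff.2 (hab s hs u hu)

omit hab in
theorem eq_one_of_bar_eq_one {u : G} {x : ↥(cen u)} (hx : (x : G) ∈ (S : Subgroup G))
    (h : bar u x = 1) : x = 1 := by
  have h1 : x ∈ Cfsg.pPrimeCore 2 ↥(cen u) := (QuotientGroup.eq_one_iff x).1 h
  have h2 : x ∈ ((S : Subgroup G).subgroupOf (cen u)) ⊓ Cfsg.pPrimeCore 2 ↥(cen u) := ⟨hx, h1⟩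
  have h3 : ((S : Subgroup G).subgroupOf (cen u)) ⊓ Cfsg.pPrimeCore 2 ↥(cen u) = ⊥ :=
    CfsgLib.PCore.inf_eq_bot_of_isPGroup_coprime
      (S.2.comap_of_injective _ (subtype_injective _)) CfsgLib.PCore.pPrimeCore_coprime
  rwa [h3, mem_bot] at h2

omit hab in
theorem bar_injOn {u : G} {x y : ↥(cen u)} (hx : (x : G) ∈ (S : Subgroup G))
    (hy : (y : G) ∈ (S : Subgroup G)) (h : bar u x = bar u y) : x = y := by
  have := eq_one_of_bar_eq_one S (x := x * y⁻¹) (mul_mem hx (inv_mem hy))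
    (by rw [map_mul, map_inv, h, mul_inv_cancel])
  exact mul_inv_eq_one.1 this

/-- The Sylow subgroup of `CenBar u`. -/
theorem exists_sylow_img {u : G} (hu : u ∈ (S : Subgroup G)) :
    ∃ P : Sylow 2 (CenBar u), (P : Subgroup (CenBar u)) = img u (S : Subgroup G) :=
  ⟨(S.subtype (sylow_le_cen S hab hu)).mapSurjective (QuotientGroup.mk'_surjective _),
    by rw [Sylow.coe_mapSurjective, Sylow.coe_subtype]; rfl⟩

theorem img_comm {u : G} : ∀ x ∈ img u (S : Subgroup G), ∀ y ∈ img u (S : Subgroup G), x * y = y * x := by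
  rintro _ ⟨x, hx, rfl⟩ _ ⟨y, hy, rfl⟩
  rw [← map_mul, ← map_mul, show x * y = y * x from Subtype.ext (hab _ hx _ hy)]

omit hab in
theorem mem_piece {u : G} {L : Subgroup (CenBar u)} {x : G} :
    x ∈ piece (S : Subgroup G) u L ↔
      x ∈ (S : Subgroup G) ∧ ∃ h : x ∈ cen u, bar u ⟨x, h⟩ ∈ L := by
  simp only [piece, mem_inf, Subgroup.mem_map, mem_comap, subtype_apply]
  refine and_congr_right fun _ => ⟨?_, fun ⟨h, hL⟩ => ⟨⟨x, h⟩, hL, rfl⟩⟩
  rintro ⟨y, hy, rfl⟩
  exact ⟨y.2, hy⟩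

/-- A lift normalising `S` of an element normalising its image. -/
theorem exists_lift_normalizer {u : G} (hu : u ∈ (S : Subgroup G)) {x : ↥(cen u)}
    (hx : bar u x ∈ normalizer (img u (S : Subgroup G) : Set (CenBar u))) :
    ∃ y : ↥(cen u), (y : G) ∈ normalizer ((S : Subgroup G) : Set G) ∧ bar u y = bar u x := by
  have h := CfsgLib.Components.map_normalizer_quotient (p := 2)
    (O := Cfsg.pPrimeCore 2 ↥(cen u)) CfsgLib.PCore.pPrimeCore_coprime
    (P := (S : Subgroup G).subgroupOf (cen u)) (S.2.comap_of_injective _ (subtype_injective _))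
  obtain ⟨y, hy, hyx⟩ := h.ge hx
  refine ⟨y, ?_, hyx⟩
  have hSC := sylow_le_cen S hab hu
  rw [mem_normalizer_iff]
  intro s
  refine ⟨fun hs => ?_, fun hs => ?_⟩
  · exact (mem_normalizer_iff.1 hy ⟨s, hSC hs⟩).1 hs
  · have hsC : s ∈ cen u := by
      have := mul_mem (mul_mem (inv_mem y.2) (hSC hs)) y.2
      simpa [mul_assoc] using this
    exact (mem_normalizer_iff.1 hy ⟨s, hsC⟩).2 hs

omit hab in
/-- Transferring a cycle from `CenBar u` to `G`. -/
theorem cycle_lift {u : G} (hSC : (S : Subgroup G) ≤ cen u) {L : Subgroup (CenBar u)} {y : ↥(cen u)}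
    (hy : (y : G) ∈ normalizer ((S : Subgroup G) : Set G))
    (hc : Cycle (img u (S : Subgroup G)) (img u (S : Subgroup G) ⊓ L) (bar u y)) :
    Cycle (S : Subgroup G) (piece (S : Subgroup G) u L) (y : G) := by
  refine ⟨hy, fun x hx => hx.1, ?_, fun s hs => ?_, fun a ha ha1 b hb hb1 => ?_⟩
  · refine hc.four_le.trans (Nat.card_le_card_of_surjective
      (fun z : piece (S : Subgroup G) u L =>
        (⟨bar u ⟨z, ((mem_piece S).1 z.2).2.choose⟩,
          ⟨⟨z, ((mem_piece S).1 z.2).2.choose⟩, z.2.1, rfl⟩, ((mem_piece S).1 z.2).2.choose_spec⟩ :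
          (img u (S : Subgroup G) ⊓ L : Subgroup (CenBar u)))) ?_)
    rintro ⟨_, ⟨z, hz, rfl⟩, hzL⟩
    exact ⟨⟨z, (mem_piece S).2 ⟨hz, z.2, hzL⟩⟩, rfl⟩
  · have hs' : (y : G) * s * (y : G)⁻¹ ∈ (S : Subgroup G) := (mem_normalizer_iff.1 hy s).1 hs
    refine (mem_piece S).2 ⟨mul_mem hs' (inv_mem hs), ?_, ?_⟩
    · exact mul_mem (hSC hs') (inv_mem (hSC hs))
    · have h := hc.move _ (mem_map_of_mem (bar u) (show (⟨s, hSC hs⟩ : ↥(cen u)) ∈
        (S : Subgroup G).subgroupOf (cen u) from hs))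
      simp only [← map_mul, ← map_inv] at h
      exact h.2
  · obtain ⟨haS, haC, haL⟩ := (mem_piece S).1 ha
    obtain ⟨hbS, hbC, hbL⟩ := (mem_piece S).1 hb
    obtain ⟨i, hi⟩ := hc.trans (bar u ⟨a, haC⟩) ⟨⟨⟨a, haC⟩, haS, rfl⟩, haL⟩
      (fun h => ha1 (congrArg Subtype.val (eq_one_of_bar_eq_one S (x := ⟨a, haC⟩) haS h)))
      (bar u ⟨b, hbC⟩) ⟨⟨⟨b, hbC⟩, hbS, rfl⟩, hbL⟩
      (fun h => hb1 (congrArg Subtype.val (eq_one_of_bar_eq_one S (x := ⟨b, hbC⟩) hbS h)))
    refine ⟨i, ?_⟩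
    simp only [← map_pow, ← map_mul, ← map_inv] at hi
    have hmem : (y : G) ^ i * a * ((y : G) ^ i)⁻¹ ∈ (S : Subgroup G) :=
      (mem_normalizer_iff.1 (pow_mem hy i) a).1 haS
    exact congrArg Subtype.val (bar_injOn S (x := y ^ i * ⟨a, haC⟩ * (y ^ i)⁻¹) (y := ⟨b, hbC⟩)
      (by simpa using hmem) hbS hi)

/-- A component gives a cycle in `G`. -/
theorem exists_cycle {u : G} (hu : u ∈ (S : Subgroup G))
    (hsf : SplitFacts (img u (S : Subgroup G))) {L : Subgroup (CenBar u)} (hL : Cfsg.IsComponent L) :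
    ∃ y : ↥(cen u), bar u y ∈ L ∧ Cycle (S : Subgroup G) (piece (S : Subgroup G) u L) (y : G) := by
  obtain ⟨g, hgL, hc⟩ := hsf.exists_cycle L hL
  obtain ⟨x, rfl⟩ := QuotientGroup.mk'_surjective _ g
  obtain ⟨y, hy, hyx⟩ := exists_lift_normalizer S hab hu hc.mem_normalizer
  rw [← hyx] at hc hgL
  exact ⟨y, hgL, cycle_lift S (sylow_le_cen S hab hu) hy hc⟩

/-- A perfect lift, inside `C(u) ∩ C(W₀)`, of a component of `CenBar u` centralised by `W₀ ≤ S`, containing
a cycle. -/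
theorem exists_perfect_lift {u : G} (hu : u ∈ (S : Subgroup G)) {W₀ : Subgroup G}
    (hW₀ : W₀ ≤ (S : Subgroup G))
    (hsf : SplitFacts (img u (S : Subgroup G))) {L : Subgroup (CenBar u)} (hL : Cfsg.IsComponent L)
    (hwL : img u W₀ ≤ centralizer (L : Set (CenBar u))) :
    ∃ P : Subgroup G, ⁅P, P⁆ = P ∧ P ≤ cen u ∧ P ≤ centralizer (W₀ : Set G) ∧
      (S : Subgroup G) ≤ normalizer (P : Set G) ∧
      (P.subgroupOf (cen u)).map (bar u) = L ∧
      ∃ g ∈ P, Cycle (S : Subgroup G) (piece (S : Subgroup G) u L) g := by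
  classical
  have hSC := sylow_le_cen S hab hu
  set π := bar u with hπ
  set W₁ : Subgroup ↥(cen u) := W₀.subgroupOf (cen u) with hW₁
  set X : Subgroup ↥(cen u) := L.comap π ⊓ centralizer (W₁ : Set ↥(cen u)) with hXdef
  have hXmap : X.map π = L := by
    refine le_antisymm ((Subgroup.map_mono inf_le_left).trans (map_comap_le _ _)) fun l hl => ?_
    have h := CfsgLib.Components.map_centralizer_quotient (p := 2)
      (O := Cfsg.pPrimeCore 2 ↥(cen u)) CfsgLib.PCore.pPrimeCore_coprime (P := W₁)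
      (S.2.comap_of_injective _ (subtype_injective _) |>.to_le (comap_mono hW₀))
    have hlc : l ∈ centralizer ((W₁.map π : Subgroup (CenBar u)) : Set (CenBar u)) :=
      mem_centralizer_iff.2 fun m hm => (mem_centralizer_iff.1 (hwL hm) l hl).symm
    obtain ⟨c, hc, rfl⟩ := h.ge hlc
    exact ⟨c, ⟨hl, hc⟩, rfl⟩
  obtain ⟨n, hn⟩ : ∃ n, derivedSeries ↥X n = derivedSeries ↥X (n + 1) := by
    by_contra hne
    push_neg at hne
    have hlt : ∀ n, Nat.card ↥(derivedSeries ↥X n) + n ≤ Nat.card ↥X := by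
      intro n
      induction n with
      | zero => simp
      | succ n ih =>
        have h1 : derivedSeries ↥X (n + 1) ≤ derivedSeries ↥X n := derivedSeries_antitone _ (by omega)
        have h2 : Nat.card ↥(derivedSeries ↥X (n + 1)) < Nat.card ↥(derivedSeries ↥X n) := by
          refine lt_of_le_of_ne (Nat.le_of_dvd Nat.card_pos (card_dvd_of_le h1)) fun h => hne n ?_
          exact (Subgroup.eq_of_le_of_card_ge h1 h.ge).symm
        omega
    have h1 := hlt (Nat.card ↥X + 1)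
    omega
  set D := derivedSeries ↥X n with hDdef
  have hDD : ⁅D, D⁆ = D := hn.symm
  set Q : Subgroup ↥(cen u) := D.map X.subtype with hQdef
  set P : Subgroup G := Q.map (cen u).subtype with hPdef
  have hQX : Q ≤ X := map_subtype_le D
  have hPmem : ∀ y : ↥(cen u), (y : G) ∈ P ↔ y ∈ Q := fun y =>
    Subgroup.mem_map_iff_mem (subtype_injective _)
  have hPsub : P.subgroupOf (cen u) = Q := by ext y; rw [mem_subgroupOf, hPmem]
  have hQmap : Q.map π = L := by
    have key : ∀ m, L ≤ ((derivedSeries ↥X m).map X.subtype).map π := by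
      intro m
      induction m with
      | zero =>
        rw [derivedSeries_zero, ← MonoidHom.range_eq_map, range_subtype, hXmap]
      | succ m ih =>
        rw [derivedSeries_succ, map_commutator, map_commutator]
        exact (CfsgLib.Components.component_commutator_self hL).ge.trans (commutator_mono ih ih)
    exact le_antisymm ((Subgroup.map_mono hQX).trans hXmap.le) (key n)
  have hSX : (S : Subgroup G).subgroupOf (cen u) ≤ normalizer (X : Set ↥(cen u)) := by
    intro s hs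
    rw [mem_normalizer_iff]
    intro x
    have hsn : π s ∈ normalizer (L : Set (CenBar u)) :=
      hsf.le_normalizer L hL (mem_map_of_mem π hs)
    simp only [hXdef, mem_inf, mem_comap, map_mul, map_inv, mem_centralizer_iff]
    refine and_congr (mem_normalizer_iff.1 hsn (π x)) (forall₂_congr fun w hw => ?_)
    have hsw : Commute w s := Subtype.ext (hab _ (hW₀ hw) _ hs)
    refine ⟨fun h => ?_, fun h => ?_⟩
    · exact ((hsw.mul_right (show Commute w x from h)).mul_right hsw.inv_right).eq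
    · have h2 := (hsw.inv_right.mul_right (show Commute w (s * x * s⁻¹) from h)).mul_right hsw
      simpa [mul_assoc] using h2.eq
  have hSQ : (S : Subgroup G).subgroupOf (cen u) ≤ normalizer (Q : Set ↥(cen u)) := by
    intro s hs
    haveI : (derivedSeries ↥X n).Characteristic := derivedSeries_characteristic _ _
    exact CfsgLib.Structure.normalizer_le_normalizer_map_subtype X D (hSX hs)
  obtain ⟨g0, hg0L, hc⟩ := hsf.exists_cycle L hL
  obtain ⟨x, hxQ, rfl⟩ : ∃ x ∈ Q, π x = g0 := by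
    rw [← hQmap] at hg0L
    exact hg0L
  set S' := (S : Subgroup G).subgroupOf (cen u) with hS'def
  -- the Sylow conjugation takes place inside `Q S`
  set Y : Subgroup ↥(cen u) := Q ⊔ S' with hYdef
  have hYset : (Y : Set ↥(cen u)) = (Q : Set ↥(cen u)) * S' :=
    coe_mul_of_right_le_normalizer_left Q S' hSQ
  set Z : Subgroup ↥(cen u) := Y ⊓ (img u (S : Subgroup G)).comap π with hZdef
  have hS'Z : S' ≤ Z := le_inf le_sup_right fun s hs => mem_map_of_mem π hs
  have hxS'Z : S'.map (MulAut.conj x).toMonoidHom ≤ Z := by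
    rintro _ ⟨s, hs, rfl⟩
    have hxY : x ∈ Y := mem_sup_left hxQ
    have hsY : s ∈ Y := mem_sup_right hs
    refine ⟨Y.mul_mem (Y.mul_mem hxY hsY) (Y.inv_mem hxY), ?_⟩
    show π (x * s * x⁻¹) ∈ img u (S : Subgroup G)
    rw [map_mul, map_mul, map_inv]
    exact (mem_normalizer_iff.1 hc.mem_normalizer (π s)).1 (mem_map_of_mem π hs)
  obtain ⟨z, hz⟩ := MulAction.exists_smul_eq ↥Z
    (Sylow.subtype (N := Z) (x • S.subtype hSC) (by
      intro y hy
      rw [Sylow.coe_subgroup_smul, Subgroup.mem_smul_pointwise_iff_exists] at hy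
      obtain ⟨s, hs, rfl⟩ := hy
      exact hxS'Z ⟨s, hs, rfl⟩))
    (Sylow.subtype (N := Z) (S.subtype hSC) hS'Z)
  rw [Sylow.smul_subtype] at hz
  have hzs := Sylow.subtype_injective hz
  obtain ⟨a, ha, s, hs, hzas⟩ : ∃ a ∈ Q, ∃ s ∈ S', a * s = (z : ↥(cen u)) := by
    have hzY : (z : ↥(cen u)) ∈ (Y : Set ↥(cen u)) := z.2.1
    rw [hYset] at hzY
    exact hzY
  have hzn : (z : ↥(cen u)) * x ∈ normalizer (S' : Set ↥(cen u)) := by
    have h : ((z : ↥(cen u)) * x) • S.subtype hSC = S.subtype hSC := by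
      rw [mul_smul]; exact hzs
    exact Sylow.smul_eq_iff_mem_normalizer.1 h
  have hs'n : s⁻¹ ∈ normalizer (S' : Set ↥(cen u)) := le_normalizer (inv_mem hs)
  set g : ↥(cen u) := s⁻¹ * ((z : ↥(cen u)) * x) with hgdef
  have hgn : g ∈ normalizer (S' : Set ↥(cen u)) := mul_mem hs'n hzn
  have hgQ : g ∈ Q := by
    have h1 : s⁻¹ * a * s ∈ Q := by
      simpa using (mem_normalizer_iff.1 (hSQ (inv_mem hs)) a).1 ha
    rw [hgdef, ← hzas]
    simpa [mul_assoc] using mul_mem h1 hxQ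
  have hgN : (g : G) ∈ normalizer ((S : Subgroup G) : Set G) := by
    rw [mem_normalizer_iff]
    intro t
    refine ⟨fun ht => (mem_normalizer_iff.1 hgn ⟨t, hSC ht⟩).1 ht, fun ht => ?_⟩
    have htC : t ∈ cen u := by
      have := mul_mem (mul_mem (inv_mem g.2) (hSC ht)) g.2
      simpa [mul_assoc] using this
    exact (mem_normalizer_iff.1 hgn ⟨t, htC⟩).2 ht
  -- the element `g` acts on the image of `S` as `g0`
  have hgx : ∀ t ∈ img u (S : Subgroup G), π g * t * (π g)⁻¹ = π x * t * (π x)⁻¹ := by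
    intro t ht
    have hx' := (mem_normalizer_iff.1 hc.mem_normalizer t).1 ht
    have hzc : π (z : ↥(cen u)) ∈ img u (S : Subgroup G) := z.2.2
    have hsc : π s⁻¹ ∈ img u (S : Subgroup G) := mem_map_of_mem π (inv_mem hs)
    rw [hgdef, map_mul, map_mul]
    have hm := img_comm S hab _ (mul_mem hsc hzc) _ hx'
    calc π s⁻¹ * (π z * π x) * t * (π s⁻¹ * (π z * π x))⁻¹
        = (π s⁻¹ * π z) * (π x * t * (π x)⁻¹) * (π s⁻¹ * π z)⁻¹ := by group
      _ = π x * t * (π x)⁻¹ := by rw [hm, mul_inv_cancel_right]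
  have hcg : Cycle (img u (S : Subgroup G)) (img u (S : Subgroup G) ⊓ L) (π g) := by
    have hN : π g ∈ normalizer (img u (S : Subgroup G) : Set (CenBar u)) := by
      have hh := le_normalizer_map π (mem_map_of_mem π hgn)
      exact hh
    refine ⟨hN, hc.le, hc.four_le, fun t ht => ?_, fun a ha ha1 b hb hb1 => ?_⟩
    · rw [hgx t ht]; exact hc.move t ht
    · obtain ⟨i, hi⟩ := hc.trans a ha ha1 b hb hb1
      refine ⟨i, ?_⟩
      have hpow : ∀ j : ℕ, ∀ t ∈ img u (S : Subgroup G),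
          π g ^ j * t * (π g ^ j)⁻¹ = π x ^ j * t * (π x ^ j)⁻¹ := by
        intro j
        induction j with
        | zero => intro t _; simp
        | succ j ih =>
          intro t ht
          have h1 := (mem_normalizer_iff.1 hc.mem_normalizer t).1 ht
          calc π g ^ (j + 1) * t * (π g ^ (j + 1))⁻¹
              = π g ^ j * (π g * t * (π g)⁻¹) * (π g ^ j)⁻¹ := by rw [pow_succ]; group
            _ = π x ^ j * (π x * t * (π x)⁻¹) * (π x ^ j)⁻¹ := by rw [hgx t ht, ih _ h1]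
            _ = π x ^ (j + 1) * t * (π x ^ (j + 1))⁻¹ := by rw [pow_succ]; group
      rw [hpow i a ha.1]; exact hi
  refine ⟨P, ?_, map_subtype_le Q, ?_, ?_, by rw [hPsub, hQmap], (g : G), (hPmem g).2 hgQ,
    cycle_lift S hSC hgN hcg⟩
  · rw [hPdef, hQdef, ← map_commutator, ← map_commutator, hDD]
  · rintro _ ⟨y, hy, rfl⟩
    exact mem_centralizer_iff.2 fun w hw => congrArg Subtype.val
      (mem_centralizer_iff.1 (hQX hy).2 ⟨w, hSC (hW₀ hw)⟩ hw)
  · intro t ht
    rw [mem_normalizer_iff]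
    intro y
    have hn := mem_normalizer_iff.1 (hSQ (show (⟨t, hSC ht⟩ : ↥(cen u)) ∈ S' from ht))
    refine ⟨?_, fun hy => ?_⟩
    · rintro ⟨y, hy, rfl⟩
      exact ⟨_, (hn y).1 hy, rfl⟩
    · have hyC : y ∈ cen u := by
        have := mul_mem (mul_mem (inv_mem (hSC ht)) ((map_subtype_le Q) hy)) (hSC ht)
        simpa [mul_assoc] using this
      exact (hPmem ⟨y, hyC⟩).2 ((hn ⟨y, hyC⟩).2 ((hPmem _).1 hy))

/-- The special case of one element `w`. -/
theorem exists_perfect_cycle {u w : G} (hu : u ∈ (S : Subgroup G)) (hw : w ∈ (S : Subgroup G))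
    (hsf : SplitFacts (img u (S : Subgroup G))) {L : Subgroup (CenBar u)} (hL : Cfsg.IsComponent L)
    (hwL : bar u ⟨w, sylow_le_cen S hab hu hw⟩ ∈ centralizer (L : Set (CenBar u))) :
    ∃ P : Subgroup G, ⁅P, P⁆ = P ∧ P ≤ cen u ∧ P ≤ cen w ∧
      (S : Subgroup G) ≤ normalizer (P : Set G) ∧
      (P.subgroupOf (cen u)).map (bar u) = L ∧
      ∃ g ∈ P, Cycle (S : Subgroup G) (piece (S : Subgroup G) u L) g := by
  obtain ⟨P, h1, h2, h3, h4, h5, h6⟩ := exists_perfect_lift S hab hu (zpowers_le.2 hw) hsf hL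
    (by
      rintro _ ⟨⟨a, ha⟩, ⟨k, rfl⟩, rfl⟩
      exact zpow_mem hwL k)
  exact ⟨P, h1, h2, h3.trans (centralizer_le (Set.singleton_subset_iff.2 (mem_zpowers w))), h4, h5, h6⟩

end CfsgLib.Walter.RankFour
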