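import Cfsg.Prelude.Def_Exceptional
import Cfsg.Prelude.Def_Sporadic
import Cfsg.Agent.Lib.Walter.Setup
import Cfsg.Agent.Lib.Walter.RankFour.Lift
import Cfsg.Agent.Lib.Walter.RankFour.Split
import Cfsg.Agent.Lib.Walter.RankFour.Irreducible
import Cfsg.Agent.Lib.Walter.RankFour.Blocks
import Cfsg.Agent.Lib.Walter.RankFour.Endgame
import Cfsg.Agent.Lib.Walter.RankFour.BigCommutator
import Cfsg.Agent.Lib.Walter.RankFour.Good
import Cfsg.Agent.Lib.Schur.Basic
import Cfsg.Agent.Lib.SylTwoAbel.Simple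
import Cfsg.Agent.Lib.GW.Done
import Cfsg.Agent.Lib.Walter.CoreGoal

/-!
# Walter's theorem: the induction

Every simple group with abelian Sylow 2-subgroups is `Good`, by induction on the order, and hence is
`PSL(2, q)`, of the order of `J₁` or of the order of a Ree group.  The rank three core facts and the
non-existence in rank at least four are hypotheses.
-/

set_option autoImplicit false
set_option linter.unusedSectionVars false
set_option linter.style.haveILetI false

namespace CfsgLib.Walter.RankFour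

open Subgroup

universe u

local instance : Fact (Nat.Prime 2) := ⟨Nat.prime_two⟩

section Components

variable {H : Type u} [Group H] [Finite H] (P : Sylow 2 H)
  (hab : ∀ x ∈ (P : Subgroup H), ∀ y ∈ (P : Subgroup H), x * y = y * x)

include hab

/-- With abelian Sylow 2-subgroups every 2-subgroup is abelian. -/
theorem comm_of_isPGroup_two {A : Subgroup H} (hA : IsPGroup 2 A) {a b : H} (ha : a ∈ A) (hb : b ∈ A) :
    a * b = b * a := by
  obtain ⟨Q, hQ⟩ := hA.exists_le_sylow
  obtain ⟨g, hg⟩ := MulAction.exists_smul_eq H Q P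
  have hm : ∀ x ∈ A, g * x * g⁻¹ ∈ (P : Subgroup H) := fun x hx => by
    rw [← hg, Sylow.coe_subgroup_smul]
    exact ⟨x, hQ hx, rfl⟩
  have := hab _ (hm a ha) _ (hm b hb)
  exact mul_right_cancel (b := g⁻¹) (mul_left_cancel (a := g) (by
    simpa [mul_assoc] using this))

/-- The centre of a component of a core-free group with abelian Sylow 2-subgroups is trivial. -/
theorem center_component_eq_bot (hO : Cfsg.pPrimeCore 2 H = ⊥) {L : Subgroup H}
    (hL : Cfsg.IsComponent L) : center ↥L = ⊥ := by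
  have hOL : Cfsg.pPrimeCore 2 ↥L = ⊥ := by
    have := CfsgLib.PCore.map_pPrimeCore_subtype_of_isSubnormal (p := 2) hL.1
    rw [hO, le_bot_iff] at this
    exact (map_eq_bot_iff_of_injective _ (subtype_injective L)).1 this
  have hZ : IsPGroup 2 ↥(center ↥L) := by
    refine IsPGroup.iff_card.2 ⟨_, Nat.eq_prime_pow_of_unique_prime_dvd Nat.card_pos.ne' ?_⟩
    intro q hq hdvd
    by_contra hne
    haveI : Fact q.Prime := ⟨hq⟩
    obtain ⟨⟨z, hz⟩, hzq⟩ := exists_prime_orderOf_dvd_card' q hdvd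
    rw [Subgroup.orderOf_mk] at hzq
    have hn : (zpowers z).Normal := ⟨fun n hn g => by
      have hnc : n ∈ center ↥L := (zpowers_le.2 hz) hn
      rwa [mem_center_iff.1 hnc g, mul_inv_cancel_right]⟩
    have hle := CfsgLib.PCore.le_pPrimeCore (p := 2) hn (by
      rw [Nat.card_zpowers, hzq]
      exact (Nat.coprime_primes hq Nat.prime_two).2 hne)
    rw [hOL, le_bot_iff, zpowers_eq_bot] at hle
    rw [hle, orderOf_one] at hzq
    exact hq.ne_one hzq.symm
  obtain ⟨T, hT⟩ := hZ.exists_le_sylow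
  rw [eq_bot_iff]
  intro z hz
  have hz' := CfsgLib.Schur.center_commutator_sylow T hz
    (by rw [CfsgLib.Components.quasisimple_commutator_eq_top hL.2]; trivial) (hT hz)
  have hTab : ⁅(T : Subgroup ↥L), (T : Subgroup ↥L)⁆ = ⊥ := by
    rw [commutator_eq_bot_iff_le_centralizer]
    intro a ha
    rw [mem_centralizer_iff]
    intro b hb
    refine Subtype.ext (comm_of_isPGroup_two P hab (T.2.map L.subtype) ?_ ?_)
    · exact mem_map_of_mem L.subtype hb
    · exact mem_map_of_mem L.subtype ha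
  rwa [hTab] at hz'

/-- A component of a core-free group with abelian Sylow 2-subgroups is simple, non-abelian, with abelian
Sylow 2-subgroups. -/
theorem component_facts (hO : Cfsg.pPrimeCore 2 H = ⊥) {L : Subgroup H} (hL : Cfsg.IsComponent L) :
    IsSimpleGroup ↥L ∧ ¬ IsMulCommutative ↥L ∧
      ∀ T : Sylow 2 ↥L, IsMulCommutative ↥(T : Subgroup ↥L) := by
  refine ⟨?_, CfsgLib.Components.quasisimple_not_isMulCommutative hL.2, fun T => ?_⟩
  · haveI := hL.2.2
    haveI : Nontrivial ↥L := CfsgLib.Components.quasisimple_nontrivial hL.2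
    let e : ↥L ⧸ center ↥L ≃* ↥L :=
      (QuotientGroup.quotientMulEquivOfEq (center_component_eq_bot P hab hO hL)).trans
        QuotientGroup.quotientBot
    exact IsSimpleGroup.isSimpleGroup_of_surjective e.toMonoidHom e.surjective
  · exact ⟨⟨fun a b => Subtype.ext (Subtype.ext (comm_of_isPGroup_two P hab (T.2.map L.subtype)
      (mem_map_of_mem L.subtype a.2) (mem_map_of_mem L.subtype b.2)))⟩⟩

/-- A core-free non-solvable group with abelian Sylow 2-subgroups has a component. -/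
theorem exists_component_of_not_isSolvable (hO : Cfsg.pPrimeCore 2 H = ⊥)
    (hns : ¬ Group.IsSolvable H) : ∃ L : Subgroup H, Cfsg.IsComponent L := by
  by_contra hne
  push Not at hne
  have hc := CfsgLib.Components.centralizer_pCore_le_of_no_component hO hne
  have hle := CfsgLib.PCore.pCore_le_sylow (p := 2) P
  have hP : (P : Subgroup H) ≤ Cfsg.pCore 2 H := fun x hx =>
    hc (mem_centralizer_iff.2 fun y hy => hab y (hle hy) x hx)
  have hodd : Odd (Nat.card (H ⧸ Cfsg.pCore 2 H)) := by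
    rw [← index_eq_card, ← Nat.not_even_iff_odd, even_iff_two_dvd]
    exact fun h => P.not_dvd_index (h.trans (index_dvd_of_le hP))
  haveI := (CfsgLib.PCore.pCore_isPGroup (p := 2) (G := H)).isNilpotent
  haveI : Group.IsSolvable (H ⧸ Cfsg.pCore 2 H) := CfsgLib.PF.oddSolvable _ hodd
  exact hns (Group.isSolvable_of_ker_le_range (Cfsg.pCore 2 H).subtype
    (QuotientGroup.mk' (Cfsg.pCore 2 H)) (by simp))

end Components

section Centralizers

variable {G : Type u} [Group G] [Finite G]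

theorem pPrimeCore_cenBar (u : G) : Cfsg.pPrimeCore 2 (CenBar u) = ⊥ :=
  CfsgLib.PCore.pPrimeCore_quotient_pPrimeCore

theorem cenBar_not_isSolvable {u : G} (hns : ¬ Group.IsSolvable ↥(cen u)) :
    ¬ Group.IsSolvable (CenBar u) := fun h => by
  haveI := h
  haveI : Group.IsSolvable ↥(Cfsg.pPrimeCore 2 ↥(cen u)) := CfsgLib.PF.oddSolvable _
    (Nat.coprime_two_right.1 CfsgLib.PCore.pPrimeCore_coprime)
  exact hns (Group.isSolvable_of_ker_le_range (Cfsg.pPrimeCore 2 ↥(cen u)).subtype (bar u) (by simp))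

theorem cen_ne_top [IsSimpleGroup G] (hG : ¬ IsMulCommutative G) {u : G} (hu : u ≠ 1) :
    cen u ≠ ⊤ := by
  intro h
  have hz : u ∈ center G := mem_center_iff.2 fun g =>
    mem_centralizer_singleton_iff.1 (show g ∈ cen u by rw [h]; trivial)
  rcases (inferInstance : (center G).Normal).eq_bot_or_eq_top with hb | ht
  · rw [hb, mem_bot] at hz
    exact hu hz
  · exact hG (center_eq_top_iff.1 ht)

/-- The induction hypothesis makes all components good. -/
theorem goodAt_of_smaller [IsSimpleGroup G] (hG : ¬ IsMulCommutative G) (S : Sylow 2 G)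
    (hab : ∀ x ∈ (S : Subgroup G), ∀ y ∈ (S : Subgroup G), x * y = y * x)
    (ih : ∀ (X : Type u) [Group X] [Finite X] [IsSimpleGroup X], ¬ IsMulCommutative X →
      ∀ T : Sylow 2 X, IsMulCommutative ↥(T : Subgroup X) → Nat.card X < Nat.card G → Good X) :
    GoodAt (S : Subgroup G) := by
  intro u hu hu1 L hL
  obtain ⟨P, hP⟩ := exists_sylow_img S hab hu
  have hPab : ∀ x ∈ (P : Subgroup (CenBar u)), ∀ y ∈ (P : Subgroup (CenBar u)), x * y = y * x := by
    rw [hP]; exact img_comm S hab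
  obtain ⟨hsimp, hnc, hT⟩ := component_facts P hPab (pPrimeCore_cenBar u) hL
  haveI := hsimp
  refine ih ↥L hnc default (hT _) ?_
  calc Nat.card ↥L ≤ Nat.card (CenBar u) := card_le_card_group L
    _ ≤ Nat.card ↥(cen u) := Nat.card_le_card_of_surjective _ (QuotientGroup.mk'_surjective _)
    _ < Nat.card G := CfsgLib.Components.card_lt_card_of_ne_top (cen_ne_top hG hu1)

/-- A non-solvable involution centraliser may be taken at an element of the Sylow subgroup. -/
theorem exists_mem_not_isSolvable (S : Sylow 2 G)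
    (h : ¬ ∀ t : G, orderOf t = 2 → Group.IsSolvable ↥(centralizer ({t} : Set G))) :
    ∃ u ∈ (S : Subgroup G), u ≠ 1 ∧ ¬ Group.IsSolvable ↥(cen u) := by
  push Not at h
  obtain ⟨t, ht, hns⟩ := h
  obtain ⟨Q, hQ⟩ := (IsPGroup.of_card (n := 1) (p := 2)
    (show Nat.card (zpowers t) = 2 ^ 1 by rw [Nat.card_zpowers, ht, pow_one])).exists_le_sylow
  obtain ⟨g, hg⟩ := MulAction.exists_smul_eq G Q S
  refine ⟨g * t * g⁻¹, ?_, fun h1 => ?_, fun hs => hns ?_⟩
  · rw [← hg, Sylow.coe_subgroup_smul]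
    exact ⟨t, hQ (mem_zpowers t), rfl⟩
  · rw [conj_eq_one_iff] at h1
    rw [h1, orderOf_one] at ht
    norm_num at ht
  · haveI := hs
    have hle : ∀ x : ↥(centralizer ({t} : Set G)), g * (x : G) * g⁻¹ ∈ cen (g * t * g⁻¹) := fun x => by
      refine mem_centralizer_singleton_iff.2 ?_
      have := mem_centralizer_singleton_iff.1 x.2
      calc g * (x : G) * g⁻¹ * (g * t * g⁻¹) = g * ((x : G) * t) * g⁻¹ := by group
        _ = g * t * g⁻¹ * (g * (x : G) * g⁻¹) := by rw [this]; group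
    exact Group.isSolvable_of_isSolvable_injective
      (f := ((MulAut.conj g).toMonoidHom.comp (centralizer ({t} : Set G)).subtype).codRestrict _ hle)
      fun x y hxy => Subtype.ext ((MulAut.conj g).injective (congrArg Subtype.val hxy))

end Centralizers

theorem exists_mul_ne {X : Type u} [Group X] (h : ¬ IsMulCommutative X) : ∃ a b : X, a * b ≠ b * a := by
  by_contra hne
  push Not at hne
  exact h ⟨⟨hne⟩⟩

/-- The rank three core facts. -/
theorem rank_three (hD : CoreFree.{u}) (X : Type u) [Group X] [Finite X] (E : Setup X) {d : X}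
    (hd : orderOf d = 2) : Cfsg.centralizerPPrimeCore 2 d = ⊥ := by
  have hlt : Nat.card X < Nat.card (X × Multiplicative (ZMod 2)) := by
    have h2 : Nat.card (Multiplicative (ZMod 2)) = 2 := by simp
    rw [Nat.card_prod, h2]
    have := Nat.card_pos (α := X)
    omega
  have h := smallCore hD (X × Multiplicative (ZMod 2)) X E.simple hlt E.S ⟨E.card_S, E.sq⟩ d hd
  exact (map_eq_bot_iff_of_injective _ (subtype_injective _)).2 h

/-- No simple group has an elementary Sylow 2-subgroup of order at least sixteen, good components and a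
non-solvable involution centraliser. -/
theorem rank_four_false (hBC : BigCommutator.{u}) {G : Type u} [Group G] [Finite G] [IsSimpleGroup G]
    (hG : ¬ IsMulCommutative G) (S : Sylow 2 G) (hel : ∀ s ∈ (S : Subgroup G), s ^ 2 = 1)
    (h16 : 16 ≤ Nat.card ↥(S : Subgroup G)) (hgood : GoodAt (S : Subgroup G))
    (hns : ∃ u ∈ (S : Subgroup G), u ≠ 1 ∧ ¬ Group.IsSolvable ↥(cen u)) : False := by
  have hab : ∀ x ∈ (S : Subgroup G), ∀ y ∈ (S : Subgroup G), x * y = y * x := fun x hx y hy =>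
    comm_of_elementary hel hx hy
  have hP : ∀ u ∈ (S : Subgroup G), ∃ P : Sylow 2 (CenBar u),
      (P : Subgroup (CenBar u)) = img u (S : Subgroup G) ∧
      ∀ x ∈ (P : Subgroup (CenBar u)), ∀ y ∈ (P : Subgroup (CenBar u)), x * y = y * x := fun u hu => by
    obtain ⟨P, hP⟩ := exists_sylow_img S hab hu
    exact ⟨P, hP, fun x hx y hy => img_comm S hab x (hP.le hx) y (hP.le hy)⟩
  have hsf : ∀ u ∈ (S : Subgroup G), u ≠ 1 → SplitFacts (img u (S : Subgroup G)) := fun u hu hu1 => by
    obtain ⟨P, hPe, hPab⟩ := hP u hu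
    rw [← hPe]
    exact splitFacts (pPrimeCore_cenBar u) P hPab (hgood u hu hu1)
  have hcard : ∀ W : Subgroup G, ∀ g : G, Cycle (S : Subgroup G) W g →
      (∃ s ∈ (S : Subgroup G), s ≠ 1 ∧ g * s * g⁻¹ = s) → Nat.card W ^ 2 < Nat.card (S : Subgroup G) :=
    fun W g hc hfix => card_piece_lt hBC (exists_mul_ne hG) S hab hel h16 hc hfix
  have hex : ∃ u ∈ (S : Subgroup G), u ≠ 1 ∧ ∃ L : Subgroup (CenBar u), Cfsg.IsComponent L := by
    obtain ⟨u, hu, hu1, hn⟩ := hns
    obtain ⟨P, -, hPab⟩ := hP u hu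
    exact ⟨u, hu, hu1, exists_component_of_not_isSolvable P hPab (pPrimeCore_cenBar u)
      (cenBar_not_isSolvable hn)⟩
  obtain ⟨B⟩ := exists_blocks S hab hel hsf hcard
    (eq_bot_or_eq (exists_mul_ne hG) S hab hel) hex
  exact false_of_blocks hG S hel ⟨⟨fun a b => Subtype.ext (hab a a.2 b b.2)⟩⟩ hgood B hns

section Cases

variable {G : Type u} [Group G] [Finite G] [IsSimpleGroup G]

/-- A non-solvable involution centraliser makes the Sylow subgroup elementary. -/
theorem elementary_of_goodAt (hG : ¬ IsMulCommutative G) (S : Sylow 2 G)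
    (hab : ∀ x ∈ (S : Subgroup G), ∀ y ∈ (S : Subgroup G), x * y = y * x)
    (hgood : GoodAt (S : Subgroup G)) {u : G} (hu : u ∈ (S : Subgroup G)) (hu1 : u ≠ 1)
    (hns : ¬ Group.IsSolvable ↥(cen u)) : ∀ s ∈ (S : Subgroup G), s ^ 2 = 1 := by
  obtain ⟨P, hP⟩ := exists_sylow_img S hab hu
  have hPab : ∀ x ∈ (P : Subgroup (CenBar u)), ∀ y ∈ (P : Subgroup (CenBar u)), x * y = y * x := by
    rw [hP]; exact img_comm S hab
  have hsf := splitFacts (pPrimeCore_cenBar u) P hPab (hgood u hu hu1)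
  obtain ⟨L, hL⟩ := exists_component_of_not_isSolvable P hPab (pPrimeCore_cenBar u)
    (cenBar_not_isSolvable hns)
  obtain ⟨y, -, hc⟩ := exists_cycle S hab hu (hP ▸ hsf) hL
  refine elementary (exists_mul_ne hG) S hab hc (fun s hs => ?_)
  obtain ⟨hsS, hsC, hsL⟩ := (mem_piece S).1 hs
  have hsub : IsPGroup 2 ↥((P : Subgroup (CenBar u)).subgroupOf L) :=
    P.2.comap_of_injective _ (subtype_injective L)
  obtain ⟨T, hT⟩ := hsub.exists_le_sylow
  have h2 := (hgood u hu hu1 L hL).elementary T ⟨_, hsL⟩ (hT (by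
    rw [mem_subgroupOf]
    show bar u ⟨s, hsC⟩ ∈ (P : Subgroup (CenBar u))
    rw [hP]
    exact mem_map_of_mem _ hsS))
  have h3 : bar u (⟨s, hsC⟩ ^ 2) = 1 := by
    rw [map_pow]; exact congrArg Subtype.val h2
  have := congrArg Subtype.val (eq_one_of_bar_eq_one S (x := (⟨s, hsC⟩ : ↥(cen u)) ^ 2)
    (by simpa using pow_mem hsS 2) h3)
  simpa using this

/-- The four cases. -/
theorem trichotomy (hG : ¬ IsMulCommutative G) (S : Sylow 2 G)
    (hab : ∀ x ∈ (S : Subgroup G), ∀ y ∈ (S : Subgroup G), x * y = y * x)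
    (hgood : GoodAt (S : Subgroup G)) :
    (∀ t : G, orderOf t = 2 → Group.IsSolvable ↥(centralizer ({t} : Set G))) ∨
      Cfsg.PRankLE 2 2 ↥(S : Subgroup G) ∨
      (Nat.card ↥(S : Subgroup G) = 8 ∧ (∀ s ∈ (S : Subgroup G), s ^ 2 = 1) ∧
        ∃ u ∈ (S : Subgroup G), u ≠ 1 ∧ ¬ Group.IsSolvable ↥(cen u)) := by
  by_cases hC : ∀ t : G, orderOf t = 2 → Group.IsSolvable ↥(centralizer ({t} : Set G))
  · exact Or.inl hC
  right
  obtain ⟨u, hu, hu1, hns⟩ := exists_mem_not_isSolvable S hC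
  have hel := elementary_of_goodAt hG S hab hgood hu hu1 hns
  obtain ⟨k, hk⟩ := IsPGroup.iff_card.1 S.2
  rcases le_or_gt k 2 with hk2 | hk2
  · exact Or.inl fun A _ _ => (card_le_card_group A).trans
      (hk.le.trans (Nat.pow_le_pow_right two_pos hk2))
  rcases eq_or_ne k 3 with rfl | hk3
  · exact Or.inr ⟨by rw [hk]; norm_num, hel, u, hu, hu1, hns⟩
  exfalso
  refine rank_four_false bigCommutator hG S hel ?_ hgood ⟨u, hu, hu1, hns⟩
  rw [hk]
  exact (show 16 = 2 ^ 4 by norm_num).le.trans (Nat.pow_le_pow_right two_pos (by omega))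

/-- The rank three configuration. -/
theorem exists_setup (hG : ¬ IsMulCommutative G) (S : Sylow 2 G)
    (h8 : Nat.card ↥(S : Subgroup G) = 8) (hel : ∀ s ∈ (S : Subgroup G), s ^ 2 = 1)
    (hu : ∃ u ∈ (S : Subgroup G), u ≠ 1 ∧ ¬ Group.IsSolvable ↥(cen u)) :
    ∃ E : Setup G, E.S = S := by
  obtain ⟨u, hu, hu1, hns⟩ := hu
  exact ⟨⟨inferInstance, hG, S, h8, fun x hx => (pow_two x).symm.trans (hel x hx), u, hu, hu1, hns⟩, rfl⟩

end Cases

/-- Every simple group with abelian Sylow 2-subgroups is good. -/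
theorem good_all (hD : CoreFree.{u}) (X : Type u) [Group X] [Finite X] [IsSimpleGroup X]
    (hX : ¬ IsMulCommutative X) (S : Sylow 2 X) (hS : IsMulCommutative ↥(S : Subgroup X)) : Good X := by
  suffices h : ∀ (n : ℕ) (X : Type u) [Group X] [Finite X] [IsSimpleGroup X], Nat.card X = n →
      ¬ IsMulCommutative X → ∀ S : Sylow 2 X, IsMulCommutative ↥(S : Subgroup X) → Good X from
    h _ X rfl hX S hS
  intro n
  induction n using Nat.strong_induction_on with
  | _ n ih =>
    intro X _ _ _ hn hX S hS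
    have hab : ∀ x ∈ (S : Subgroup X), ∀ y ∈ (S : Subgroup X), x * y = y * x := fun x hx y hy =>
      congrArg Subtype.val (hS.is_comm.comm (⟨x, hx⟩ : (S : Subgroup X)) ⟨y, hy⟩)
    have hgood : GoodAt (S : Subgroup X) := goodAt_of_smaller hX S hab
      fun Y _ _ _ hY T hT hlt => ih _ (hn ▸ hlt) Y rfl hY T hT
    rcases trichotomy hX S hab hgood with h | h | ⟨h8, hel, hu⟩
    · exact good_of_solvable hX S hab h
    · exact good_of_four hX S hab h
    · obtain ⟨E, rfl⟩ := exists_setup hX S h8 hel hu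
      obtain ⟨d, hd, hd1, hns⟩ := hu
      exact good_of_eight hX E.S h8 hel ⟨d, E.orderOf_eq_two hd hd1, hns⟩
        fun d hd => rank_three hD X E hd

/-- A simple group with abelian Sylow 2-subgroup of rank at most two is `PSL(2, q)`, `q ≡ 3, 5 (mod 8)`. -/
theorem exists_psl_of_rank_two {G : Type u} [Group G] [Finite G] [IsSimpleGroup G]
    (hG : ¬ IsMulCommutative G) (S : Sylow 2 G)
    (hcomm : ∀ x ∈ (S : Subgroup G), ∀ y ∈ (S : Subgroup G), x * y = y * x)
    (h2 : Cfsg.PRankLE 2 2 ↥(S : Subgroup G)) :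
    ∃ (F : Type) (_ : Field F) (_ : Fintype F), (Fintype.card F % 8 = 3 ∨ Fintype.card F % 8 = 5) ∧
      Nonempty (G ≃* Matrix.ProjectiveSpecialLinearGroup (Fin 2) F) := by
  classical
  let F16 := GaloisField 2 4
  letI : Fintype F16 := Fintype.ofFinite _
  have hF16 : Fintype.card F16 = 16 := by
    rw [← Nat.card_eq_fintype_card, GaloisField.card 2 4 (by norm_num)]; norm_num
  have hFT : CfsgLib.FTCons.OddSolvable.{u} := fun X i1 i2 hX =>
    @CfsgLib.PF.oddSolvable.{u} X i1 i2 hX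
  have hSab : ∀ a b : ↥(S : Subgroup G), a * b = b * a := fun a b => Subtype.ext (hcomm _ a.2 _ b.2)
  rcases CfsgLib.RankTwoTypes.sylow_types_of_oddSolvable hFT hG
      (CfsgLib.SylTwoAbel.prankLE_of_sylow S h2) S hF16
      (Classical.arbitrary (Sylow 2 (Cfsg.PSU 3 F16 4))) with
    ⟨n, hn, ⟨e⟩⟩ | ⟨n, hn, -, x, y, hx, hy, hxy⟩ | ⟨n, hn, -, x, y, z, hx, -, hdisj, -, hzx⟩ | ⟨⟨e⟩⟩
  · have hn2 : n = 2 := by
      have h := congrArg e (hSab (e.symm (DihedralGroup.sr 0)) (e.symm (DihedralGroup.r 1)))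
      rw [map_mul, map_mul, e.apply_symm_apply, e.apply_symm_apply, DihedralGroup.sr_mul_r,
        DihedralGroup.r_mul_sr, DihedralGroup.sr.injEq] at h
      have h2 : ((2 : ℕ) : ZMod n) = 0 := by linear_combination h
      rw [ZMod.natCast_eq_zero_iff] at h2
      have := Nat.le_of_dvd two_pos h2
      omega
    subst hn2
    haveI : Group.IsPerfect G := Group.isPerfect_def.2
      ((Subgroup.Normal.eq_bot_or_eq_top (show (commutator G).Normal by infer_instance)).resolve_left
        fun h => hG ⟨⟨fun a b => by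
          rw [← commutatorElement_eq_one_iff_mul_comm, ← Subgroup.mem_bot, ← h]
          exact Subgroup.commutator_mem_commutator (Subgroup.mem_top _) (Subgroup.mem_top _)⟩⟩)
    obtain ⟨i, hi⟩ := exists_prime_orderOf_dvd_card' (G := G) 2
      (CfsgLib.RankTwoTypes.two_dvd_card_of_oddSolvable hFT hG)
    have hO : Cfsg.oddCore G = ⊥ := CoreKill.oddCore_eq_bot_of_simple hi
    have e0 : G ⧸ Cfsg.oddCore G ≃* G :=
      (QuotientGroup.quotientMulEquivOfEq hO).trans QuotientGroup.quotientBot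
    have hS4 : Nat.card ↥(S : Subgroup G) = 4 := by
      rw [Nat.card_congr e.toEquiv, DihedralGroup.nat_card]
    have h8 : ¬ 8 ∣ Nat.card G := fun h => S.not_dvd_index (by
      rw [← (S : Subgroup G).card_mul_index, hS4] at h
      omega)
    rcases CfsgLib.GW.Done.classification G S 2 le_rfl ⟨e⟩ with ⟨F, iF, iFt, hodd, -, ⟨f⟩⟩ | ⟨⟨f⟩⟩
    · exact ⟨F, iF, iFt, @CfsgLib.SylTwoAbel.card_mod_eight F iF iFt hodd
        (by rwa [← Nat.card_congr (e0.symm.trans f).toEquiv]), ⟨e0.symm.trans f⟩⟩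
    · exfalso
      refine h8 ?_
      rw [Nat.card_congr (e0.symm.trans f).toEquiv, nat_card_alternatingGroup, Nat.card_fin]
      decide
  · exfalso
    rw [hSab y x, mul_inv_cancel_right] at hxy
    have h2 : 2 ^ n ∣ 2 ^ (n - 1) - 1 - 1 := by
      rw [← hx]
      refine orderOf_dvd_of_pow_eq_one ?_
      apply mul_left_cancel (a := x)
      rw [← pow_succ', mul_one, Nat.sub_add_cancel ?_, ← hxy]
      have := Nat.pow_le_pow_right two_pos (show 2 ≤ n - 1 by omega)
      omega
    have h4 := Nat.pow_le_pow_right two_pos (show 2 ≤ n - 1 by omega)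
    have h5 : 2 ^ n = 2 * 2 ^ (n - 1) := by rw [← pow_succ', Nat.sub_add_cancel (by omega)]
    have := Nat.le_of_dvd (by omega) h2
    omega
  · exfalso
    rw [hSab z x, mul_inv_cancel_right] at hzx
    subst hzx
    rw [inf_idem, Subgroup.zpowers_eq_bot] at hdisj
    rw [hdisj, orderOf_one] at hx
    exact absurd hx (Nat.one_lt_two_pow (by omega)).ne
  · exfalso
    obtain ⟨-, hk, -, hz, -⟩ := Cfsg.Agent.S1248.result hF16
      (Classical.arbitrary (Sylow 2 (Cfsg.PSU 3 F16 4)))
    haveI := hk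
    have hab : IsMulCommutative ↥((Classical.arbitrary (Sylow 2 (Cfsg.PSU 3 F16 4))) :
        Subgroup (Cfsg.PSU 3 F16 4)) :=
      ⟨⟨fun a b => e.symm.injective (by rw [map_mul, map_mul]; exact hSab _ _)⟩⟩
    have h1 := (commutator_eq_bot_iff_center_eq_top _).2
      (Subgroup.eq_top_iff' _ |>.2 fun g => Subgroup.mem_center_iff.2 fun h => hab.is_comm.comm h g)
    rw [← hz] at h1
    have h4 := IsKleinFour.card_four (G := ↥(Subgroup.center
      ↥((Classical.arbitrary (Sylow 2 (Cfsg.PSU 3 F16 4))) : Subgroup (Cfsg.PSU 3 F16 4))))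
    rw [h1, Subgroup.card_bot] at h4
    omega

/-- Walter's theorem from the inputs. -/
theorem walter (hD : CoreFree.{u}) (hcore : CoreGoal.{u}) {G : Type u} [Group G] [Finite G] [IsSimpleGroup G]
    (hG : ¬ IsMulCommutative G) (S : Sylow 2 G) (hS : IsMulCommutative (S : Subgroup G)) :
    (∃ a : ℕ, 2 ≤ a ∧ ∃ (F : Type) (_ : Field F) (_ : Fintype F), Fintype.card F = 2 ^ a ∧
        Nonempty (G ≃* Matrix.ProjectiveSpecialLinearGroup (Fin 2) F)) ∨
      (∃ (F : Type) (_ : Field F) (_ : Fintype F), (Fintype.card F % 8 = 3 ∨ Fintype.card F % 8 = 5) ∧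
        Nonempty (G ≃* Matrix.ProjectiveSpecialLinearGroup (Fin 2) F)) ∨
      Cfsg.IsRee G ∨ Cfsg.IsJ1 G := by
  have hab : ∀ x ∈ (S : Subgroup G), ∀ y ∈ (S : Subgroup G), x * y = y * x := fun x hx y hy =>
    congrArg Subtype.val (hS.is_comm.comm (⟨x, hx⟩ : (S : Subgroup G)) ⟨y, hy⟩)
  have hgood : GoodAt (S : Subgroup G) := goodAt_of_smaller hG S hab
    fun Y _ _ _ hY T hT _ => good_all hD Y hY T hT
  rcases trichotomy hG S hab hgood with h | h | ⟨h8, hel, hu⟩
  · have hns : ¬ Group.IsSolvable G := fun hs =>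
      hG ⟨⟨fun a b => IsSimpleGroup.comm_iff_isSolvable.2 hs a b⟩⟩
    obtain ⟨F, iF, iFt, hq, he⟩ :=
      CfsgLib.SylTwoAbel.exists_psl_of_simple CfsgLib.GW.Done.classification hns S hab h
    rcases hq with ⟨hq, -⟩ | ⟨n, hn, hq⟩
    · exact Or.inr (Or.inl ⟨F, iF, iFt, hq, he⟩)
    · exact Or.inl ⟨n, hn, F, iF, iFt, hq, he⟩
  · exact Or.inr (Or.inl (exists_psl_of_rank_two hG S hab h))
  · obtain ⟨E, -⟩ := exists_setup hG S h8 hel hu
    rcases hcore G E with h | h
    · exact Or.inr (Or.inr (Or.inr h))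
    · exact Or.inr (Or.inr (Or.inl h))

/-- Walter's theorem from the three rank three inputs. -/
theorem walter_of (hD : CoreFree.{u}) (hF : FieldFree.{u}) (hO : OrderTheorem.{u}) {G : Type u} [Group G]
    [Finite G] [IsSimpleGroup G] (hG : ¬ IsMulCommutative G) (S : Sylow 2 G)
    (hS : IsMulCommutative (S : Subgroup G)) :
    (∃ a : ℕ, 2 ≤ a ∧ ∃ (F : Type) (_ : Field F) (_ : Fintype F), Fintype.card F = 2 ^ a ∧
        Nonempty (G ≃* Matrix.ProjectiveSpecialLinearGroup (Fin 2) F)) ∨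
      (∃ (F : Type) (_ : Field F) (_ : Fintype F), (Fintype.card F % 8 = 3 ∨ Fintype.card F % 8 = 5) ∧
        Nonempty (G ≃* Matrix.ProjectiveSpecialLinearGroup (Fin 2) F)) ∨
      Cfsg.IsRee G ∨ Cfsg.IsJ1 G :=
  walter hD (coreGoal_of hD hF hO) hG S hS

end CfsgLib.Walter.RankFour
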