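import Mathlib

/-!
# Powers of a linear map of order `|M| - 1`

A linear map `f` of a finite vector space `M` over `ZMod 2` of multiplicative order exactly `|M| - 1`
permutes the non-zero vectors transitively (Cayley-Hamilton).
-/

set_option autoImplicit false

namespace CfsgLib.Walter.RankFour.Cycle

open Polynomial

/-- Every polynomial in `f` is zero or a power of `f`. -/
theorem aeval_eq_zero_or_pow {M : Type*} [AddCommGroup M] [Finite M] [Module (ZMod 2) M]
    (f : Module.End (ZMod 2) M) (h2 : 2 ≤ Nat.card M) (hone : f ^ (Nat.card M - 1) = 1)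
    (hne : ∀ j, 0 < j → j < Nat.card M - 1 → f ^ j ≠ 1) (p : (ZMod 2)[X]) :
    aeval f p = 0 ∨ ∃ j, j < Nat.card M - 1 ∧ aeval f p = f ^ j := by
  classical
  have hcard : Nat.card M = 2 ^ Module.finrank (ZMod 2) M := by
    rw [Module.natCard_eq_pow_finrank (K := ZMod 2), Nat.card_zmod]
  set a := Module.finrank (ZMod 2) M with ha
  set N := Nat.card M - 1 with hN
  have ha0 : 0 < a := by
    rcases Nat.eq_zero_or_pos a with h | h
    · rw [hcard, h] at h2; norm_num at h2
    · exact h
  let E : (Fin a → ZMod 2) → Module.End (ZMod 2) M := fun c => ∑ i, c i • f ^ (i : ℕ)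
  have hall : ∀ q : (ZMod 2)[X], ∃ c, E c = aeval f q := by
    intro q
    have hchi1 : f.charpoly ≠ 1 := by
      intro h
      have := congrArg natDegree h
      rw [LinearMap.charpoly_natDegree, natDegree_one] at this
      omega
    have hdeg : (q %ₘ f.charpoly).natDegree < a := by
      have := natDegree_modByMonic_lt q f.charpoly_monic hchi1
      rwa [LinearMap.charpoly_natDegree] at this
    refine ⟨fun i => (q %ₘ f.charpoly).coeff i, ?_⟩
    have h1 : aeval f q = aeval f (q %ₘ f.charpoly) := by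
      conv_lhs => rw [← modByMonic_add_div q f.charpoly]
      rw [map_add, map_mul, LinearMap.aeval_self_charpoly, zero_mul, add_zero]
    rw [h1, aeval_eq_sum_range' hdeg]
    exact Fin.sum_univ_eq_sum_range (fun i => (q %ₘ f.charpoly).coeff i • f ^ i) a
  have hinv : ∀ i, i ≤ N → f ^ (N - i) * f ^ i = 1 := by
    intro i hi
    rw [← pow_add, Nat.sub_add_cancel hi, hone]
  have hnt : (1 : Module.End (ZMod 2) M) ≠ 0 := by
    intro h
    obtain ⟨x, y, hxy⟩ := Finite.one_lt_card_iff_nontrivial.mp (show 1 < Nat.card M by omega) |>.exists_pair_ne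
    exact hxy (by
      have hx : (1 : Module.End (ZMod 2) M) x = (0 : Module.End (ZMod 2) M) x := by rw [h]
      have hy : (1 : Module.End (ZMod 2) M) y = (0 : Module.End (ZMod 2) M) y := by rw [h]
      simp at hx hy
      rw [hx, hy])
  let Φ : Option (Fin N) → Module.End (ZMod 2) M := fun o => o.elim 0 (fun j => f ^ (j : ℕ))
  have hΦ : Function.Injective Φ := by
    have h0 : ∀ i : Fin N, f ^ (i : ℕ) ≠ 0 := by
      intro i h
      have := hinv i i.2.le
      rw [h, mul_zero] at this
      exact hnt this.symm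
    have hlt : ∀ i j : Fin N, (i : ℕ) < j → f ^ (i : ℕ) ≠ f ^ (j : ℕ) := by
      intro i j hij h
      apply hne ((j : ℕ) - i) (by omega) (by omega)
      have h1 : f ^ ((N - (i : ℕ)) + (i : ℕ)) = f ^ ((N - (i : ℕ)) + (j : ℕ)) := by
        rw [pow_add, pow_add, h]
      rw [Nat.sub_add_cancel i.2.le, hone] at h1
      rw [show N - (i : ℕ) + (j : ℕ) = N + ((j : ℕ) - i) by omega, pow_add, hone, one_mul] at h1
      exact h1.symm
    intro o o' h
    rcases o with _ | i <;> rcases o' with _ | j
    · rfl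
    · exact absurd h.symm (h0 j)
    · exact absurd h (h0 i)
    · rcases lt_trichotomy (i : ℕ) (j : ℕ) with h' | h' | h'
      · exact absurd h (hlt i j h')
      · exact congrArg some (Fin.ext h')
      · exact absurd h.symm (hlt j i h')
  have hmem : ∀ o, ∃ c, E c = Φ o := by
    intro o
    rcases o with _ | i
    · obtain ⟨c, hc⟩ := hall 0
      exact ⟨c, by rw [hc]; simp [Φ]⟩
    · obtain ⟨c, hc⟩ := hall (X ^ (i : ℕ))
      exact ⟨c, by rw [hc]; simp [Φ]⟩
  choose Ψ hΨ using hmem
  have hΨi : Function.Injective Ψ := fun o o' h => hΦ (by rw [← hΨ o, ← hΨ o', h])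
  have hΨb : Function.Bijective Ψ := by
    refine (Fintype.bijective_iff_injective_and_card Ψ).mpr ⟨hΨi, ?_⟩
    simp only [Fintype.card_option, Fintype.card_fin, Fintype.card_fun, ZMod.card]
    rw [← hcard]
    omega
  obtain ⟨c, hc⟩ := hall p
  obtain ⟨o, ho⟩ := hΨb.2 c
  rw [← hc, ← ho, hΨ]
  rcases o with _ | i
  · exact Or.inl rfl
  · exact Or.inr ⟨i, i.2, rfl⟩

/-- A map of order `|M| - 1` is transitive on the non-zero vectors. -/
theorem exists_pow_apply {M : Type*} [AddCommGroup M] [Finite M] [Module (ZMod 2) M]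
    (f : Module.End (ZMod 2) M) (hone : f ^ (Nat.card M - 1) = 1)
    (hne : ∀ j, 0 < j → j < Nat.card M - 1 → f ^ j ≠ 1) {x y : M} (hx : x ≠ 0) (hy : y ≠ 0) :
    ∃ j, (f ^ j) x = y := by
  classical
  have h2 : 2 ≤ Nat.card M :=
    Finite.one_lt_card_iff_nontrivial.mpr ⟨⟨x, 0, hx⟩⟩
  set N := Nat.card M - 1 with hN
  have hxx : ∀ z : M, z + z = 0 := fun z => ZModModule.add_self z
  have hinj : ∀ i, i ≤ N → Function.Injective (f ^ i : Module.End (ZMod 2) M) := by
    intro i hi u v h
    have := congrArg (f ^ (N - i) : Module.End (ZMod 2) M) h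
    rwa [← Module.End.mul_apply, ← Module.End.mul_apply, ← pow_add, Nat.sub_add_cancel hi, hone] at this
  have hfree : ∀ i j : Fin N, (i : ℕ) < j →
      (f ^ (i : ℕ)) x ≠ (f ^ (j : ℕ)) x := by
    intro i j hij h
    have hd : (f ^ ((j : ℕ) - i)) x = x := by
      apply hinj i i.2.le
      rw [← Module.End.mul_apply, ← pow_add, Nat.add_sub_cancel' hij.le, h]
    rcases aeval_eq_zero_or_pow f h2 hone hne (X ^ ((j : ℕ) - i) + 1) with h0 | ⟨k, hk, h0⟩
    · rw [map_add, map_pow, aeval_X, map_one] at h0
      apply hne ((j : ℕ) - i) (by omega) (by omega)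
      refine LinearMap.ext fun z => ?_
      have := LinearMap.congr_fun h0 z
      simp only [LinearMap.add_apply, LinearMap.zero_apply, Module.End.one_apply] at this ⊢
      exact add_right_cancel (this.trans (hxx z).symm)
    · rw [map_add, map_pow, aeval_X, map_one] at h0
      have := LinearMap.congr_fun h0 x
      simp only [LinearMap.add_apply, Module.End.one_apply, hd, hxx] at this
      exact hx (hinj k hk.le (by rw [map_zero]; exact this.symm))
  let ψ : Fin N → {z : M // z ≠ 0} := fun i =>
    ⟨(f ^ (i : ℕ)) x, fun h => hx (hinj i i.2.le (by rw [map_zero]; exact h))⟩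
  have hψi : Function.Injective ψ := by
    intro i j h
    have h' : (f ^ (i : ℕ)) x = (f ^ (j : ℕ)) x := congrArg Subtype.val h
    rcases lt_trichotomy (i : ℕ) (j : ℕ) with h'' | h'' | h''
    · exact absurd h' (hfree i j h'')
    · exact Fin.ext h''
    · exact absurd h'.symm (hfree j i h'')
  have := Fintype.ofFinite M
  have hψb : Function.Bijective ψ := by
    refine (Fintype.bijective_iff_injective_and_card ψ).mpr ⟨hψi, ?_⟩
    rw [Fintype.card_fin, Fintype.card_subtype_compl, Fintype.card_subtype_eq, hN,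
      Nat.card_eq_fintype_card]
  obtain ⟨i, hi⟩ := hψb.2 ⟨y, hy⟩
  exact ⟨i, congrArg Subtype.val hi⟩

end CfsgLib.Walter.RankFour.Cycle
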