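import Cfsg.Agent.Lib.Walter.RankFour.Defs
import Cfsg.Agent.Lib.Signalizer74.Main
import Cfsg.Agent.Lib.Tech46.BalanceAut
import Cfsg.Agent.Lib.Tech46.CoprimeGen
import Cfsg.Agent.Lib.SignalizerConn42
import Cfsg.Agent.Lib.PF.OddOrder

/-!
# The signalizer of a 3-balanced elementary abelian 2-subgroup of rank at least five

If `Δ(E) ∩ C(a) ≤ O(C(a))` for the subgroups `E` of order at least 8 of `S` and `a ∈ S#`, the subgroup
generated by the `Δ(E)` has odd order and is normalised by the normaliser of every subgroup of order at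
least 16 of `S`.
-/

set_option autoImplicit false
set_option linter.unusedSectionVars false

namespace CfsgLib.Walter.RankFour

open Subgroup

universe u

variable {G : Type u} [Group G] [Finite G]

local instance : Fact (Nat.Prime 2) := ⟨Nat.prime_two⟩

/-- `Δ_G(E) ∩ C_G(a) ≤ O(C_G(a))` for all `E ≤ S` of order at least 8 and all `a ∈ S#`. -/
def ThreeBalanced (S : Subgroup G) : Prop :=
  ∀ E : Subgroup G, E ≤ S → 8 ≤ Nat.card E → ∀ a ∈ S, a ≠ 1 →
    Cfsg.signalizerDelta 2 E ⊓ centralizer ({a} : Set G) ≤ Cfsg.centralizerPPrimeCore 2 a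

/-- A subgroup of index at most two in `S`. -/
def IsHyp (S F : Subgroup G) : Prop := F ≤ S ∧ Nat.card S ≤ 2 * Nat.card F

/-- `Δ(F) ∩ C(F)`. -/
def hypPiece (F : Subgroup G) : Subgroup G :=
  Cfsg.signalizerDelta 2 F ⊓ centralizer (F : Set G)

/-- The join of the pieces of the subgroups of index at most two containing `D`. -/
def pieceJoin (S D : Subgroup G) : Subgroup G :=
  ⨆ F : {F : Subgroup G // IsHyp S F ∧ D ≤ F}, hypPiece (F : Subgroup G)

theorem hypPiece_le_pieceJoin {S D F : Subgroup G} (hF : IsHyp S F) (hD : D ≤ F) :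
    hypPiece F ≤ pieceJoin S D :=
  le_iSup (fun F : {F : Subgroup G // IsHyp S F ∧ D ≤ F} => hypPiece (F : Subgroup G)) ⟨F, hF, hD⟩

theorem pieceJoin_le_centralizer {S D : Subgroup G} :
    pieceJoin S D ≤ centralizer (D : Set G) :=
  iSup_le fun F => inf_le_right.trans (centralizer_le (SetLike.coe_subset_coe.2 F.2.2))

theorem delta_anti {E F : Subgroup G} (h : E ≤ F) :
    Cfsg.signalizerDelta 2 F ≤ Cfsg.signalizerDelta 2 E :=
  le_iInf fun a => CfsgLib.Tech46.signalizerDelta_le (h a.2.1) a.2.2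

theorem not_two_dvd_delta {E : Subgroup G} (hE : E ≠ ⊥) :
    ¬ 2 ∣ Nat.card ↥(Cfsg.signalizerDelta 2 E) := by
  obtain ⟨e, he, he1⟩ := E.ne_bot_iff_exists_ne_one.1 hE |> fun ⟨x, hx⟩ =>
    (⟨(x : G), x.2, fun h => hx (Subtype.ext h)⟩ : ∃ e ∈ E, e ≠ (1 : G))
  intro h
  have h2 : 2 ∣ Nat.card ↥(Cfsg.centralizerPPrimeCore 2 e) :=
    h.trans (card_dvd_of_le (CfsgLib.Tech46.signalizerDelta_le he he1))
  exact Nat.Prime.not_coprime_iff_dvd.2 ⟨2, Nat.prime_two, h2, dvd_refl 2⟩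
    (CfsgLib.Tech46.centralizerPPrimeCore_coprime e)

theorem map_delta_le (E : Subgroup G) (g : G) :
    (Cfsg.signalizerDelta 2 E).map (MulAut.conj g).toMonoidHom ≤
      Cfsg.signalizerDelta 2 (E.map (MulAut.conj g).toMonoidHom) := by
  refine le_iInf fun a => ?_
  obtain ⟨b, hb, hba⟩ := a.2.1
  have hb1 : b ≠ 1 := fun h => a.2.2 (by rw [← hba, h, map_one])
  have hga : (a : G) = g * b * g⁻¹ := by rw [← hba]; rfl
  rw [hga]
  exact (Subgroup.map_mono (CfsgLib.Tech46.signalizerDelta_le hb hb1)).trans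
    (CfsgLib.SignalizerConn42.centralizerPPrimeCore_conj b g)

section

variable {S : Subgroup G} (hS : Cfsg.IsElementaryAbelian 2 S)

include hS

theorem commute_of_mem {a b : G} (ha : a ∈ S) (hb : b ∈ S) : a * b = b * a := by
  haveI := hS.1
  exact congrArg Subtype.val (mul_comm' (⟨a, ha⟩ : S) ⟨b, hb⟩)

theorem elementary_le {E : Subgroup G} (hE : E ≤ S) : Cfsg.IsElementaryAbelian 2 E :=
  ⟨⟨⟨fun a b => Subtype.ext (commute_of_mem hS (hE a.2) (hE b.2))⟩⟩, fun e he => hS.2 e (hE he)⟩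

theorem le_centralizer_self : S ≤ centralizer (S : Set G) :=
  fun a ha => mem_centralizer_iff.2 fun b hb => commute_of_mem hS hb ha

theorem conj_eq_self {E : Subgroup G} (hE : E ≤ S) {s : G} (hs : s ∈ S) :
    E.map (MulAut.conj s).toMonoidHom = E := by
  ext x
  constructor
  · rintro ⟨e, he, rfl⟩
    show s * e * s⁻¹ ∈ E
    rwa [commute_of_mem hS hs (hE he), mul_inv_cancel_right]
  · intro hx
    refine ⟨x, hx, ?_⟩
    show s * x * s⁻¹ = x
    rw [commute_of_mem hS hs (hE hx), mul_inv_cancel_right]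

theorem conj_mem_delta {E : Subgroup G} (hE : E ≤ S) {s x : G} (hs : s ∈ S)
    (hx : x ∈ Cfsg.signalizerDelta 2 E) : s * x * s⁻¹ ∈ Cfsg.signalizerDelta 2 E := by
  have h := map_delta_le E s ⟨x, hx, rfl⟩
  rwa [conj_eq_self hS hE hs] at h

theorem le_normalizer_of_conj {X : Subgroup G} (h : ∀ s ∈ S, ∀ x ∈ X, s * x * s⁻¹ ∈ X) :
    S ≤ normalizer (X : Set G) := by
  intro s hs
  rw [mem_normalizer_iff]
  intro x
  refine ⟨h s hs x, fun hx => ?_⟩
  have := h s⁻¹ (inv_mem hs) _ hx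
  simpa [mul_assoc] using this

theorem conj_mem_pieceJoin {D : Subgroup G} {s x : G} (hs : s ∈ S) (hx : x ∈ pieceJoin S D) :
    s * x * s⁻¹ ∈ pieceJoin S D := by
  have h : (pieceJoin S D).map (MulAut.conj s).toMonoidHom ≤ pieceJoin S D := by
    rw [pieceJoin, Subgroup.map_iSup]
    refine iSup_mono fun F => ?_
    rintro _ ⟨y, hy, rfl⟩
    refine ⟨conj_mem_delta hS F.2.1.1 hs hy.1, mem_centralizer_iff.2 fun f hf => ?_⟩
    have h1 : Commute f s := commute_of_mem hS (F.2.1.1 hf) hs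
    have h2 : Commute f y := mem_centralizer_iff.1 hy.2 f hf
    exact ((h1.mul_right h2).mul_right h1.inv_right).eq
  exact h ⟨x, hx, rfl⟩

/-- A complement in the elementary abelian group `S`. -/
theorem exists_complement {D : Subgroup G} (hD : D ≤ S) :
    ∃ A : Subgroup G, A ≤ S ∧ A ⊓ D = ⊥ ∧ Nat.card S ≤ Nat.card A * Nat.card D := by
  classical
  obtain ⟨A, ⟨hAS, hAD⟩, hmax⟩ := Set.Finite.exists_maximal
    (Set.toFinite {A : Subgroup G | A ≤ S ∧ A ⊓ D = ⊥}) ⟨⊥, bot_le, bot_inf_eq _⟩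
  refine ⟨A, hAS, hAD, ?_⟩
  haveI := hS.1
  have hsup : S ≤ A ⊔ D := by
    intro s hs
    by_contra hsA
    have hle : A ⊔ zpowers s ≤ S := sup_le hAS (zpowers_le.2 hs)
    have hcap : (A ⊔ zpowers s) ⊓ D = ⊥ := by
      rw [eq_bot_iff]
      rintro x ⟨hx, hxD⟩
      have hn : zpowers s ≤ normalizer (A : Set G) :=
        zpowers_le.2 (le_normalizer_of_conj (elementary_le hS hle)
          (fun w hw a ha => by
            rwa [commute_of_mem hS (hle hw) (hAS ha), mul_inv_cancel_right])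
          (mem_sup_right (mem_zpowers s)))
      have hx' : x ∈ ((A ⊔ zpowers s : Subgroup G) : Set G) := hx
      rw [coe_mul_of_right_le_normalizer_left A _ hn] at hx'
      obtain ⟨a, ha, w, hw, rfl⟩ := hx'
      obtain ⟨i, rfl⟩ := mem_zpowers_iff.1 hw
      replace hxD : a * s ^ i ∈ D := hxD
      show a * s ^ i ∈ (⊥ : Subgroup G)
      have hs2 : s ^ (2 : ℕ) = 1 := hS.2 s hs
      rcases Int.even_or_odd i with ⟨j, rfl⟩ | ⟨j, rfl⟩
      · have e : s ^ (j + j) = 1 := by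
          rw [← two_mul, zpow_mul, zpow_ofNat, hs2, one_zpow]
        rw [e, mul_one] at hxD ⊢
        exact (hAD ▸ ⟨ha, hxD⟩ : a ∈ (⊥ : Subgroup G))
      · exfalso
        have e : s ^ (2 * j + 1) = s := by
          rw [zpow_add, zpow_mul, zpow_ofNat, hs2, one_zpow, one_mul, zpow_one]
        rw [e] at hxD
        refine hsA ?_
        have : a⁻¹ * (a * s) ∈ A ⊔ D := mul_mem (mem_sup_left (inv_mem ha)) (mem_sup_right hxD)
        simpa using this
    exact hsA ((hmax ⟨hle, hcap⟩ le_sup_left) (mem_sup_right (mem_zpowers s)) |> fun h => mem_sup_left h)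
  have hn : D ≤ normalizer (A : Set G) := fun d hd =>
    le_normalizer_of_conj hS (fun w hw a ha => by
      rwa [commute_of_mem hS hw (hAS ha), mul_inv_cancel_right]) (hD hd)
  calc Nat.card S ≤ Nat.card ↥(A ⊔ D) := Nat.le_of_dvd Nat.card_pos (card_dvd_of_le hsup)
    _ ≤ Nat.card (A × D) := by
        refine Nat.card_le_card_of_surjective
          (fun x : A × D => (⟨(x.1 : G) * x.2, mul_mem (mem_sup_left x.1.2) (mem_sup_right x.2.2)⟩ :
            ↥(A ⊔ D))) ?_
        rintro ⟨x, hx⟩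
        have hx' : x ∈ ((A ⊔ D : Subgroup G) : Set G) := hx
        rw [coe_mul_of_right_le_normalizer_left A _ hn] at hx'
        obtain ⟨a, ha, d, hd, rfl⟩ := hx'
        exact ⟨(⟨a, ha⟩, ⟨d, hd⟩), rfl⟩
    _ = _ := Nat.card_prod _ _

theorem exists_common {A F : Subgroup G} (hAS : A ≤ S) (hF : IsHyp S F) (hA : 4 ≤ Nat.card A) :
    ∃ c ∈ A, c ∈ F ∧ c ≠ 1 := by
  by_contra hne
  push_neg at hne
  have hinj : Nat.card (A × F) ≤ Nat.card S := by
    refine Nat.card_le_card_of_injective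
      (fun x : A × F => (⟨(x.1 : G) * x.2, mul_mem (hAS x.1.2) (hF.1 x.2.2)⟩ : S)) ?_
    rintro ⟨a, f⟩ ⟨a', f'⟩ h
    have h' : (a : G) * f = a' * f' := congrArg Subtype.val h
    have e : (a' : G)⁻¹ * a = f' * (f : G)⁻¹ := by
      rw [eq_mul_inv_iff_mul_eq, mul_assoc, h', inv_mul_cancel_left]
    have h1 := hne _ (mul_mem (inv_mem a'.2) a.2) (e ▸ mul_mem f'.2 (inv_mem f.2))
    have ea : (a : G) = a' := (inv_mul_eq_one.1 h1).symm
    rw [ea] at h'
    exact Prod.ext (Subtype.ext ea) (Subtype.ext (mul_left_cancel h'))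
  rw [Nat.card_prod] at hinj
  have hle : Nat.card A * Nat.card F ≤ 2 * Nat.card F := hinj.trans hF.2
  have hpos : 0 < Nat.card F := Nat.card_pos
  nlinarith

variable (hS5 : 32 ≤ Nat.card S) (hbal : ThreeBalanced S)

include hS5 hbal

theorem eight_le_hyp {F : Subgroup G} (hF : IsHyp S F) : 8 ≤ Nat.card F := by
  have := hF.2
  omega

theorem mem_piece_of_delta {E F : Subgroup G} (hE : E ≤ S) (hE8 : 8 ≤ Nat.card E)
    (hF : IsHyp S F) {x : G} (hx : x ∈ Cfsg.signalizerDelta 2 E) (hxF : x ∈ centralizer (F : Set G)) :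
    x ∈ hypPiece F := by
  refine ⟨Subgroup.mem_iInf.2 fun a => ?_, hxF⟩
  exact hbal E hE hE8 a (hF.1 a.2.1) a.2.2
    ⟨hx, centralizer_le (Set.singleton_subset_iff.2 a.2.1) hxF⟩

/-- The pieces above `D` generate a group of odd order whose `C(F)` is the piece of `F`. -/
theorem pieceJoin_spec (D : Subgroup G) (hD : D ≤ S) :
    ¬ 2 ∣ Nat.card ↥(pieceJoin S D) ∧
      ∀ F : Subgroup G, IsHyp S F → D ≤ F → pieceJoin S D ⊓ centralizer (F : Set G) ≤ hypPiece F := by
  induction hn : Nat.card S - Nat.card D using Nat.strong_induction_on generalizing D with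
  | _ n ih =>
  subst hn
  by_cases hD8 : 8 ≤ Nat.card D
  · have hle : pieceJoin S D ≤ Cfsg.signalizerDelta 2 D :=
      iSup_le fun F => inf_le_left.trans (delta_anti F.2.2)
    refine ⟨fun h => not_two_dvd_delta ?_ (h.trans (card_dvd_of_le hle)), fun F hF _ x hx =>
      mem_piece_of_delta hS hS5 hbal hD hD8 hF (hle hx.1) hx.2⟩
    intro hbot
    rw [hbot, card_bot] at hD8
    omega
  push_neg at hD8
  obtain ⟨A, hAS, hAD, hAcard⟩ := exists_complement hS hD
  have hA4 : 4 ≤ Nat.card A := by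
    by_contra hlt
    have : Nat.card A * Nat.card D ≤ 3 * 7 := Nat.mul_le_mul (by omega) (by omega)
    omega
  have hA8 : 8 ≤ Nat.card A := by
    have hAp : IsPGroup 2 A := fun a => ⟨1, Subtype.ext (by simpa using hS.2 a (hAS a.2))⟩
    have hDp : IsPGroup 2 D := fun a => ⟨1, Subtype.ext (by simpa using hS.2 a (hD a.2))⟩
    obtain ⟨i, hi⟩ := hAp.exists_card_eq
    obtain ⟨j, hj⟩ := hDp.exists_card_eq
    have hj2 : 2 ^ j ≤ 4 := by
      rcases Nat.lt_or_ge j 3 with h | h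
      · exact Nat.pow_le_pow_right (two_pos) (show j ≤ 2 by omega)
      · have : 8 ≤ 2 ^ j := Nat.pow_le_pow_right (two_pos) h
        omega
    have h32 : 32 ≤ 2 ^ i * 4 := by
      rw [← hi]
      exact (hS5.trans hAcard).trans (Nat.mul_le_mul_left _ (hj ▸ hj2))
    rw [hi]
    omega
  set θ : G → Subgroup G := fun c => pieceJoin S (D ⊔ zpowers c) with hθdef
  have hlt : ∀ c ∈ A, c ≠ 1 → D ⊔ zpowers c ≤ S ∧
      Nat.card S - Nat.card ↥(D ⊔ zpowers c) < Nat.card S - Nat.card D := by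
    intro c hc hc1
    have hle : D ⊔ zpowers c ≤ S := sup_le hD (zpowers_le.2 (hAS hc))
    have hne : D < D ⊔ zpowers c := lt_of_le_of_ne le_sup_left fun h => hc1 (by
      have : c ∈ (⊥ : Subgroup G) := hAD ▸ ⟨hc, h ▸ mem_sup_right (mem_zpowers c)⟩
      exact mem_bot.1 this)
    refine ⟨hle, ?_⟩
    have h1 : Nat.card D < Nat.card ↥(D ⊔ zpowers c) := by
      refine lt_of_le_of_ne (Nat.le_of_dvd Nat.card_pos (card_dvd_of_le le_sup_left)) fun h => ?_
      exact hne.ne (Subgroup.eq_of_le_of_card_ge le_sup_left h.ge)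
    have h2 : Nat.card ↥(D ⊔ zpowers c) ≤ Nat.card S :=
      Nat.le_of_dvd Nat.card_pos (card_dvd_of_le hle)
    omega
  have hrec : ∀ c ∈ A, c ≠ 1 → ¬ 2 ∣ Nat.card ↥(θ c) ∧
      ∀ F : Subgroup G, IsHyp S F → D ⊔ zpowers c ≤ F → θ c ⊓ centralizer (F : Set G) ≤ hypPiece F :=
    fun c hc hc1 => ih _ (hlt c hc hc1).2 _ (hlt c hc hc1).1 rfl
  have hθ : Cfsg.IsSolvableSignalizerFunctor 2 A θ := by
    refine ⟨⟨fun c _ _ => ?_, fun c hc hc1 => (hrec c hc hc1).1,
      fun c _ _ b hb x hx => conj_mem_pieceJoin hS (hAS hb) hx, fun c hc hc1 b hb hb1 => ?_⟩,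
      fun c hc hc1 => CfsgLib.PF.oddSolvable _ (Nat.odd_iff.2 (by
        have := (hrec c hc hc1).1; omega))⟩
    · exact pieceJoin_le_centralizer.trans
        (centralizer_le (Set.singleton_subset_iff.2 (mem_sup_right (mem_zpowers c))))
    · refine CfsgLib.Tech46.le_of_centralizers_corank_one hS _ _
        (fun h => (hrec c hc hc1).1 (h.trans (card_dvd_of_le inf_le_left)))
        (le_normalizer_of_conj hS fun s hs x hx => ⟨conj_mem_pieceJoin hS hs hx.1, ?_⟩) ?_
      · show s * x * s⁻¹ ∈ centralizer ({b} : Set G)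
        rw [mem_centralizer_singleton_iff]
        have h1 : Commute s b := commute_of_mem hS hs (hAS hb)
        have h2 : Commute x b := mem_centralizer_singleton_iff.1 hx.2
        exact ((h1.mul_left h2).mul_left h1.inv_left).eq
      intro B' hB' hcard x hx
      set F := B' ⊔ (D ⊔ zpowers b) ⊔ zpowers c with hFdef
      have hFS : F ≤ S :=
        sup_le (sup_le hB' (sup_le hD (zpowers_le.2 (hAS hb)))) (zpowers_le.2 (hAS hc))
      have hFh : IsHyp S F := ⟨hFS, hcard.trans (Nat.mul_le_mul_left 2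
        (Nat.le_of_dvd Nat.card_pos (card_dvd_of_le (le_sup_left.trans le_sup_left))))⟩
      have hxD : x ∈ centralizer ((D ⊔ zpowers c : Subgroup G) : Set G) :=
        pieceJoin_le_centralizer hx.1.1
      have hxF : x ∈ centralizer (F : Set G) := by
        have hle : F ≤ centralizer (zpowers x : Set G) := by
          refine sup_le (sup_le ?_ (sup_le ?_ ?_)) ?_
          · exact le_centralizer_iff.1 (zpowers_le.2 hx.2)
          · exact le_trans le_sup_left (le_centralizer_iff.1 (zpowers_le.2 hxD))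
          · exact le_centralizer_iff.1 (zpowers_le.2
              (mem_centralizer_iff.2 fun z hz => by
                obtain ⟨i, rfl⟩ := mem_zpowers_iff.1 hz
                exact ((Commute.zpow_right (mem_centralizer_singleton_iff.1 hx.1.2) i).symm).eq))
          · exact le_trans le_sup_right (le_centralizer_iff.1 (zpowers_le.2 hxD))
        exact (le_centralizer_iff.1 hle) (mem_zpowers x)
      refine hypPiece_le_pieceJoin hFh ?_ ((hrec c hc hc1).2 F hFh ?_ ⟨hx.1.1, hxF⟩)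
      · exact le_sup_right.trans le_sup_left
      · exact sup_le ((le_sup_left.trans le_sup_right).trans le_sup_left) le_sup_right
  obtain ⟨⟨_, hodd, -, -⟩, hcomp⟩ :=
    CfsgLib.Signalizer74.completion (elementary_le hS hAS) (by norm_num; exact hA8) hθ
  have hmem : ∀ F : Subgroup G, IsHyp S F → D ≤ F → ∃ c ∈ A, c ≠ 1 ∧ D ⊔ zpowers c ≤ F := by
    intro F hF hDF
    obtain ⟨c, hcA, hcF, hc1⟩ := exists_common hS hAS hF hA4
    exact ⟨c, hcA, hc1, sup_le hDF (zpowers_le.2 hcF)⟩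
  have hle : pieceJoin S D ≤ ⨆ a : {a : G // a ∈ A ∧ a ≠ 1}, θ (a : G) := by
    refine iSup_le fun F => ?_
    obtain ⟨c, hcA, hc1, hcF⟩ := hmem F F.2.1 F.2.2
    exact (hypPiece_le_pieceJoin F.2.1 hcF).trans
      (le_iSup (fun a : {a : G // a ∈ A ∧ a ≠ 1} => θ (a : G)) ⟨c, hcA, hc1⟩)
  refine ⟨fun h => hodd (h.trans (card_dvd_of_le hle)), fun F hF hDF x hx => ?_⟩
  obtain ⟨c, hcA, hc1, hcF⟩ := hmem F hF hDF
  refine (hrec c hcA hc1).2 F hF hcF ⟨?_, hx.2⟩
  rw [← hcomp c hcA hc1]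
  exact ⟨hle hx.1, centralizer_le (Set.singleton_subset_iff.2 (hcF (mem_sup_right (mem_zpowers c)))) hx.2⟩

/-- The signalizer `W`. -/
theorem not_two_dvd_signal : ¬ 2 ∣ Nat.card ↥(pieceJoin S ⊥) :=
  (pieceJoin_spec hS hS5 hbal ⊥ bot_le).1

theorem delta_le_signal {E : Subgroup G} (hE : E ≤ S) (hE8 : 8 ≤ Nat.card E) :
    Cfsg.signalizerDelta 2 E ≤ pieceJoin S ⊥ := by
  refine CfsgLib.Tech46.le_of_centralizers_corank_one hS _ _ (not_two_dvd_delta ?_)
    (le_normalizer_of_conj hS fun s hs x hx => conj_mem_delta hS hE hs hx) fun B' hB' hcard x hx =>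
      hypPiece_le_pieceJoin ⟨hB', hcard⟩ bot_le
        (mem_piece_of_delta hS hS5 hbal hE hE8 ⟨hB', hcard⟩ hx.1 hx.2)
  intro hbot
  rw [hbot, card_bot] at hE8
  omega

/-- The signalizer only depends on a subgroup of order at least 16. -/
theorem signal_eq {E : Subgroup G} (hE : E ≤ S) (hE16 : 16 ≤ Nat.card E) :
    pieceJoin S ⊥ = ⨆ E' : {E' : Subgroup G // E' ≤ E ∧ 8 ≤ Nat.card E'},
      Cfsg.signalizerDelta 2 (E' : Subgroup G) := by
  refine le_antisymm (iSup_le fun F => ?_) (iSup_le fun E' => delta_le_signal hS hS5 hbal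
    (E'.2.1.trans hE) E'.2.2)
  refine le_trans ?_ (le_iSup (fun E' : {E' : Subgroup G // E' ≤ E ∧ 8 ≤ Nat.card E'} =>
    Cfsg.signalizerDelta 2 (E' : Subgroup G)) ⟨F.1 ⊓ E, inf_le_right, ?_⟩)
  · exact inf_le_left.trans (delta_anti inf_le_left)
  have h1 : F.1.relIndex E ≤ 2 := by
    refine (Subgroup.relIndex_le_of_le_right hE (Subgroup.index_ne_zero_of_finite)).trans ?_
    have h := Subgroup.card_mul_index (F.1.subgroupOf S)
    rw [Nat.card_congr (subgroupOfEquivOfLe F.2.1.1).toEquiv] at h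
    have hpos : 0 < Nat.card F.1 := Nat.card_pos
    have := F.2.1.2
    show (F.1.subgroupOf S).index ≤ 2
    nlinarith
  have h := Subgroup.card_mul_index ((F.1 ⊓ E).subgroupOf E)
  rw [Nat.card_congr (subgroupOfEquivOfLe (inf_le_right : F.1 ⊓ E ≤ E)).toEquiv] at h
  have h2 : ((F.1 ⊓ E).subgroupOf E).index = F.1.relIndex E := by
    rw [← Subgroup.inf_relIndex_right]; rfl
  rw [h2] at h
  have h3 : Nat.card ↥(F.1 ⊓ E) * F.1.relIndex E ≤ Nat.card ↥(F.1 ⊓ E) * 2 := Nat.mul_le_mul_left _ h1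
  omega

theorem normalizer_le_signal {E : Subgroup G} (hE : E ≤ S) (hE16 : 16 ≤ Nat.card E) :
    normalizer (E : Set G) ≤ normalizer (pieceJoin S ⊥ : Set G) := by
  rw [signal_eq hS hS5 hbal hE hE16]
  set W := ⨆ E' : {E' : Subgroup G // E' ≤ E ∧ 8 ≤ Nat.card E'},
    Cfsg.signalizerDelta 2 (E' : Subgroup G)
  have key : ∀ g ∈ normalizer (E : Set G), W.map (MulAut.conj g).toMonoidHom ≤ W := by
    intro g hg
    rw [Subgroup.map_iSup]
    refine iSup_le fun E' => (map_delta_le _ g).trans ?_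
    refine le_iSup (fun E' : {E' : Subgroup G // E' ≤ E ∧ 8 ≤ Nat.card E'} =>
      Cfsg.signalizerDelta 2 (E' : Subgroup G)) ⟨_, ?_, ?_⟩
    · rintro _ ⟨e, he, rfl⟩
      exact (mem_normalizer_iff.1 hg e).1 (E'.2.1 he)
    · exact E'.2.2.trans_eq (card_map_of_injective (f := (MulAut.conj g).toMonoidHom)
        (MulAut.conj g).injective).symm
  intro g hg
  rw [mem_normalizer_iff]
  intro x
  refine ⟨fun hx => key g hg ⟨x, hx, rfl⟩, fun hx => ?_⟩
  have := key g⁻¹ (inv_mem hg) ⟨_, hx, rfl⟩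
  simpa [mul_assoc] using this

end

end CfsgLib.Walter.RankFour
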