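import Cfsg.Agent.Lib.Walter.RankFour.Interface
import Cfsg.Agent.Lib.Walter.RankFour.Signal
import Cfsg.Agent.Lib.Tech46.BalanceLocal
import Cfsg.Agent.S2903
import Cfsg.Prelude.Def_EvenType

/-!
# Walter's theorem, rank at least four: the signalizer is trivial

With three blocks of order at least four, the signalizer `W` generated by the `Δ(E)` is normalised by
the centralisers of all involutions of `S`; so a non-trivial `W` gives a strongly embedded subgroup,
which is solvable, while some involution centraliser is not.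
-/

set_option autoImplicit false
set_option linter.unusedSectionVars false

namespace CfsgLib.Walter.RankFour

open Subgroup

universe u

variable {G : Type u} [Group G] [Finite G]

local instance : Fact (Nat.Prime 2) := ⟨Nat.prime_two⟩

/-- What the reduced centralizer of `u` contributes (piece B). -/
structure CenFacts (S : Subgroup G) (u : G) : Prop where
  delta_eq_bot : ∀ E : Subgroup (CenBar u), E ≤ img u S → 8 ≤ Nat.card E →
    Cfsg.signalizerDelta 2 E = ⊥
  generated : Cfsg.layer (CenBar u) ⊔ normalizer (img u S : Set (CenBar u)) = ⊤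

theorem le_cen {S : Subgroup G} (hS : Cfsg.IsElementaryAbelian 2 S) {u : G} (hu : u ∈ S) : S ≤ cen u :=
  fun s hs => mem_centralizer_singleton_iff.2 (commute_of_mem hS hs hu)

/-- `Δ(E) ∩ C(a) ≤ O(C(a))`. -/
theorem threeBalanced {S : Subgroup G} (hS : Cfsg.IsElementaryAbelian 2 S)
    (hfacts : ∀ u ∈ S, u ≠ 1 → CenFacts S u) : ThreeBalanced S := by
  intro E hE hE8 a ha ha1
  have hEa : E ≤ cen a := hE.trans (le_cen hS ha)
  obtain ⟨-, hcard, hd⟩ := CfsgLib.Tech46.exists_image_elementary (p := 2) (elementary_le hS hE) hEa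
  have hle : img a E ≤ img a S := Subgroup.map_mono (fun x hx => hE hx)
  have hbot := (hfacts a ha ha1).delta_eq_bot (img a E) hle (hE8.trans_eq hcard.symm)
  rintro d ⟨hdE, hda⟩
  have h2 : bar a ⟨d, hda⟩ ∈ Cfsg.signalizerDelta 2 (img a E) := hd ⟨d, hda⟩ hdE
  rw [hbot, mem_bot] at h2
  exact ⟨⟨d, hda⟩, (QuotientGroup.eq_one_iff (N := Cfsg.pPrimeCore 2 ↥(cen a)) _).1 h2, rfl⟩

/-- The local facts from a statement on core-free groups with elementary Sylow 2-subgroup (piece B). -/
theorem cenFacts_of_local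
    (hloc : ∀ (H : Type u) [Group H] [Finite H], Cfsg.pPrimeCore 2 H = ⊥ → ∀ T : Sylow 2 H,
      (∀ s ∈ (T : Subgroup H), s ^ 2 = 1) → GoodComps H →
        Cfsg.layer H ⊔ normalizer ((T : Subgroup H) : Set H) = ⊤ ∧
          ∀ E : Subgroup H, E ≤ (T : Subgroup H) → 8 ≤ Nat.card E → Cfsg.signalizerDelta 2 E = ⊥)
    (S : Sylow 2 G) (hS : Cfsg.IsElementaryAbelian 2 (S : Subgroup G))
    (hgood : GoodAt (S : Subgroup G)) {u : G} (hu : u ∈ (S : Subgroup G)) (hu1 : u ≠ 1) :
    CenFacts (S : Subgroup G) u := by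
  have hsurj : Function.Surjective (bar u) := QuotientGroup.mk'_surjective _
  set T : Sylow 2 (CenBar u) := (S.subtype (le_cen hS hu)).mapSurjective hsurj
  have hT : (T : Subgroup (CenBar u)) = img u (S : Subgroup G) := Sylow.coe_mapSurjective _ _
  obtain ⟨h1, h2⟩ := hloc (CenBar u) CfsgLib.PCore.pPrimeCore_quotient_pPrimeCore T (fun s hs => by
    rw [hT] at hs
    obtain ⟨x, hx, rfl⟩ := hs
    rw [← map_pow, show x ^ 2 = 1 from Subtype.ext (by simpa using hS.2 _ hx), map_one]) (hgood u hu hu1)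
  exact ⟨fun E hE => h2 E (hT ▸ hE), by rw [← hT]; exact h1⟩

namespace Blocks

variable {S : Subgroup G} (B : Blocks S)

/-- The product of the blocks other than `i`. -/
def others (i : B.ι) : Subgroup G := ⨆ j : {j : B.ι // j ≠ i}, B.V (j : B.ι)

theorem others_le (i : B.ι) : B.others i ≤ S :=
  iSup_le fun j => (le_iSup B.V (j : B.ι)).trans B.sup_eq.le

theorem le_others {i j : B.ι} (h : j ≠ i) : B.V j ≤ B.others i :=
  le_iSup (fun j : {j : B.ι // j ≠ i} => B.V (j : B.ι)) ⟨j, h⟩

theorem sixteen_le_others (i : B.ι) : 16 ≤ Nat.card (B.others i) := by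
  classical
  haveI := B.finite
  obtain ⟨j, hji⟩ : ∃ j : B.ι, j ≠ i := by
    by_contra h
    push_neg at h
    haveI : Subsingleton B.ι := ⟨fun a b => (h a).trans (h b).symm⟩
    have := B.three_le
    have := Finite.card_le_one_iff_subsingleton.2 (inferInstance : Subsingleton B.ι)
    omega
  obtain ⟨k, hki, hkj⟩ : ∃ k : B.ι, k ≠ i ∧ k ≠ j := by
    by_contra h
    push_neg at h
    have hle : Nat.card B.ι ≤ Nat.card Bool := by
      refine Nat.card_le_card_of_injective (fun k => decide (k = i)) fun a b hab => ?_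
      simp only [decide_eq_decide] at hab
      by_cases ha : a = i
      · rw [ha, hab.1 ha]
      · rw [h a ha, h b (fun hb => ha (hab.2 hb))]
    have := B.three_le
    rw [Nat.card_eq_fintype_card (α := Bool), Fintype.card_bool] at hle
    omega
  have hinj : Nat.card (B.V j × B.V k) ≤ Nat.card (B.others i) := by
    refine Nat.card_le_card_of_injective
      (fun x => ⟨(x.1 : G) * x.2, mul_mem (B.le_others hji x.1.2) (B.le_others hki x.2.2)⟩) ?_
    rintro ⟨a, b⟩ ⟨a', b'⟩ h
    have h' : (a : G) * b = a' * b' := congrArg Subtype.val h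
    have e : (a' : G)⁻¹ * a = b' * (b : G)⁻¹ := by
      rw [eq_mul_inv_iff_mul_eq, mul_assoc, h', inv_mul_cancel_left]
    have h1 : (a' : G)⁻¹ * a ∈ B.V j ⊓ B.others j :=
      Subgroup.mem_inf.2 ⟨mul_mem (inv_mem a'.2) a.2, e ▸ B.le_others hkj (mul_mem b'.2 (inv_mem b.2))⟩
    rw [show B.V j ⊓ B.others j = ⊥ from B.indep j, mem_bot, inv_mul_eq_one] at h1
    rw [← h1] at h'
    exact Prod.ext (Subtype.ext h1.symm) (Subtype.ext (mul_left_cancel h'))
  rw [Nat.card_prod] at hinj
  exact le_trans (Nat.mul_le_mul (B.four_le j) (B.four_le k)) hinj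

include B in
theorem sixtyfour_le : 64 ≤ Nat.card S := by
  haveI := B.finite
  obtain ⟨i⟩ : Nonempty B.ι := (Nat.card_pos_iff.1 (lt_of_lt_of_le (by norm_num) B.three_le)).1
  have hinj : Nat.card (B.V i × B.others i) ≤ Nat.card S := by
    refine Nat.card_le_card_of_injective
      (fun x => ⟨(x.1 : G) * x.2, mul_mem ((le_iSup B.V i).trans B.sup_eq.le x.1.2) (B.others_le i x.2.2)⟩) ?_
    rintro ⟨a, b⟩ ⟨a', b'⟩ h
    have h' : (a : G) * b = a' * b' := congrArg Subtype.val h
    have e : (a' : G)⁻¹ * a = b' * (b : G)⁻¹ := by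
      rw [eq_mul_inv_iff_mul_eq, mul_assoc, h', inv_mul_cancel_left]
    have h1 : (a' : G)⁻¹ * a ∈ B.V i ⊓ B.others i :=
      Subgroup.mem_inf.2 ⟨mul_mem (inv_mem a'.2) a.2, e ▸ mul_mem b'.2 (inv_mem b.2)⟩
    rw [show B.V i ⊓ B.others i = ⊥ from B.indep i, mem_bot, inv_mul_eq_one] at h1
    rw [← h1] at h'
    exact Prod.ext (Subtype.ext h1.symm) (Subtype.ext (mul_left_cancel h'))
  rw [Nat.card_prod] at hinj
  exact le_trans (Nat.mul_le_mul (B.four_le i) (B.sixteen_le_others i)) hinj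

end Blocks

/-- A subgroup containing `N(E)` for the large subgroups `E` of `S` contains the centralisers of the
involutions of `S`. -/
theorem cen_le_of_normalizers {S : Subgroup G} (hS : Cfsg.IsElementaryAbelian 2 S) (B : Blocks S)
    {u : G} (hu : u ∈ S) (hu1 : u ≠ 1) (hfacts : CenFacts S u) {M : Subgroup G}
    (hM : ∀ E : Subgroup G, E ≤ S → 16 ≤ Nat.card E → normalizer (E : Set G) ≤ M) : cen u ≤ M := by
  have hSp : IsPGroup 2 S := fun a => ⟨1, Subtype.ext (by simpa using hS.2 a a.2)⟩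
  have hSu : S ≤ cen u := le_cen hS hu
  have hO : (Nat.card (Cfsg.pPrimeCore 2 ↥(cen u))).Coprime 2 := CfsgLib.PCore.pPrimeCore_coprime
  set Mu := M.subgroupOf (cen u) with hMu
  -- the core
  have hcore : Cfsg.centralizerPPrimeCore 2 u ≤ M := by
    refine CfsgLib.Tech46.le_of_centralizers_corank_one hS _ _ (fun h => ?_)
      (hSu.trans (CfsgLib.Tech46.le_normalizer_centralizerPPrimeCore u)) fun B' hB' hcard => ?_
    · exact Nat.Prime.not_coprime_iff_dvd.2 ⟨2, Nat.prime_two, h, dvd_refl 2⟩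
        (CfsgLib.Tech46.centralizerPPrimeCore_coprime u)
    · refine inf_le_right.trans ((centralizer_le_normalizer _).trans (hM B' hB' ?_))
      have := B.sixtyfour_le
      omega
  have hker : Cfsg.pPrimeCore 2 ↥(cen u) ≤ Mu := fun x hx =>
    mem_subgroupOf.2 (hcore ⟨x, hx, rfl⟩)
  -- lifting centralisers and normalisers of 2-subgroups of `S`
  have hlift : ∀ A : Subgroup G, A ≤ S → normalizer (A : Set G) ≤ M →
      normalizer (img u A : Set (CenBar u)) ≤ Mu.map (bar u) := by
    intro A hA hAM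
    have hp : IsPGroup 2 (A.subgroupOf (cen u)) :=
      (hSp.to_le hA).comap_of_injective (cen u).subtype (cen u).subtype_injective
    rw [show img u A = (A.subgroupOf (cen u)).map (QuotientGroup.mk' (Cfsg.pPrimeCore 2 ↥(cen u))) from rfl,
      ← CfsgLib.Components.map_normalizer_quotient hO hp]
    refine Subgroup.map_mono fun x hx => mem_subgroupOf.2 (hAM ?_)
    rw [mem_normalizer_iff]
    intro a
    constructor
    · intro ha
      exact (mem_normalizer_iff.1 hx ⟨a, hA.trans hSu ha⟩).1 ha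
    · intro ha
      have hac : a ∈ cen u := by
        have := mul_mem (mul_mem (inv_mem x.2) (hA.trans hSu ha)) x.2
        simpa [mul_assoc] using this
      exact (mem_normalizer_iff.1 hx ⟨a, hac⟩).2 ha
  have htop : Mu.map (bar u) = ⊤ := by
    rw [eq_top_iff, ← hfacts.generated]
    refine sup_le (sSup_le fun L hL => ?_) (hlift S le_rfl (hM S le_rfl (by
      have := B.sixtyfour_le; omega)))
    obtain ⟨i, -, hcent⟩ := B.component u hu hu1 L hL
    refine le_trans ?_ ((centralizer_le_normalizer _).trans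
      (hlift (B.others i) (B.others_le i) (hM _ (B.others_le i) (B.sixteen_le_others i))))
    refine le_centralizer_iff.1 ?_
    rw [Blocks.others]
    rintro _ ⟨y, hy, rfl⟩
    have hy' : (y : G) ∈ ⨆ j : {j : B.ι // j ≠ i}, B.V (j : B.ι) := hy
    have hle : (⨆ j : {j : B.ι // j ≠ i}, B.V (j : B.ι)) ≤
        ((centralizer (L : Set (CenBar u))).comap (bar u)).map (cen u).subtype := by
      refine iSup_le fun j v hv => ?_
      have hvu : v ∈ cen u := hSu ((le_iSup B.V (j : B.ι)).trans B.sup_eq.le hv)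
      exact ⟨⟨v, hvu⟩, hcent j j.2 ⟨⟨v, hvu⟩, hv, rfl⟩, rfl⟩
    obtain ⟨z, hz, hzy⟩ := hle hy'
    rw [← Subtype.ext (a1 := z) (a2 := y) hzy]
    exact hz
  have hMtop : Mu = ⊤ := by
    have h := Subgroup.comap_map_eq (bar u) Mu
    rw [htop, comap_top, QuotientGroup.ker_mk', sup_eq_left.2 hker] at h
    exact h.symm
  exact subgroupOf_eq_top.1 hMtop

/-- A proper subgroup containing `N(S)` and the centralisers of the involutions of an elementary abelian
Sylow 2-subgroup `S` is strongly embedded. -/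
theorem isStronglyPEmbedded_of_cen (S : Sylow 2 G) (hS : Cfsg.IsElementaryAbelian 2 (S : Subgroup G))
    (h2 : 2 ∣ Nat.card G) {M : Subgroup G} (hM : M ≠ ⊤)
    (hN : normalizer ((S : Subgroup G) : Set G) ≤ M)
    (hC : ∀ u ∈ (S : Subgroup G), u ≠ 1 → cen u ≤ M) : Cfsg.IsStronglyPEmbedded 2 M := by
  refine ⟨h2, hM, S, iSup_le fun Q g hg => ?_⟩
  obtain ⟨⟨q, hq⟩, hq1⟩ : ∃ q : (Q : Subgroup G), q ≠ 1 := by
    by_contra h
    push_neg at h
    refine Q.2.2 fun A _ _ => ?_
    haveI : Subsingleton ↥(Q : Subgroup G) := ⟨fun a b => (h a).trans (h b).symm⟩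
    simp [Nat.card_unique]
  have hq1' : q ≠ 1 := fun h => hq1 (Subtype.ext h)
  set C := centralizer ((Q : Subgroup G) : Set G)
  have hCM : C ≤ M := le_trans (centralizer_le (Set.singleton_subset_iff.2 hq)) (hC q (Q.2.1 hq) hq1')
  have hSC : (S : Subgroup G) ≤ C := fun s hs =>
    mem_centralizer_iff.2 fun t ht => commute_of_mem hS (Q.2.1 ht) hs
  have hgSC : ((g • S : Sylow 2 G) : Subgroup G) ≤ C := by
    rw [Sylow.coe_subgroup_smul]
    rintro _ ⟨s, hs, rfl⟩
    refine mem_centralizer_iff.2 fun t ht => ?_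
    have h := mem_centralizer_iff.1 (hSC hs) (g⁻¹ * t * g) (by
      simpa using (mem_normalizer_iff.1 (inv_mem hg) t).1 ht)
    calc t * (MulAut.conj g s) = g * ((g⁻¹ * t * g) * s) * g⁻¹ := by
          rw [MulAut.conj_apply]; group
      _ = g * (s * (g⁻¹ * t * g)) * g⁻¹ := by rw [h]
      _ = MulAut.conj g s * t := by rw [MulAut.conj_apply]; group
  obtain ⟨c, hc⟩ := MulAction.exists_smul_eq C (S.subtype hSC) ((g • S).subtype hgSC)
  have hn : (c : G)⁻¹ * g ∈ normalizer ((S : Subgroup G) : Set G) := by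
    refine mem_normalizer_iff_conj_image_eq.2 (Set.eq_of_subset_of_ncard_le ?_ ?_ (Set.toFinite _))
    · rintro _ ⟨x, hx, rfl⟩
      have hy : g * x * g⁻¹ ∈ ((g • S : Sylow 2 G) : Subgroup G) := by
        rw [Sylow.coe_subgroup_smul]
        exact ⟨x, hx, rfl⟩
      have hy' : (⟨g * x * g⁻¹, hgSC hy⟩ : C) ∈ ((g • S).subtype hgSC : Subgroup C) :=
        mem_subgroupOf.2 hy
      rw [← hc, Sylow.coe_subgroup_smul] at hy'
      obtain ⟨s, hs, hsy⟩ := hy'
      have hsy' : (c : G) * s * (c : G)⁻¹ = g * x * g⁻¹ := congrArg Subtype.val hsy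
      show MulAut.conj ((c : G)⁻¹ * g) x ∈ (S : Subgroup G)
      have e : MulAut.conj ((c : G)⁻¹ * g) x = s := by
        calc MulAut.conj ((c : G)⁻¹ * g) x = (c : G)⁻¹ * (g * x * g⁻¹) * c := by
              rw [MulAut.conj_apply]; group
          _ = _ := by rw [← hsy']; group
      rw [e]
      exact mem_subgroupOf.1 hs
    · rw [Set.ncard_image_of_injective _ (MulAut.conj ((c : G)⁻¹ * g)).injective]
  have := mul_mem (hCM c.2) (hN hn)
  rwa [mul_inv_cancel_left] at this

/-- `Δ(E) = 1` for the subgroups `E` of order at least 8 of `S`. -/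
theorem delta_eq_bot [IsSimpleGroup G] (S : Sylow 2 G) (hel : ∀ x ∈ (S : Subgroup G), x ^ 2 = 1)
    (hab : IsMulCommutative (S : Subgroup G)) (B : Blocks (S : Subgroup G))
    (hfacts : ∀ u ∈ (S : Subgroup G), u ≠ 1 → CenFacts (S : Subgroup G) u)
    (hns : ∃ u ∈ (S : Subgroup G), u ≠ 1 ∧ ¬ Group.IsSolvable ↥(cen u))
    {E : Subgroup G} (hE : E ≤ S) (hE8 : 8 ≤ Nat.card E) : Cfsg.signalizerDelta 2 E = ⊥ := by
  have hS : Cfsg.IsElementaryAbelian 2 (S : Subgroup G) := ⟨hab, hel⟩
  have h64 := B.sixtyfour_le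
  have hS5 : 32 ≤ Nat.card (S : Subgroup G) := by omega
  have hbal := threeBalanced hS hfacts
  have h2 : 2 ∣ Nat.card G := by
    refine dvd_trans ?_ (Subgroup.card_subgroup_dvd_card (S : Subgroup G))
    obtain ⟨k, hk⟩ := IsPGroup.iff_card.1 S.2
    rw [hk] at h64 ⊢
    rcases k with _ | k
    · norm_num at h64
    · exact dvd_pow_self 2 k.succ_ne_zero
  set W := pieceJoin (S : Subgroup G) ⊥ with hW
  have hWodd : ¬ 2 ∣ Nat.card W := not_two_dvd_signal hS hS5 hbal
  rw [eq_bot_iff]
  refine (delta_le_signal hS hS5 hbal hE hE8).trans ?_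
  by_contra hne
  set M := normalizer (W : Set G) with hMdef
  have hMtop : M ≠ ⊤ := by
    intro h
    rcases (normalizer_eq_top_iff.1 h).eq_bot_or_eq_top with hb | ht
    · exact hne hb.le
    · rw [ht, Subgroup.card_top] at hWodd
      exact hWodd h2
  have hNE : ∀ E : Subgroup G, E ≤ S → 16 ≤ Nat.card E → normalizer (E : Set G) ≤ M :=
    fun E hE hE16 => normalizer_le_signal hS hS5 hbal hE hE16
  have hcen : ∀ u ∈ (S : Subgroup G), u ≠ 1 → cen u ≤ M :=
    fun u hu hu1 => cen_le_of_normalizers hS B hu hu1 (hfacts u hu hu1) hNE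
  have hemb := isStronglyPEmbedded_of_cen S hS h2 hMtop (hNE _ le_rfl (by omega)) hcen
  have hrank : Cfsg.PRankAtLeast 2 2 G := ⟨(S : Subgroup G), hab, hel, by norm_num; omega⟩
  have hsol : Group.IsSolvable ↥M := Cfsg.Agent.S2903.result hrank M hemb
  obtain ⟨u, hu, hu1, hnu⟩ := hns
  exact hnu (Group.isSolvable_of_isSolvable_injective (f := inclusion (hcen u hu hu1))
    (inclusion_injective _))

end CfsgLib.Walter.RankFour
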