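import Cfsg.Agent.Lib.Maximal.CASimple
import Cfsg.Agent.Lib.PSL2.Basic

/-!
# `PSL₂(2^a)`: involutions, their centralisers and the torus

The facts about the model used in `Good.lean`.
-/

set_option autoImplicit false
set_option linter.unusedSectionVars false
set_option linter.style.haveILetI false

namespace CfsgLib.Walter.RankFour

open Matrix Subgroup

variable {F : Type*} [Field F] [Fintype F] [CharP F 2]

local notation "SL2" => Matrix.SpecialLinearGroup (Fin 2) F
local notation "PSL2" => Matrix.ProjectiveSpecialLinearGroup (Fin 2) F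

/-- In characteristic two `PSL₂` is `SL₂`. -/
noncomputable def pslEquivSL : PSL2 ≃* SL2 :=
  (QuotientGroup.quotientMulEquivOfEq CfsgLib.CASimple.center_sl_eq_bot).trans QuotientGroup.quotientBot

omit [Fintype F] in
/-- An element commuting with an involution squares to one. -/
theorem sl_sq_eq_one_of_commute {d x : SL2} (hd : d * d = 1) (hd1 : d ≠ 1) (hc : x * d = d * x) :
    x * x = 1 := by
  have two : (2 : F) = 0 := CharTwo.two_eq_zero
  have hdet : d.1 0 0 * d.1 1 1 - d.1 0 1 * d.1 1 0 = 1 := by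
    rw [← Matrix.det_fin_two]; exact d.2
  have hxdet : x.1 0 0 * x.1 1 1 - x.1 0 1 * x.1 1 0 = 1 := by
    rw [← Matrix.det_fin_two]; exact x.2
  have e00 : d.1 0 0 * d.1 0 0 + d.1 0 1 * d.1 1 0 = 1 := by
    have h := congrArg (fun m : SL2 => m.1 0 0) hd
    simpa [Matrix.mul_apply, Fin.sum_univ_two] using h
  have e11 : d.1 1 0 * d.1 0 1 + d.1 1 1 * d.1 1 1 = 1 := by
    have h := congrArg (fun m : SL2 => m.1 1 1) hd
    simpa [Matrix.mul_apply, Fin.sum_univ_two] using h
  have hde : d.1 0 0 = d.1 1 1 := by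
    have h : (d.1 0 0 - d.1 1 1) ^ 2 = 0 := by
      linear_combination e00 + e11 - 2 * hdet +
        (- 2 * (d.1 0 1 * d.1 1 0)) * two
    exact sub_eq_zero.1 (pow_eq_zero_iff two_ne_zero |>.1 h)
  have c00 : x.1 0 0 * d.1 0 0 + x.1 0 1 * d.1 1 0 = d.1 0 0 * x.1 0 0 + d.1 0 1 * x.1 1 0 := by
    have h := congrArg (fun m : SL2 => m.1 0 0) hc
    simpa [Matrix.mul_apply, Fin.sum_univ_two] using h
  have c01 : x.1 0 0 * d.1 0 1 + x.1 0 1 * d.1 1 1 = d.1 0 0 * x.1 0 1 + d.1 0 1 * x.1 1 1 := by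
    have h := congrArg (fun m : SL2 => m.1 0 1) hc
    simpa [Matrix.mul_apply, Fin.sum_univ_two] using h
  have c10 : x.1 1 0 * d.1 0 0 + x.1 1 1 * d.1 1 0 = d.1 1 0 * x.1 0 0 + d.1 1 1 * x.1 1 0 := by
    have h := congrArg (fun m : SL2 => m.1 1 0) hc
    simpa [Matrix.mul_apply, Fin.sum_univ_two] using h
  have hxx : x.1 0 0 = x.1 1 1 := by
    by_cases hb : d.1 0 1 = 0
    · by_cases hcz : d.1 1 0 = 0
      · exfalso
        refine hd1 (Subtype.ext ?_)
        have h1 : (d.1 0 0 - 1) ^ 2 = 0 := by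
          rw [hb] at e00
          linear_combination e00 + (1 - d.1 0 0) * two
        have h2 := sub_eq_zero.1 (pow_eq_zero_iff two_ne_zero |>.1 h1)
        ext i j
        fin_cases i <;> fin_cases j <;> simp [hb, hcz, h2, ← hde]
      · exact (mul_left_cancel₀ hcz (by linear_combination c10 + (x.1 1 0) * hde.symm :
          d.1 1 0 * x.1 1 1 = d.1 1 0 * x.1 0 0)).symm
    · exact mul_left_cancel₀ hb (by linear_combination c01 + (x.1 0 1) * hde :
        d.1 0 1 * x.1 0 0 = d.1 0 1 * x.1 1 1)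
  have h0 : x.1 0 0 * x.1 0 0 + x.1 0 1 * x.1 1 0 = 1 := by
    rw [← hxx] at hxdet
    linear_combination hxdet + (x.1 0 1 * x.1 1 0) * two
  apply Subtype.ext
  ext i j
  fin_cases i <;> fin_cases j <;> simp [Matrix.mul_apply, Fin.sum_univ_two, ← hxx]
  · exact h0
  · linear_combination (x.1 0 0 * x.1 0 1) * two
  · linear_combination (x.1 0 0 * x.1 1 0) * two
  · linear_combination h0

/-- An element commuting with an involution of `PSL₂(2^a)` squares to one. -/
theorem psl_sq_eq_one_of_commute {d x : PSL2} (hd : d * d = 1) (hd1 : d ≠ 1) (hc : x * d = d * x) :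
    x * x = 1 := by
  apply pslEquivSL.injective
  rw [map_mul, map_one]
  refine sl_sq_eq_one_of_commute (d := pslEquivSL d) (by rw [← map_mul, hd, map_one]) ?_
    (by rw [← map_mul, hc, map_mul])
  exact fun h => hd1 (pslEquivSL.injective (h.trans (map_one _).symm))

/-- A 2-element of `PSL₂(2^a)` squares to one. -/
theorem psl_sq_eq_one_of_pow_two {x : PSL2} {k : ℕ} (hx : x ^ 2 ^ k = 1) : x * x = 1 := by
  induction k generalizing x with
  | zero => rw [pow_zero, pow_one] at hx; rw [hx, mul_one]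
  | succ k ih =>
      rw [pow_succ', pow_mul] at hx
      have h := ih hx
      by_cases h1 : x ^ 2 = 1
      · rw [← pow_two, h1]
      · exact psl_sq_eq_one_of_commute h h1 ((Commute.refl x).pow_right 2)

/-- A unitriangular element. -/
def uni (b : F) : SL2 := ⟨!![1, b; 0, 1], by simp [Matrix.det_fin_two]⟩

/-- A diagonal element. -/
def dia (u : Fˣ) : SL2 := ⟨!![(u : F), 0; 0, ((u⁻¹ : Fˣ) : F)], by simp [Matrix.det_fin_two]⟩

omit [Fintype F] [CharP F 2] in
theorem uni_add (a b : F) : uni a * uni b = uni (a + b) := by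
  apply Subtype.ext
  show !![1, a; 0, 1] * !![1, b; 0, 1] = !![1, a + b; 0, 1]
  rw [Matrix.mul_fin_two]
  simp [add_comm]

omit [Fintype F] [CharP F 2] in
theorem dia_mul (u v : Fˣ) : dia u * dia v = (dia (u * v) : SL2) := by
  apply Subtype.ext
  show !![(u : F), 0; 0, ((u⁻¹ : Fˣ) : F)] * !![(v : F), 0; 0, ((v⁻¹ : Fˣ) : F)] =
    !![((u * v : Fˣ) : F), 0; 0, (((u * v)⁻¹ : Fˣ) : F)]
  rw [Matrix.mul_fin_two]
  simp [mul_comm]

omit [Fintype F] [CharP F 2] in
theorem dia_uni (u : Fˣ) (b : F) : dia u * uni b = uni ((u : F) * u * b) * dia u := by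
  apply Subtype.ext
  show !![(u : F), 0; 0, ((u⁻¹ : Fˣ) : F)] * !![1, b; 0, 1] =
    !![1, (u : F) * u * b; 0, 1] * !![(u : F), 0; 0, ((u⁻¹ : Fˣ) : F)]
  rw [Matrix.mul_fin_two, Matrix.mul_fin_two]
  have h : (u : F) * ((u⁻¹ : Fˣ) : F) = 1 := u.mul_inv
  ext i j
  fin_cases i <;> fin_cases j <;> simp
  rw [show (u : F) * u * b * ((u : F))⁻¹ = (u : F) * b * ((u : F) * (u : F)⁻¹) by ring,
    mul_inv_cancel₀ u.ne_zero, mul_one]

/-- The torus of `PSL₂(2^a)` on a Sylow 2-subgroup. -/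
theorem psl_exists_torus :
    ∃ (U : Subgroup PSL2) (g : PSL2), Nat.card U = Fintype.card F ∧ (∀ x ∈ U, g * x * g⁻¹ ∈ U) ∧
      g ^ (Fintype.card F - 1) = 1 ∧
      ∀ i : ℕ, (∀ x ∈ U, g ^ i * x = x * g ^ i) → Fintype.card F - 1 ∣ i := by
  classical
  haveI : Fact (Nat.Prime 2) := ⟨Nat.prime_two⟩
  obtain ⟨u, hu⟩ := IsCyclic.exists_generator (α := Fˣ)
  have hord : orderOf u = Fintype.card F - 1 := by
    rw [orderOf_eq_card_of_forall_mem_zpowers hu, Nat.card_eq_fintype_card, Fintype.card_units]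
  let φ : Multiplicative F →* SL2 :=
    MonoidHom.mk' (fun b => uni b.toAdd) fun a b => (uni_add a.toAdd b.toAdd).symm
  let ψ : Fˣ →* SL2 := MonoidHom.mk' dia fun a b => (dia_mul a b).symm
  have hφ : Function.Injective φ := fun a b h => by
    have h1 : (uni a.toAdd : SL2).1 0 1 = (uni b.toAdd : SL2).1 0 1 :=
      congrArg (fun m : SL2 => m.1 0 1) h
    exact Multiplicative.toAdd.injective (by simpa [uni] using h1)
  let e : SL2 ≃* PSL2 := pslEquivSL.symm
  refine ⟨φ.range.map e.toMonoidHom, e (ψ u), ?_, ?_, ?_, ?_⟩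
  · rw [Subgroup.card_map_of_injective e.injective,
      ← Nat.card_congr (MonoidHom.ofInjective hφ).toEquiv, Nat.card_congr Multiplicative.toAdd,
      Nat.card_eq_fintype_card]
  · rintro _ ⟨_, ⟨b, rfl⟩, rfl⟩
    refine ⟨φ (Multiplicative.ofAdd ((u : F) * u * b.toAdd)), ⟨_, rfl⟩, ?_⟩
    show e _ = e (ψ u) * e (φ b) * (e (ψ u))⁻¹
    rw [← map_inv, ← map_mul, ← map_mul]
    refine congrArg e ?_
    show uni _ = dia u * uni b.toAdd * (dia u)⁻¹
    rw [dia_uni, mul_inv_cancel_right, toAdd_ofAdd]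
  · rw [← map_pow, ← map_pow, ← hord, pow_orderOf_eq_one, map_one, map_one]
  · intro i hi
    have h1 := hi (e (φ (Multiplicative.ofAdd (1 : F)))) ⟨_, ⟨_, rfl⟩, rfl⟩
    rw [← map_pow, ← map_mul, ← map_mul] at h1
    have h2 := e.injective h1
    rw [← map_pow] at h2
    have h3 : dia (u ^ i) * uni (1 : F) = uni (1 : F) * dia (u ^ i) := h2
    rw [dia_uni, mul_left_inj] at h3
    have h4 := congrArg (fun m : SL2 => m.1 0 1) h3
    simp only [uni, mul_one, Matrix.of_apply, Matrix.cons_val', Matrix.cons_val_zero,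
      Matrix.cons_val_one, Matrix.empty_val', Matrix.cons_val_fin_one] at h4
    have h5 : (u ^ i) ^ 2 = 1 := by
      apply Units.ext
      rw [pow_two, Units.val_mul, Units.val_one]
      exact h4
    rw [← pow_mul] at h5
    have h6 : Fintype.card F - 1 ∣ i * 2 := hord ▸ orderOf_dvd_of_pow_eq_one h5
    refine (Nat.Coprime.dvd_of_dvd_mul_right ?_ h6)
    obtain ⟨n, -, hn⟩ := FiniteField.card F 2
    have hpos : 0 < Fintype.card F := Fintype.card_pos
    refine Nat.Coprime.symm ((Nat.Prime.coprime_iff_not_dvd Nat.prime_two).2 ?_)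
    have heven : 2 ∣ Fintype.card F := hn ▸ dvd_pow_self 2 n.ne_zero
    omega

end CfsgLib.Walter.RankFour
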