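import Cfsg.Agent.Lib.Walter.RankFour.Defs
import Cfsg.Prelude.Def_Solvable

/-!
# Walter's theorem, rank at least four: local and global configurations

Shared vocabulary of the rank `≥ 4` argument (coord/notes/Walter_rank4_helper17.md).
-/

set_option autoImplicit false
set_option linter.unusedSectionVars false

namespace CfsgLib.Walter.RankFour

open Subgroup

universe u

variable {G : Type u} [Group G]

/-- `g` normalises `S`, moves every element of `S` only inside `W ≤ S`, and permutes the involutions of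
`W` transitively. -/
structure Cycle (S W : Subgroup G) (g : G) : Prop where
  mem_normalizer : g ∈ normalizer (S : Set G)
  le : W ≤ S
  four_le : 4 ≤ Nat.card W
  move : ∀ s ∈ S, g * s * g⁻¹ * s⁻¹ ∈ W
  trans : ∀ x ∈ W, x ≠ 1 → ∀ y ∈ W, y ≠ 1 → ∃ i : ℕ, g ^ i * x * (g ^ i)⁻¹ = y

/-- Every component is good. -/
def GoodComps (H : Type u) [Group H] : Prop :=
  ∀ L : Subgroup H, Cfsg.IsComponent L → Good ↥L

/-- The facts about the components of a group with abelian Sylow 2-subgroup `S` and trivial core. -/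
structure SplitFacts {H : Type u} [Group H] (S : Subgroup H) : Prop where
  le_normalizer : ∀ L : Subgroup H, Cfsg.IsComponent L → S ≤ normalizer (L : Set H)
  center : ∀ L : Subgroup H, Cfsg.IsComponent L → L ⊓ centralizer (L : Set H) = ⊥
  exists_cycle : ∀ L : Subgroup H, Cfsg.IsComponent L → ∃ g ∈ L, Cycle S (S ⊓ L) g
  centralizes : (∀ s ∈ S, s ^ 2 = 1) → ∀ L : Subgroup H, Cfsg.IsComponent L →
    ∀ s ∈ S, ∃ t ∈ S ⊓ L, s * t ∈ centralizer (L : Set H)

/-- `C_G(u)`. -/
abbrev cen (u : G) : Subgroup G := centralizer ({u} : Set G)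

/-- `C_G(u) / O(C_G(u))`. -/
abbrev CenBar (u : G) : Type u := ↥(cen u) ⧸ Cfsg.pPrimeCore 2 ↥(cen u)

/-- The projection onto `C_G(u) / O(C_G(u))`. -/
abbrev bar (u : G) : ↥(cen u) →* CenBar u := QuotientGroup.mk' (Cfsg.pPrimeCore 2 ↥(cen u))

/-- The image of a subgroup in `C_G(u) / O(C_G(u))`. -/
def img (u : G) (X : Subgroup G) : Subgroup (CenBar u) := (X.subgroupOf (cen u)).map (bar u)

/-- The part of `S` over a subgroup of `C_G(u) / O(C_G(u))`. -/
def piece (S : Subgroup G) (u : G) (L : Subgroup (CenBar u)) : Subgroup G :=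
  S ⊓ (L.comap (bar u)).map (cen u).subtype

/-- All components of all `C_G(u) / O(C_G(u))`, `u ∈ S#`, are good. -/
def GoodAt (S : Subgroup G) : Prop := ∀ u ∈ S, u ≠ 1 → GoodComps (CenBar u)

/-- At least three blocks `V i` of `S` permuted by `N(S)`: every component of an involution centralizer lies over
one block and is centralised by the others, and every block is the Sylow piece of a component of the
centralizer of each involution of the product of the others. -/
structure Blocks (S : Subgroup G) where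
  ι : Type u
  finite : Finite ι
  V : ι → Subgroup G
  three_le : 3 ≤ Nat.card ι
  four_le : ∀ i, 4 ≤ Nat.card (V i)
  sup_eq : ⨆ i, V i = S
  indep : ∀ i, V i ⊓ (⨆ j : {j : ι // j ≠ i}, V (j : ι)) = ⊥
  perm : ∀ n ∈ normalizer (S : Set G), ∀ i, ∃ j, (V i).map (MulAut.conj n).toMonoidHom = V j
  component : ∀ u ∈ S, u ≠ 1 → ∀ L : Subgroup (CenBar u), Cfsg.IsComponent L →
    ∃ i, piece S u L ≤ V i ∧ ∀ j, j ≠ i → img u (V j) ≤ centralizer (L : Set (CenBar u))
  exists_component : ∀ i, ∀ u ∈ (⨆ j : {j : ι // j ≠ i}, V (j : ι) : Subgroup G), u ≠ 1 →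
    ∃ L : Subgroup (CenBar u), Cfsg.IsComponent L ∧ piece S u L = V i

end CfsgLib.Walter.RankFour
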